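import Groth.Agent.KrullSch.AmitsurMain
import Groth.Agent.Brauer.SplitEqv
import Groth.Agent.BrSevSplit.Main
import Groth.Agent.S0558
import Mathlib

/-! The kernel of the restriction to the function field of a Severi–Brauer scheme. -/

set_option autoImplicit false
set_option backward.isDefEq.respectTransparency false
set_option backward.isDefEq.respectTransparency.types false
set_option linter.style.haveILetI false

universe u

open CategoryTheory CategoryTheory.Limits AlgebraicGeometry
open Groth.Agent.Brauer (Eqv IsCSA)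
open scoped TensorProduct

attribute [local instance] CategoryTheory.Abelian.hasFiniteBiproducts
attribute [local instance] Curv2.stalkAlgebra

noncomputable section

namespace Groth.Agent.KrullSch

variable {k : Type u} [Field k]

/-- A split form of projective space is integral. -/
theorem isIntegral_of_splitting {X : Scheme.{u}} {f : X ⟶ Spec (CommRingCat.of k)} {K : Type u} [Field K]
    [Algebra k K] {n : ℕ} (e : BrSev.Splitting f K n) : IsIntegral X := by
  haveI : IsIntegral (CohB1.ProjSpace n K) := Groth.Agent.BrSevSplit.isIntegral_projSpace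
  haveI : Surjective (Spec.map (CommRingCat.ofHom (algebraMap k K))) :=
    ⟨fun x => ⟨Classical.arbitrary _, Subsingleton.elim _ _⟩⟩
  haveI : Surjective (BrSev.proj f K) :=
    inferInstanceAs (Surjective (pullback.fst f (Spec.map (CommRingCat.ofHom (algebraMap k K)))))
  let q := e.iso.inv ≫ BrSev.proj f K
  haveI : Surjective q := inferInstance
  haveI : Nonempty X := ⟨q (Classical.arbitrary _)⟩
  haveI : PreirreducibleSpace X := by
    constructor
    have h := ((IrreducibleSpace.isIrreducible_univ (CohB1.ProjSpace n K)).image q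
      q.continuous.continuousOn).isPreirreducible
    rwa [Set.image_univ, q.surjective.range_eq] at h
  haveI : ∀ x : X, _root_.IsReduced (X.presheaf.stalk x) := fun x => by
    haveI := regular_of_splitting e x
    haveI := S0558.result (X.presheaf.stalk x)
    infer_instance
  haveI := isReduced_of_isReduced_stalk X
  haveI : IrreducibleSpace X := ⟨inferInstance⟩
  exact isIntegral_of_irreducibleSpace_of_isReduced X

theorem exists_splitting_of_isSBOf {X : Scheme.{u}} {f : X ⟶ Spec (CommRingCat.of k)} {A : Type u} [Ring A] [Algebra k A]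
    [Algebra.IsCentral k A] [IsSimpleRing A] {n : ℕ} (hA : Module.finrank k A = (n + 1) * (n + 1))
    (hX : BrSev.IsSBOf k A ((n + 1) * (n + 1) - (n + 1)) f) :
    Nonempty (BrSev.Splitting f (AlgebraicClosure k) n) := by
  obtain ⟨K, _, _, -, -, ⟨e⟩⟩ := BrSevSplit.exists_galois_splitting (Nat.succ_pos n) hA f hX
  exact exists_algClosure_splitting e

/-- The kernel of the restriction to the function field is generated by the algebra. -/
theorem splits_functionField_iff {A : Type u} [Ring A] [Algebra k A] [Algebra.IsCentral k A] [IsSimpleRing A]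
    {n : ℕ} (hn : 0 < n) (hA : Module.finrank k A = n * n) {X : Scheme.{u}} [X.Over (Spec (CommRingCat.of k))]
    [IsIntegral X] (hX : BrSev.IsSBOf k A (n * n - n) (X ↘ Spec (CommRingCat.of k)))
    {B : Type u} [Ring B] [Algebra k B] [Algebra.IsCentral k B] [IsSimpleRing B] [FiniteDimensional k B] :
    Curves.Splits k B X.functionField ↔ ∃ m : ℕ, Eqv k B (CSAGal.tpow k A m) := by
  obtain ⟨n, rfl⟩ : ∃ r, n = r + 1 := ⟨n - 1, by omega⟩
  obtain ⟨e⟩ := exists_splitting_of_isSBOf hA hX
  haveI := isProper_of_splitting e
  constructor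
  · intro h
    exact exists_eqv_tpow_of_splits rfl e hA hX h
  · rintro ⟨m, hm⟩
    exact Brauer.splits_of_eqv X.functionField ⟨inferInstance, inferInstance, inferInstance⟩ hm.symm
      (Brauer.splits_tpow X.functionField A (splits_functionField rfl hn hA hX) m)

/-- The function field splits every algebra whose Severi–Brauer scheme is birational to the scheme. -/
theorem exists_eqv_tpow_of_birational {A : Type u} [Ring A] [Algebra k A] [Algebra.IsCentral k A] [IsSimpleRing A]
    {B : Type u} [Ring B] [Algebra k B] [Algebra.IsCentral k B] [IsSimpleRing B]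
    {n m : ℕ} (hn : 0 < n) (hm : 0 < m) (hA : Module.finrank k A = n * n) (hB : Module.finrank k B = m * m)
    {X Y : Scheme.{u}} (f : X ⟶ Spec (CommRingCat.of k)) (g : Y ⟶ Spec (CommRingCat.of k))
    (hX : BrSev.IsSBOf k A (n * n - n) f) (hY : BrSev.IsSBOf k B (m * m - m) g)
    (φ : Scheme.PartialIso X Y) (hφ : φ.IsOver f g) : ∃ i : ℕ, Eqv k B (CSAGal.tpow k A i) := by
  haveI : Module.Finite k B := Module.finite_of_finrank_pos (by rw [hB]; exact Nat.mul_pos hm hm)
  obtain ⟨n, rfl⟩ : ∃ r, n = r + 1 := ⟨n - 1, by omega⟩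
  obtain ⟨e⟩ := exists_splitting_of_isSBOf hA hX
  haveI := isIntegral_of_splitting e
  letI : X.Over (Spec (CommRingCat.of k)) := ⟨f⟩
  refine (splits_functionField_iff hn hA (X := X) hX).1 ?_
  obtain ⟨b⟩ := hY
  let F : Type u := X.functionField
  have hg : X.fromSpecStalk (genericPoint X) ≫ f = Spec.map (CommRingCat.ofHom (algebraMap k F)) := by
    have h : f = X.toSpecΓ ≫ Spec.map ((Scheme.ΓSpecIso (CommRingCat.of k)).inv ≫ f.appTop) := by
      rw [Spec.map_comp, ← Scheme.toSpecΓ_naturality_assoc, ← SpecMap_ΓSpecIso_hom, ← Spec.map_comp,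
        Iso.inv_hom_id, Spec.map_id, Category.comp_id]
    conv_lhs => rw [h, Scheme.fromSpecStalk_toSpecΓ_assoc, ← Spec.map_comp]
    rfl
  have hmem : genericPoint X ∈ φ.source :=
    ((genericPoint_spec X).mem_open_set_iff φ.source.2).2 (by
      obtain ⟨z, hz⟩ := φ.dense_source.nonempty
      exact ⟨z, trivial, hz⟩)
  have hr : Set.range (X.fromSpecStalk (genericPoint X)) ⊆ Set.range φ.source.ι := by
    rw [Scheme.Opens.range_ι, Scheme.range_fromSpecStalk]
    rintro y hy
    exact hy.mem_open φ.source.2 hmem
  let h := IsOpenImmersion.lift φ.source.ι (X.fromSpecStalk (genericPoint X)) hr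
  refine splits_of_point hm hB (F := F) (b.bij F ⟨h ≫ φ.iso.hom ≫ φ.target.ι, ?_⟩)
  rw [← hg, Category.assoc, Category.assoc, ← IsOpenImmersion.lift_fac φ.source.ι
    (X.fromSpecStalk (genericPoint X)) hr, Category.assoc]
  exact congrArg (h ≫ ·) hφ

end Groth.Agent.KrullSch
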