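import Groth.Agent.KrullSch.EndSimple
import Groth.Agent.P1Split.Dim
import Groth.Agent.TMul.RelAmple
import Groth.Agent.GrT.TwistMul
import Groth.Agent.CohFinite.ProjSpace
import Groth.Agent.CohFinite.Serre
import Groth.Agent.PnHodge.Coh
import Groth.Agent.W7Hull.InvDual
import Groth.Agent.ResDesc.Dual
import Groth.Agent.CycPB.DualFilt
import Groth.Agent.WeilFin.DualPow
import Groth.Agent.BrSevSplit.GrassOne
import Groth.Prelude.Def_PicLoc
import Mathlib

/-! Ranks of indecomposable modules of twisting type. -/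

set_option autoImplicit false
set_option backward.isDefEq.respectTransparency false
set_option backward.isDefEq.respectTransparency.types false
set_option linter.style.haveILetI false

universe u

open CategoryTheory CategoryTheory.Limits AlgebraicGeometry

attribute [local instance] CategoryTheory.Abelian.hasFiniteBiproducts

namespace Groth.Agent.KrullSch

/-- An inverse of an invertible module is its dual. -/
theorem nonempty_dual_iso {Y : Scheme.{u}} {L M : Y.Modules} (hL : PicF.IsInvertible L)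
    (θ : CohB1.tensorMod L M ≅ Coh.structureModule Y) : Nonempty (RefHull.dual L ≅ M) := by
  haveI := W7Hull.isIso_evDual hL
  exact ⟨(TMul.leftUnitIso (RefHull.dual L)).symm ≪≫ TMul.commIso _ _ ≪≫ PicGrp.tensorModIso (Iso.refl _) θ.symm ≪≫
    (TMul.assocIso (RefHull.dual L) L M).symm ≪≫
    PicGrp.tensorModIso (TMul.commIso _ _ ≪≫ asIso (W7Hull.evDual L)) (Iso.refl _) ≪≫ TMul.leftUnitIso M⟩

/-- An invertible module with division endomorphism ring is indecomposable. -/
theorem indec_of_end {C : Type*} [Category C] [Abelian C] {L : C} (h0 : ¬ IsZero L)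
    (hL : ∀ ψ : L ⟶ L, ψ = 0 ∨ IsIso ψ) : Indec L := by
  refine ⟨h0, fun A B ⟨θ⟩ => ?_⟩
  rcases hL (θ.hom ≫ biprod.fst ≫ biprod.inl ≫ θ.inv) with h | h
  · left
    have h1 := congrArg (fun z => biprod.inl ≫ θ.inv ≫ z ≫ θ.hom ≫ biprod.fst) h
    simp at h1
    exact (IsZero.iff_id_eq_zero A).2 h1
  · right
    have h2 : biprod.inr ≫ θ.inv ≫ (θ.hom ≫ biprod.fst ≫ biprod.inl ≫ θ.inv) = 0 := by simp
    rw [← Category.assoc, Preadditive.IsIso.comp_right_eq_zero] at h2
    have h3 := congrArg (fun z => z ≫ θ.hom ≫ biprod.snd) h2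
    simp at h3
    exact (IsZero.iff_id_eq_zero B).2 h3

variable {k : Type u} [Field k] {X : Scheme.{u}} {n : ℕ} {K : Type u} [Field K] [Algebra k K]
  {f : X ⟶ Spec (CommRingCat.of k)} (e : BrSev.Splitting f K n)

theorem isInvertible_twist (j : ℤ) : PicF.IsInvertible (e.twist j) :=
  PicLoc.isInvertible_pullback e.iso.hom (CohFinite.isInvertible_twist n K j)

theorem nonempty_dual_twist (j : ℤ) : Nonempty (RefHull.dual (e.twist j) ≅ e.twist (-j)) := by
  obtain ⟨t⟩ := GrT.nonempty_twist_tensor_iso (CohB1.polyGrading n K) (a := j) (b := -j) (c := 0)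
    (GrT.hasFracGens_of_cover (fun x => let ⟨i, hi⟩ := CohFinite.cov_X n K x
      ⟨_, MvPolynomial.isHomogeneous_X K i.down, hi⟩) (-j) |> fun h => by simpa using h) (add_neg_cancel j)
  obtain ⟨z⟩ := PnHodge.nonempty_twist_zero_iso (n := n) (A := K)
  obtain ⟨v⟩ := TMul.nonempty_pullTensorIso e.iso.hom (Twist.twistProjSpace n K j) (Twist.twistProjSpace n K (-j))
  exact nonempty_dual_iso (isInvertible_twist e j)
    (v ≪≫ (Scheme.Modules.pullback e.iso.hom).mapIso (TMul.commIso _ _ ≪≫ t ≪≫ z) ≪≫ DerPerf.pullUnitIso _)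

variable [IsProper f] [IsAlgClosed K]

theorem indec_twist (j : ℤ) : Indec (e.twist j) := by
  haveI : IsProper (pullback.snd f (Spec.map (CommRingCat.ofHom (algebraMap k K)))) := inferInstance
  haveI := BrSevSplit.isIntegral_projSpace (k := K) (n := n)
  haveI : Nonempty (BrSev.bc f K) :=
    ⟨e.iso.inv (IsIntegral.nonempty (X := CohB1.ProjSpace n K)).some⟩
  haveI : IsIntegral (BrSev.bc f K) := isIntegral_of_isOpenImmersion e.iso.hom
  refine indec_of_end (fun h => ?_) (end_invertible_eq_zero_or_isIso (pullback.snd f _) (isInvertible_twist e j))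
  obtain ⟨y⟩ := (IsIntegral.nonempty (X := BrSev.bc f K))
  obtain ⟨U, s, hy, hs⟩ := TMul.exists_isGen (isInvertible_twist e j) y
  have hs0 : Subsingleton Γ(e.twist j, U) := by
    have h1 : IsZero ((Scheme.Modules.toPresheaf (BrSev.bc f K)).obj (e.twist j)) := Functor.map_isZero _ h
    exact AddCommGrpCat.subsingleton_of_isZero (h1.obj _)
  have h01 : (0 : Γ(BrSev.bc f K, U)) = 1 := (hs U le_rfl).1 (Subsingleton.elim _ _)
  haveI : Nonempty U := ⟨⟨y, hy⟩⟩
  exact zero_ne_one h01

/-- If indecomposable modules have types `O(j)` and `O(-j)`, the first rank is a multiple of the second. -/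
theorem dvd_rank [Algebra.IsAlgebraic k K] (j : ℤ) {W W' : X.Modules} (hW : FlatMod.IsFinLocFree W)
    (hW' : FlatMod.IsFinLocFree W') (hWi : Indec W) (hW'i : Indec W') {r r' : ℕ} (hr : 0 < r)
    (a : BrSev.bcMod f K W ≅ BrSev.pow (e.twist j) r) (a' : BrSev.bcMod f K W' ≅ BrSev.pow (e.twist (-j)) r') :
    r' ∣ r := by
  classical
  letI : X.Over (Spec (CommRingCat.of k)) := ⟨f⟩
  haveI : IsProper (X ↘ Spec (CommRingCat.of k)) := inferInstanceAs (IsProper f)
  haveI : IsLocallyNoetherian X := LocallyOfFiniteType.isLocallyNoetherian f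
  letI : (BrSev.bc f K).Over (Spec (CommRingCat.of K)) := ⟨pullback.snd f _⟩
  haveI : IsProper (BrSev.bc f K ↘ Spec (CommRingCat.of K)) :=
    inferInstanceAs (IsProper (pullback.snd f (Spec.map (CommRingCat.ofHom (algebraMap k K)))))
  haveI : IsLocallyNoetherian (BrSev.bc f K) :=
    LocallyOfFiniteType.isLocallyNoetherian (BrSev.bc f K ↘ Spec (CommRingCat.of K))
  let g := BrSev.proj f K
  have sq : IsPullback g (BrSev.bc f K ↘ Spec (CommRingCat.of K)) (X ↘ Spec (CommRingCat.of k))
      (Spec.map (CommRingCat.ofHom (algebraMap k K))) := IsPullback.of_hasPullback _ _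
  have hD : FlatMod.IsFinLocFree (RefHull.dual W) := ResDesc.isFinLocFree_dual hW
  obtain ⟨p⟩ := CycPB.nonempty_pullback_dual g hW
  obtain ⟨q⟩ := WeilFin.nonempty_dualSigma (fun _ : Fin r => e.twist j) (fun _ : Fin r => e.twist (-j))
    fun _ => (nonempty_dual_twist e j).some
  let c : (Scheme.Modules.pullback g).obj (RefHull.dual W) ≅ ∐ fun _ : Fin r => e.twist (-j) :=
    p ≪≫ RefFun.dualIso a ≪≫ q
  have hLc : Coh.IsCoh (e.twist (-j)) :=
    K0Coh.isCoh_of_isFinLocFree (ResDesc.isFinLocFree_of_isInvertible (isInvertible_twist e (-j)))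
  have hLi := indec_twist e (-j)
  haveI := finite_end (k := K) hLc
  have hcard : ∀ {a b : ℕ}, ((∐ fun _ : Fin a => e.twist (-j)) ≅ ∐ fun _ : Fin b => e.twist (-j)) → a = b := by
    intro a b θ
    obtain ⟨q, -⟩ := exists_equiv K _ (fun _ : Fin a => e.twist (-j)) (fun _ : Fin b => e.twist (-j)) rfl
      (fun _ => hLi) (fun _ => hLi) (fun _ => inferInstance)
      (biproduct.isoCoproduct _ ≪≫ θ ≪≫ (biproduct.isoCoproduct _).symm)
    simpa using Fintype.card_congr q
  have hD0 : ¬ IsZero (RefHull.dual W) := fun h => by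
    haveI : PreservesColimitsOfSize.{0, 0} (Scheme.Modules.pullback g) :=
      (Scheme.Modules.pullbackPushforwardAdjunction g).leftAdjoint_preservesColimits
    have h1 := (Functor.map_isZero (Scheme.Modules.pullback g) h).of_iso c.symm
    refine hLi.1 ((IsZero.iff_id_eq_zero _).2 ?_)
    rw [← biproduct.ι_π_self (fun _ : Fin r => e.twist (-j)) ⟨0, hr⟩,
      (h1.of_iso (biproduct.isoCoproduct fun _ : Fin r => e.twist (-j))).eq_of_tgt (biproduct.ι _ _) 0, zero_comp]
  obtain ⟨G, m, hG, hGi, ⟨b⟩, t, ⟨d⟩⟩ := exists_iso_pow_indec g sq hD hD0 (e.twist (-j)) hLc hLi r c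
  obtain ⟨i⟩ := nonempty_iso_of_same_type g sq (K0Coh.isCoh_of_isFinLocFree hG) (K0Coh.isCoh_of_isFinLocFree hW')
    hGi hW'i (e.twist (-j)) t r' d a'
  obtain rfl : t = r' := hcard (d.symm ≪≫ (Scheme.Modules.pullback g).mapIso i ≪≫ a')
  refine ⟨m, hcard (c.symm ≪≫ (Scheme.Modules.pullback g).mapIso b ≪≫ pullPowIso g G m ≪≫
    (Sigma.mapIso fun _ => d) ≪≫ (sigmaSigmaIso (fun _ : Fin m => Fin t) fun _ _ => e.twist (-j)) ≪≫
    Sigma.whiskerEquiv ((Equiv.sigmaEquivProd (Fin m) (Fin t)).trans ((Equiv.prodComm _ _).trans finProdFinEquiv))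
      (f := fun _ => e.twist (-j)) (g := fun _ => e.twist (-j)) fun _ => Iso.refl _)⟩

end Groth.Agent.KrullSch
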