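import Groth.Agent.KrullSch.SBGalois
import Groth.Agent.S10965
import Groth.Agent.S3573
import Groth.Agent.S3572
import Groth.Agent.ProjMor.Generated
import Groth.Agent.ProjMor.PullSec
import Groth.Agent.SerrePn.Perfect
import Groth.Agent.W7FlatBC.Sections
import Groth.Agent.W7Cech.GlobSec
import Groth.Agent.W7Cech.BCSec
import Mathlib

/-! Forms of the twists embed Severi–Brauer schemes into projective spaces. -/

set_option autoImplicit false
set_option backward.isDefEq.respectTransparency false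
set_option backward.isDefEq.respectTransparency.types false
set_option linter.style.haveILetI false
set_option maxHeartbeats 1000000

universe u

open CategoryTheory CategoryTheory.Limits AlgebraicGeometry TopologicalSpace
open scoped TensorProduct
open Groth.Agent.QC (res resO res_res res_self res_smul app_res)
open Groth.Agent.W7Cech (secA secRing)

attribute [local instance] CategoryTheory.Abelian.hasFiniteBiproducts

noncomputable section

namespace Groth.Agent.KrullSch

/-- The coordinates generate. -/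
theorem exists_mem_genLocus_coord (n : ℕ) (K : Type u) [CommRing K] (x : CohB1.ProjSpace n K) :
    ∃ i, x ∈ CohB1.genLocus _ (TMul.homOf (L := Twist.twistProjSpace n K 1) (ProjUP.coord n K i)) := by
  obtain ⟨i, hi⟩ := CohFinite.cov_X n K x
  refine ⟨i.down, ?_⟩
  have hc : ProjUP.coord n K i.down = ProjMor.sec1 (MvPolynomial.isHomogeneous_X K i.down) :=
    (ProjMor.sec1_eq_globalOf _).symm
  rw [hc]
  change x ∈ CohB1.genLocus (Twist.twist (CohB1.polyGrading n K) 1) _
  rw [ProjMor.genLocus_sec1 (ProjMor.genDegOne_projSpace n K) (MvPolynomial.isHomogeneous_X K i.down)]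
  exact (ProjectiveSpectrum.mem_basicOpen _ _ _).mpr hi

theorem generatedBy_coord (n : ℕ) (K : Type u) [CommRing K] :
    ProjUP.GeneratedBy (Twist.twistProjSpace n K 1) (ProjUP.coord n K) :=
  ProjMor.generatedBy_of_mem_genLocus _ (exists_mem_genLocus_coord n K)

/-- Positive twists are very ample. -/
theorem isRelVeryAmplePn_twist (n : ℕ) (K : Type u) [Field K] : ∀ d : ℕ,
    RelAmple.IsRelVeryAmplePn (CohB1.ProjSpace.toSpec n K) (Twist.twistProjSpace n K ((d : ℤ) + 1)) := by
  intro d
  induction d with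
  | zero =>
    letI : Algebra (ULift.{u} ℤ) K := ((Int.castRingHom K).comp ULift.ringEquiv.toRingHom).toAlgebra
    obtain ⟨κ, hκ, hκt⟩ := exists_projMap (ULift.{u} ℤ) K n
    have hs : Spec.map (CommRingCat.ofHom (algebraMap (ULift.{u} ℤ) K)) =
        specULiftZIsTerminal.from (Spec (CommRingCat.of K)) := specULiftZIsTerminal.hom_ext _ _
    rw [hs] at hκ
    refine ⟨n, hκ.isoPullback.hom, inferInstance, hκ.isoPullback_hom_snd, ⟨?_⟩⟩
    exact (hκt 1).some.symm ≪≫ (Scheme.Modules.pullbackCongr hκ.isoPullback_hom_fst.symm).app _ ≪≫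
      ((Scheme.Modules.pullbackComp hκ.isoPullback.hom
        (pullback.fst (CohB1.ProjSpace.toSpec n (ULift.{u} ℤ)) (specULiftZIsTerminal.from _))).app _).symm
  | succ d ih =>
    obtain ⟨m, i, h1, h2, ⟨c⟩⟩ := S10965.result (CohB1.ProjSpace.toSpec n K) _ _
      (CohFinite.isInvertible_twist n K _) ih (CohFinite.isInvertible_twist n K 1) (ProjUP.coord n K)
      (generatedBy_coord n K)
    obtain ⟨t⟩ := RegCx.twist_twist (k := K) (n := n) ((d : ℤ) + 1) 1 (((d + 1 : ℕ) : ℤ) + 1) (by push_cast; ring)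
    exact ⟨m, i, h1, h2, ⟨t.symm ≪≫ c⟩⟩

/-- Global sections with their linear structure are `H^0`. -/
theorem nonempty_secA_hh0 (A : Type u) [CommRing A] {Y : Scheme.{u}} [Y.Over (Spec (CommRingCat.of A))] (M : Y.Modules) :
    Nonempty (((secA A (⊤ : Y.Opens)).obj M : Type u) ≃ₗ[A] Coh.HH Y M 0) :=
  ⟨{ toFun := fun x => W7Cech.gsH0 A M x
     invFun := fun z => (W7Cech.gsH0 A M).symm z
     left_inv := fun x => (W7Cech.gsH0 A M).symm_apply_apply x
     right_inv := fun z => (W7Cech.gsH0 A M).apply_symm_apply z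
     map_add' := fun x y => map_add (W7Cech.gsH0 A M) x y
     map_smul' := fun a x => (congrArg (fun c : Γ(Y, ⊤) => W7Cech.gsH0 A M (c • (show Γ(M, ⊤) from x)))
       (QC.resO_self (le_refl (⊤ : Y.Opens)) (Coh.toGlobal (Y ↘ Spec (CommRingCat.of A)) a))).trans
       (W7Cech.gsH0_smul A M a x) }⟩

section Span

variable {k : Type u} [Field k] {K : Type u} [Field K] [Algebra k K] {X X' : Scheme.{u}}
  [X.Over (Spec (CommRingCat.of k))] [X'.Over (Spec (CommRingCat.of K))] (g : X' ⟶ X)
  (sq : IsPullback g (X' ↘ Spec (CommRingCat.of K)) (X ↘ Spec (CommRingCat.of k))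
    (Spec.map (CommRingCat.ofHom (algebraMap k K))))

include sq in
/-- Global sections of the base change are combinations of those below, if the dimensions agree. -/
theorem exists_combination {M : X.Modules} (hM : Coh.IsQCoh M) {N : ℕ}
    (b : Module.Basis (Fin N) k ((secA k (⊤ : X.Opens)).obj M : Type u))
    (hK : Module.finrank K ((secA K (⊤ : X'.Opens)).obj ((Scheme.Modules.pullback g).obj M) : Type u) = N)
    [Module.Finite K ((secA K (⊤ : X'.Opens)).obj ((Scheme.Modules.pullback g).obj M) : Type u)]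
    (σ : Γ((Scheme.Modules.pullback g).obj M, ⊤)) :
    ∃ C : Fin N → K, σ = ∑ t, secRing K (⊤ : X'.Opens) (C t) • ProjUP.pullSec g M (b t) := by
  classical
  let V := ((secA k (⊤ : X.Opens)).obj M : Type u)
  let V' := ((secA K (⊤ : X'.Opens)).obj ((Scheme.Modules.pullback g).obj M) : Type u)
  let v : Fin N → V' := fun t => OmegaSh.pullSect g M ⊤ (b t)
  suffices hli : LinearIndependent K v by
    have hspan : Submodule.span K (Set.range v) = ⊤ := by
      refine Submodule.eq_top_of_finrank_eq ?_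
      rw [finrank_span_eq_card hli, Fintype.card_fin]
      exact hK.symm
    have hmem : (show V' from σ) ∈ Submodule.span K (Set.range v) := by rw [hspan]; trivial
    obtain ⟨C, hC⟩ := (Submodule.mem_span_range_iff_exists_fun K).1 hmem
    exact ⟨C, hC.symm⟩
  rw [Fintype.linearIndependent_iff]
  intro c hc
  let e := Module.Basis.ofVectorSpace k K
  let x : K ⊗[k] V := ∑ t, c t ⊗ₜ[k] b t
  suffices hx : x = 0 by
    intro t
    have h1 := congrArg (TensorProduct.equivFinsuppOfBasisRight b) hx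
    rw [map_zero, map_sum] at h1
    have h2 := congrArg (fun z : Fin N →₀ K => z t) h1
    simpa [TensorProduct.equivFinsuppOfBasisRight_apply_tmul, Finsupp.finsetSum_apply, Finsupp.single_apply] using h2
  obtain ⟨w, hw⟩ : ∃ w : Module.Basis.ofVectorSpaceIndex k K →₀ V,
      (TensorProduct.equivFinsuppOfBasisLeft e).symm w = x :=
    ⟨_, LinearEquiv.symm_apply_apply (TensorProduct.equivFinsuppOfBasisLeft e) x⟩
  suffices hw0 : w = 0 by rw [← hw, hw0, map_zero]
  refine Finsupp.ext fun i => ?_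
  refine QC.section_eq_of_locally fun y _ => ?_
  obtain ⟨U, hyU, -⟩ := KosExt.exists_affine_le (X := X) (O := ⊤) (x := y) trivial
  refine ⟨U.1, le_top, hyU, ?_⟩
  let W := ((secA k U.1).obj M : Type u)
  let W' := ((secA K (g ⁻¹ᵁ U.1)).obj ((Scheme.Modules.pullback g).obj M) : Type u)
  letI : Module k W' := Module.compHom W' (algebraMap k K)
  haveI : IsScalarTower k K W' := IsScalarTower.of_algebraMap_smul fun _ _ => rfl
  have hb := W7Cech.isBaseChange_pullSec k K g sq hM U.2
  let r : V →ₗ[k] W :=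
    { toFun := fun s => res M (le_top : U.1 ≤ ⊤) s
      map_add' := fun s s' => map_add _ s s'
      map_smul' := fun a s => by
        refine (res_smul M (le_top : U.1 ≤ ⊤) (secRing k (⊤ : X.Opens) a) s).trans ?_
        rw [W7Cech.resO_secRing]
        rfl }
  have h0 : hb.equiv (LinearMap.lTensor K r x) = 0 := by
    rw [map_sum, map_sum]
    refine Eq.trans (Finset.sum_congr rfl fun t _ => ?_)
      ((map_sum (res ((Scheme.Modules.pullback g).obj M) (le_top : g ⁻¹ᵁ U.1 ≤ ⊤)) (fun t => c t • v t)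
        Finset.univ).symm.trans ((congrArg _ hc).trans (map_zero _)))
    rw [LinearMap.lTensor_tmul, hb.equiv_tmul]
    refine Eq.symm ((res_smul _ (le_top : g ⁻¹ᵁ U.1 ≤ ⊤) (secRing K (⊤ : X'.Opens) (c t)) _).trans ?_)
    rw [W7Cech.resO_secRing]
    refine congrArg (fun z : W' => c t • z) ?_
    exact (PBundle.pullSect_res g M (le_top : U.1 ≤ ⊤) (b t)).symm
  have h1 : LinearMap.lTensor K r x = 0 := hb.equiv.injective (h0.trans (map_zero _).symm)
  rw [← hw, TensorProduct.equivFinsuppOfBasisLeft_symm_apply, Finsupp.sum, map_sum] at h1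
  simp only [LinearMap.lTensor_tmul] at h1
  have h2 := congrArg (fun z => TensorProduct.equivFinsuppOfBasisLeft e z i) h1
  simp only [map_sum, map_zero, Finsupp.coe_zero, Pi.zero_apply, Finsupp.finsetSum_apply,
    TensorProduct.equivFinsuppOfBasisLeft_apply_tmul, Finsupp.mapRange_apply, Module.Basis.repr_self,
    Finsupp.single_apply, ite_smul, one_smul, zero_smul] at h2
  rw [Finset.sum_ite_eq'] at h2
  show r (w i) = r 0
  rw [map_zero]
  split_ifs at h2 with hi
  · exact h2
  · rw [Finsupp.notMem_support_iff.1 hi, map_zero]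

end Span

variable {k : Type u} [Field k] {X : Scheme.{u}} {f : X ⟶ Spec (CommRingCat.of k)} [IsProper f] {n : ℕ}
  {K : Type u} [Field K] [Algebra k K] (e : BrSev.Splitting f K n)

/-- A form of a positive twist gives a closed immersion into projective space. -/
theorem exists_closedImmersion_of_type {d : ℕ} (hd : 0 < d) {M : X.Modules} (hM : PicF.IsInvertible M)
    (hMt : BrSev.IsTwPow e (d : ℤ) 1 M) :
    ∃ (N : ℕ) (ρ : X ⟶ CohB1.ProjSpace N k), N + 1 = Nat.choose (n + d) d ∧ IsClosedImmersion ρ ∧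
      ρ ≫ CohB1.ProjSpace.toSpec N k = f ∧
      Nonempty ((Scheme.Modules.pullback ρ).obj (Twist.twistProjSpace N k 1) ≅ M) := by
  classical
  letI : X.Over (Spec (CommRingCat.of k)) := ⟨f⟩
  haveI : IsProper (X ↘ Spec (CommRingCat.of k)) := inferInstanceAs (IsProper f)
  haveI : IsLocallyNoetherian X := LocallyOfFiniteType.isLocallyNoetherian f
  haveI : CompactSpace X := QuasiCompact.compactSpace_of_compactSpace f
  haveI : QuasiSeparatedSpace X := quasiSeparatedSpace_of_quasiSeparated f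
  let T := BrSev.bc f K
  letI : T.Over (Spec (CommRingCat.of K)) := ⟨BrSev.bcTo f K⟩
  haveI : IsProper (BrSev.bc f K ↘ Spec (CommRingCat.of K)) :=
    inferInstanceAs (IsProper (pullback.snd f (Spec.map (CommRingCat.ofHom (algebraMap k K)))))
  let g := BrSev.proj f K
  have sq : IsPullback g (T ↘ Spec (CommRingCat.of K)) (X ↘ Spec (CommRingCat.of k))
      (Spec.map (CommRingCat.ofHom (algebraMap k K))) := IsPullback.of_hasPullback _ _
  obtain ⟨a⟩ := hMt
  let one : BrSev.pow (e.twist (d : ℤ)) 1 ≅ e.twist (d : ℤ) :=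
    { hom := Sigma.desc fun _ => 𝟙 _
      inv := Sigma.ι (fun _ : Fin 1 => e.twist (d : ℤ)) 0
      hom_inv_id := Sigma.hom_ext _ _ fun i => by
        rw [Sigma.ι_desc_assoc, Category.id_comp, Category.comp_id, Subsingleton.elim i 0]
      inv_hom_id := Sigma.ι_desc _ _ }
  let θ : (Scheme.Modules.pullback g).obj M ≅ e.twist (d : ℤ) := a ≪≫ one
  -- dimensions
  have hMc : Coh.IsCoh M := K0Coh.isCoh_of_isFinLocFree (ResDesc.isFinLocFree_of_isInvertible hM)
  haveI : IsIso (Spec.map (CommRingCat.ofHom (algebraMap K K))) := by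
    rw [Algebra.algebraMap_self, CommRingCat.ofHom_id, Spec.map_id]
    infer_instance
  have sqe : IsPullback e.iso.hom (T ↘ Spec (CommRingCat.of K))
      ((CohB1.ProjSpace n K) ↘ Spec (CommRingCat.of K))
      (Spec.map (CommRingCat.ofHom (algebraMap K K))) := IsPullback.of_horiz_isIso ⟨by
    rw [Algebra.algebraMap_self, CommRingCat.ofHom_id, Spec.map_id, Category.comp_id]
    exact e.comm⟩
  haveI : CompactSpace (CohB1.ProjSpace n K) :=
    haveI := CohFinite.isNoetherian_projSpace n K
    inferInstance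
  haveI : QuasiSeparatedSpace (CohB1.ProjSpace n K) :=
    haveI := CohFinite.isNoetherian_projSpace n K
    inferInstance
  obtain ⟨β₁⟩ := W7FlatBC.nonempty_hh_baseChange K K e.iso.hom sqe (Twist.twistProjSpace n K (d : ℤ))
    (CohFinite.isCoh_twist n K _).1 0
  obtain ⟨β⟩ := W7FlatBC.nonempty_hh_baseChange k K g sq M hMc.1 0
  have hdT : Module.finrank K (Coh.HH T ((Scheme.Modules.pullback g).obj M) 0) = (n + d).choose d := by
    refine (CohFinite.hhEquiv K θ 0).finrank_eq.trans ?_
    refine β₁.finrank_eq.symm.trans ?_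
    rw [Module.finrank_baseChange]
    exact SerrePn.finrank_h0 K n d
  have hdX : Module.finrank k ((secA k (⊤ : X.Opens)).obj M : Type u) = (n + d).choose d := by
    refine (nonempty_secA_hh0 k M).some.finrank_eq.trans ?_
    rw [← hdT, ← β.finrank_eq, Module.finrank_baseChange]
  have hpos : 0 < (n + d).choose d := Nat.choose_pos (Nat.le_add_left d n)
  obtain ⟨N, hN⟩ : ∃ N, N + 1 = (n + d).choose d := ⟨(n + d).choose d - 1, Nat.sub_add_cancel hpos⟩
  haveI : Module.Finite k ((secA k (⊤ : X.Opens)).obj M : Type u) :=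
    Module.finite_of_finrank_pos (by rw [hdX]; exact hpos)
  let b := Module.finBasisOfFinrankEq k ((secA k (⊤ : X.Opens)).obj M : Type u) (hdX.trans hN.symm)
  have hdT' : Module.finrank K ((secA K (⊤ : T.Opens)).obj ((Scheme.Modules.pullback g).obj M) : Type u) = N + 1 :=
    (nonempty_secA_hh0 K ((Scheme.Modules.pullback g).obj M)).some.finrank_eq.trans (hdT.trans hN.symm)
  haveI : Module.Finite K ((secA K (⊤ : T.Opens)).obj ((Scheme.Modules.pullback g).obj M) : Type u) :=
    Module.finite_of_finrank_pos (by rw [hdT']; exact Nat.succ_pos N)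
  let s : Fin (N + 1) → ProjUP.Γm M := fun t => b t
  have hcomb : ∀ σ : Γ((Scheme.Modules.pullback g).obj M, ⊤),
      ∃ C : Fin (N + 1) → K, σ = ∑ t, secRing K (⊤ : T.Opens) (C t) • ProjUP.pullSec g M (s t) :=
    fun σ => exists_combination g sq hMc.1 b hdT' σ
  -- an immersion upstairs given by sections
  obtain ⟨D, rfl⟩ : ∃ D, d = D + 1 := ⟨d - 1, by omega⟩
  obtain ⟨m, i₁, hi₁, hi₂, ⟨c₁⟩⟩ := isRelVeryAmplePn_twist n K D
  let ι := e.iso.hom ≫ i₁
  haveI : Mono ι := by
    haveI := hi₁
    exact inferInstanceAs (Mono (e.iso.hom ≫ i₁))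
  let pz := pullback.fst (CohB1.ProjSpace.toSpec m (ULift.{u} ℤ)) (specULiftZIsTerminal.from (Spec (CommRingCat.of K)))
  let ι₀ := ι ≫ pz
  let O := Twist.twistProjSpace m (ULift.{u} ℤ) 1
  let τ₀ : (Scheme.Modules.pullback ι₀).obj O ≅ (Scheme.Modules.pullback g).obj M :=
    ((Scheme.Modules.pullbackComp ι pz).app O).symm ≪≫
      ((Scheme.Modules.pullbackComp e.iso.hom i₁).app _).symm ≪≫
      (Scheme.Modules.pullback e.iso.hom).mapIso (c₁.symm ≪≫ eqToIso (by push_cast; rfl)) ≪≫ θ.symm
  choose C hC using fun l => hcomb (τ₀.hom.app ⊤ (ProjUP.pullSec ι₀ O (ProjUP.coord m _ l)))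
  -- generation downstairs
  have hgM : PicF.IsInvertible ((Scheme.Modules.pullback g).obj M) := PicLoc.isInvertible_pullback g hM
  have hgenT : ∀ y : T, ∃ t, g y ∈ CohB1.genLocus M (TMul.homOf (s t)) := fun y => by
    by_contra hn
    push Not at hn
    obtain ⟨l, hl⟩ : ∃ l, y ∈ CohB1.genLocus _ (TMul.homOf (τ₀.hom.app ⊤ (ProjUP.pullSec ι₀ O (ProjUP.coord m _ l)))) := by
      obtain ⟨l, hl⟩ := exists_mem_genLocus_coord m (ULift.{u} ℤ) (ι₀ y)
      refine ⟨l, ?_⟩
      rw [ProjMor.homOf_app, TMul.genLocus_comp,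
        ProjMor.genLocus_pullSec ι₀ (CohFinite.isInvertible_twist m _ 1)]
      exact hl
    have hgen : ProjUP.GeneratedBy ((Scheme.Modules.pullback g).obj M) fun t => ProjUP.pullSec g M (s t) := fun z => by
      have h := ProjMor.generatedBy_of_mem_genLocus (X := T) (L := (Scheme.Modules.pullback g).obj M)
        (fun l => τ₀.hom.app ⊤ (ProjUP.pullSec ι₀ O (ProjUP.coord m _ l))) (fun z' => by
          obtain ⟨l', hl'⟩ := exists_mem_genLocus_coord m (ULift.{u} ℤ) (ι₀ z')
          refine ⟨l', ?_⟩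
          rw [ProjMor.homOf_app, TMul.genLocus_comp,
            ProjMor.genLocus_pullSec ι₀ (CohFinite.isInvertible_twist m _ 1)]
          exact hl') z
      refine eq_top_iff.2 (h.symm.le.trans (Submodule.span_le.2 ?_))
      rintro _ ⟨l', rfl⟩
      show WeakAssLib.mgerm _ (show z ∈ (⊤ : T.Opens) from trivial)
        (τ₀.hom.app ⊤ (ProjUP.pullSec ι₀ O (ProjUP.coord m _ l'))) ∈ _
      rw [hC l', map_sum]
      refine Submodule.sum_mem _ fun t _ => ?_
      rw [WeakAssLib.mgerm_smul]
      exact Submodule.smul_mem _ _ (Submodule.subset_span ⟨t, rfl⟩)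
    obtain ⟨t, ht⟩ := ProjMor.exists_mem_genLocus hgM _ hgen y
    rw [ProjMor.genLocus_pullSec g hM] at ht
    exact hn t ht
  haveI : Surjective (Spec.map (CommRingCat.ofHom (algebraMap k K))) :=
    ⟨fun x => ⟨Classical.arbitrary _, Subsingleton.elim _ _⟩⟩
  haveI : Surjective g := MorphismProperty.pullback_fst (P := @Surjective) _ _ ‹_›
  have hgenM : ProjUP.GeneratedBy M s := ProjMor.generatedBy_of_mem_genLocus s fun x => by
    obtain ⟨y, rfl⟩ := g.surjective x
    exact hgenT y
  obtain ⟨ρ, hρ, τ, hτ⟩ := S3572.result N f M hM s hgenM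
  refine ⟨N, ρ, hN, ?_, hρ, ⟨τ⟩⟩
  -- the morphism is a monomorphism upstairs
  have hmono : ∀ {T' : Scheme.{u}} (z₁ z₂ : T' ⟶ T), (z₁ ≫ g) ≫ ρ = (z₂ ≫ g) ≫ ρ →
      z₁ ≫ BrSev.bcTo f K = z₂ ≫ BrSev.bcTo f K → z₁ = z₂ := by
    intro T' z₁ z₂ h hq
    let r := (z₁ ≫ g) ≫ ρ
    let P := (Scheme.Modules.pullback r).obj (Twist.twistProjSpace N k 1)
    have hξ : ∀ (z : T' ⟶ T) (_ : (z ≫ g) ≫ ρ = r), ∃ ξ : (Scheme.Modules.pullback (z ≫ ι₀)).obj O ≅ P,
        ∀ l, ξ.hom.app ⊤ (ProjUP.pullSec (z ≫ ι₀) O (ProjUP.coord m _ l)) =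
          ∑ t, (z.appTop).hom (secRing K (⊤ : T.Opens) (C l t)) •
            ProjUP.pullSec r (Twist.twistProjSpace N k 1) (ProjUP.coord N k t) := by
      intro z hz
      let ψ : (Scheme.Modules.pullback z).obj ((Scheme.Modules.pullback g).obj M) ≅ P :=
        (Scheme.Modules.pullbackComp z g).app M ≪≫ ((Scheme.Modules.pullback (z ≫ g)).mapIso τ.symm ≪≫
          (Scheme.Modules.pullbackComp (z ≫ g) ρ).app _ ≪≫ (Scheme.Modules.pullbackCongr hz).app _)
      refine ⟨((Scheme.Modules.pullbackComp z ι₀).app O).symm ≪≫ (Scheme.Modules.pullback z).mapIso τ₀ ≪≫ ψ,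
        fun l => ?_⟩
      have h1 : ((Scheme.Modules.pullbackComp z ι₀).inv.app O).app ⊤ (ProjUP.pullSec (z ≫ ι₀) O (ProjUP.coord m _ l)) =
          ProjUP.pullSec z _ (ProjUP.pullSec ι₀ O (ProjUP.coord m _ l)) :=
        (congrArg (fun y => ((Scheme.Modules.pullbackComp z ι₀).inv.app O).app ⊤ y)
          (QC.pullbackComp_hom_pullSect z ι₀ O ⊤ (ProjUP.coord m _ l)).symm).trans
          (congr(($((Scheme.Modules.pullbackComp z ι₀).hom_inv_id_app O)).app ⊤ _))
      have h2 : ((Scheme.Modules.pullback z).map τ₀.hom).app ⊤ (ProjUP.pullSec z _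
          (ProjUP.pullSec ι₀ O (ProjUP.coord m _ l))) =
          ∑ t, (z.appTop).hom (secRing K (⊤ : T.Opens) (C l t)) •
            ProjUP.pullSec z ((Scheme.Modules.pullback g).obj M) (ProjUP.pullSec g M (s t)) := by
        refine (QC.app_pullSect z τ₀.hom ⊤ (ProjUP.pullSec ι₀ O (ProjUP.coord m _ l))).trans ?_
        rw [hC, map_sum]
        exact Finset.sum_congr rfl fun t _ => OmegaSh.pullSect_smul _ _ _ _ _
      simp only [Iso.trans_hom, Iso.app_hom, Functor.mapIso_hom, Iso.symm_hom, Iso.app_inv,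
        Scheme.Modules.Hom.comp_app, ConcreteCategory.comp_apply]
      rw [h1]
      refine (congrArg (fun y => ψ.hom.app ⊤ y) h2).trans ?_
      refine (map_sum (ψ.hom.app ⊤).hom _ _).trans (Finset.sum_congr rfl fun t _ => ?_)
      refine (Scheme.Modules.Hom.app_smul ψ.hom _ _).trans (congrArg (_ • ·) ?_)
      show ((Scheme.Modules.pullback (z ≫ g)).mapIso τ.symm ≪≫ (Scheme.Modules.pullbackComp (z ≫ g) ρ).app _ ≪≫
        (Scheme.Modules.pullbackCongr hz).app _).hom.app ⊤
          (((Scheme.Modules.pullbackComp z g).hom.app M).app ⊤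
            (ProjUP.pullSec z ((Scheme.Modules.pullback g).obj M) (ProjUP.pullSec g M (s t)))) = _
      rw [show ((Scheme.Modules.pullbackComp z g).hom.app M).app ⊤
        (ProjUP.pullSec z ((Scheme.Modules.pullback g).obj M) (ProjUP.pullSec g M (s t))) =
          ProjUP.pullSec (z ≫ g) M (s t) from QC.pullbackComp_hom_pullSect z g M ⊤ (s t)]
      exact Univ.transport_pullSec (z ≫ g) ρ hz τ _ (hτ t)
    obtain ⟨ξ₁, e₁⟩ := hξ z₁ rfl
    obtain ⟨ξ₂, e₂⟩ := hξ z₂ h.symm
    have hι : z₁ ≫ ι₀ = z₂ ≫ ι₀ := by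
      refine S3573.result m _ _ (specULiftZIsTerminal.hom_ext _ _) (ξ₁ ≪≫ ξ₂.symm) fun l => ?_
      simp only [Iso.trans_hom, Iso.symm_hom, Scheme.Modules.Hom.comp_app, ConcreteCategory.comp_apply]
      rw [e₁]
      simp only [Univ.secRing_app_eq (T := T) (K := K) (z₁ := z₁) (z₂ := z₂) hq]
      rw [← e₂]
      exact congr(($(ξ₂.hom_inv_id)).app ⊤ _)
    rw [← cancel_mono ι]
    refine pullback.hom_ext ?_ ?_
    · rw [Category.assoc, Category.assoc]
      exact hι
    · rw [Category.assoc, Category.assoc]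
      show z₁ ≫ (e.iso.hom ≫ i₁) ≫ _ = z₂ ≫ (e.iso.hom ≫ i₁) ≫ _
      rw [Category.assoc, hi₂, e.comm]
      exact hq
  haveI : IsProper (ρ ≫ CohB1.ProjSpace.toSpec N k) := by rw [hρ]; infer_instance
  haveI : IsProper (CohB1.ProjSpace.toSpec N k) := ProjMor.isProper_toSpec N k
  haveI : IsProper ρ := IsProper.of_comp ρ (CohB1.ProjSpace.toSpec N k)
  haveI : Flat (Spec.map (CommRingCat.ofHom (algebraMap k K))) :=
    (HasRingHomProperty.Spec_iff (P := @Flat)).2 (RingHom.flat_algebraMap_iff.2 inferInstance)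
  haveI : Mono ρ := by
    constructor
    intro T₀ z₁ z₂ h
    have hf : z₂ ≫ f = z₁ ≫ f := by rw [← hρ, ← Category.assoc, ← h, Category.assoc]
    let q := pullback.fst (z₁ ≫ f) (Spec.map (CommRingCat.ofHom (algebraMap k K)))
    let p := pullback.snd (z₁ ≫ f) (Spec.map (CommRingCat.ofHom (algebraMap k K)))
    haveI : Surjective q := MorphismProperty.pullback_fst (P := @Surjective) _ _ inferInstance
    haveI : Flat q := MorphismProperty.pullback_fst (P := @Flat) _ _ inferInstance
    haveI : QuasiCompact q := MorphismProperty.pullback_fst (P := @QuasiCompact) _ _ inferInstance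
    let w₁ : _ ⟶ T := pullback.lift (q ≫ z₁) p (by rw [Category.assoc]; exact pullback.condition)
    let w₂ : _ ⟶ T := pullback.lift (q ≫ z₂) p (by rw [Category.assoc, hf]; exact pullback.condition)
    have hw : w₁ = w₂ := hmono w₁ w₂ (by
      rw [pullback.lift_fst, pullback.lift_fst, Category.assoc, Category.assoc, h])
      (by rw [pullback.lift_snd, pullback.lift_snd])
    rw [← cancel_epi q]
    have h' : w₁ ≫ g = w₂ ≫ g := by rw [hw]
    rwa [pullback.lift_fst, pullback.lift_fst] at h'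
  exact (IsClosedImmersion.iff_isProper_and_mono ρ).2 ⟨inferInstance, inferInstance⟩

end Groth.Agent.KrullSch
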