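import Groth.Agent.KrullSch.Abstract
import Groth.Agent.DCohShriek.ExtFinite
import Groth.Agent.DCohShriek.DualizingField
import Groth.Agent.K0Coh.Basic
import Groth.Agent.QC.Coherent
import Mathlib

/-! Morphisms of coherent modules on a proper scheme over a field form a finite-dimensional space. -/

set_option autoImplicit false
set_option backward.isDefEq.respectTransparency false
set_option backward.isDefEq.respectTransparency.types false
set_option linter.style.haveILetI false

universe u

open CategoryTheory CategoryTheory.Limits AlgebraicGeometry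

attribute [local instance] HasDerivedCategory.standard

namespace Groth.Agent.KrullSch

variable {k : Type u} [Field k] {X : Scheme.{u}} [X.Over (Spec (CommRingCat.of k))]
  [IsProper (X ↘ Spec (CommRingCat.of k))]

include k in
theorem isCohD_inD {M : X.Modules} (hM : Coh.IsCoh M) (i : ℤ) : Coh.IsCoh (DCoh.HD (DCoh.inD X M) i) := by
  haveI : IsLocallyNoetherian X := LocallyOfFiniteType.isLocallyNoetherian (X ↘ Spec (CommRingCat.of k))
  by_cases hi : i = 0
  · subst hi
    exact DCohShriek.isCoh_iso ((DerivedCategory.singleFunctorCompHomologyFunctorIso X.Modules 0).app M).symm hM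
  · exact K0Coh.isCoh_of_isZero (DCohShriek.isZero_HD_inD M hi)

/-- Morphisms of coherent modules on a proper scheme over a field form a finite-dimensional space. -/
theorem finite_hom {F G : X.Modules} (hF : Coh.IsCoh F) (hG : Coh.IsCoh G) : Module.Finite k (F ⟶ G) := by
  haveI := DCohShriek.finite_hom_of_proper (A := k) (DCoh.inD X F) (DCoh.inD X G) (isCohD_inD (k := k) hF) 0
    (isCohD_inD (k := k) hG) 0
  exact Module.Finite.of_injective ((DerivedCategory.singleFunctor X.Modules 0).mapLinearMap k)
    (DerivedCategory.singleFunctor X.Modules 0).map_injective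

include k in
theorem isCoh_retract {F A : X.Modules} (hF : Coh.IsCoh F) (i : A ⟶ F) (p : F ⟶ A) (h : i ≫ p = 𝟙 A) :
    Coh.IsCoh A := by
  haveI : IsLocallyNoetherian X := LocallyOfFiniteType.isLocallyNoetherian (X ↘ Spec (CommRingCat.of k))
  have w : i ≫ (𝟙 F - p ≫ i) = 0 := by rw [Preadditive.comp_sub, Category.comp_id, reassoc_of% h, sub_self]
  let e : kernel (𝟙 F - p ≫ i) ≅ A :=
    { hom := kernel.ι _ ≫ p
      inv := kernel.lift _ i w
      hom_inv_id := by
        refine (cancel_mono (kernel.ι _)).1 ?_
        have := kernel.condition (𝟙 F - p ≫ i)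
        rw [Preadditive.comp_sub, Category.comp_id, sub_eq_zero] at this
        rw [Category.assoc, Category.assoc, kernel.lift_ι, Category.id_comp, ← this]
      inv_hom_id := by rw [kernel.lift_ι_assoc, h] }
  exact DCohShriek.isCoh_iso e (QC.isCoh_kernel hF hF.1 _)

include k in
theorem finite_end {F : X.Modules} (hF : Coh.IsCoh F) : Module.Finite k (End F) := finite_hom hF hF

attribute [local instance] CategoryTheory.Abelian.hasFiniteBiproducts

/-- Powers of a sum, rearranged. -/
noncomputable def powSumIso {n : ℕ} (F : Fin n → X.Modules) (d : ℕ) :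
    (⨁ fun _ : Fin d => ⨁ F) ≅ ⨁ fun p : Fin n × Fin d => F p.1 where
  hom := biproduct.desc fun j => biproduct.desc fun i => biproduct.ι (fun p : Fin n × Fin d => F p.1) (i, j)
  inv := biproduct.desc fun p => biproduct.ι F p.1 ≫ biproduct.ι (fun _ : Fin d => ⨁ F) p.2
  hom_inv_id := by
    refine biproduct.hom_ext' _ _ fun j => biproduct.hom_ext' _ _ fun i => ?_
    simp
  inv_hom_id := by
    refine biproduct.hom_ext' _ _ fun p => ?_
    simp

include k in
/-- Coherent modules with isomorphic powers are isomorphic. -/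
theorem nonempty_iso_of_pow_iso {F G : X.Modules} (hF : Coh.IsCoh F) (hG : Coh.IsCoh G) {d : ℕ} (hd : 0 < d)
    (θ : (⨁ fun _ : Fin d => F) ≅ ⨁ fun _ : Fin d => G) : Nonempty (F ≅ G) := by
  haveI := finite_end (k := k) hF
  haveI := finite_end (k := k) hG
  obtain ⟨n, Fs, hFs, ⟨a⟩⟩ := exists_decomposition k _ F le_rfl
  obtain ⟨m, Gs, hGs, ⟨b⟩⟩ := exists_decomposition k _ G le_rfl
  have hfin : ∀ i, Module.Finite k (End (Fs i)) := fun i => finite_end_retract k (X := F)
    (biproduct.ι Fs i ≫ a.inv) (a.hom ≫ biproduct.π Fs i) (by simp)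
  obtain ⟨e, he⟩ := exists_equiv_of_pow k Fs Gs hFs hGs hfin d hd
    ((powSumIso Fs d).symm ≪≫ (biproduct.mapIso fun _ => a.symm) ≪≫ θ ≪≫ (biproduct.mapIso fun _ => b) ≪≫
      powSumIso Gs d)
  exact ⟨a ≪≫ biproduct.whiskerEquiv e (fun i => (he i).some.symm) ≪≫ b.symm⟩

end Groth.Agent.KrullSch
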