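import Groth.Agent.CIPicGlobal.Main
import Groth.Agent.PicPn.Main
import Groth.Agent.S0843
import Groth.Agent.S4406
import Groth.Agent.S3554
import Groth.Agent.W7Exist.Unit0
import Groth.Prelude.Def_BrSev
import Mathlib

/-! Twisting sheaves under isomorphisms and extensions of the ground field. -/

set_option autoImplicit false
set_option backward.isDefEq.respectTransparency false
set_option backward.isDefEq.respectTransparency.types false
set_option linter.style.haveILetI false

universe u

open CategoryTheory CategoryTheory.Limits AlgebraicGeometry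

noncomputable section

namespace Groth.Agent.KrullSch

variable {n : ℕ} {K : Type u} [Field K]

/-- Every isomorphism of projective spaces preserves the twisting sheaves. -/
theorem nonempty_pullback_twist_iso (φ : CohB1.ProjSpace n K ≅ CohB1.ProjSpace n K) (j : ℤ) :
    Nonempty ((Scheme.Modules.pullback φ.hom).obj (Twist.twistProjSpace n K j) ≅ Twist.twistProjSpace n K j) := by
  rcases Nat.eq_zero_or_pos n with rfl | hn
  · have h : ∀ M : (CohB1.ProjSpace 0 K).Modules, PicF.IsInvertible M → Nonempty (M ≅ Coh.structureModule _) := by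
      intro M hM
      obtain ⟨g, hg⟩ := PicPn.exists_gen_ch hM (0 : Fin 1)
      have htop : (⊤ : (CohB1.ProjSpace 0 K).Opens) ≤ PicPn.ch 0 := fun y _ => by
        obtain ⟨i, hi⟩ := PicPn.exists_mem_ch y
        rwa [show i = 0 from Fin.ext (by omega)] at hi
      haveI := PicPn.isIso_homOf (hg.res htop)
      exact ⟨(asIso (TMul.homOf (QC.res M htop g))).symm⟩
    obtain ⟨a⟩ := h _ (PicLoc.isInvertible_pullback φ.hom (CIPicGlobal.isInvertible_twist (k := K) j))
    obtain ⟨b⟩ := h _ (CIPicGlobal.isInvertible_twist (n := 0) (k := K) j)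
    exact ⟨a ≪≫ b.symm⟩
  let O := fun a : ℤ => Twist.twistProjSpace n K a
  have hinv : ∀ a, PicF.IsInvertible (O a) := fun a => CIPicGlobal.isInvertible_twist (k := K) a
  have huniq : ∀ {a b : ℤ}, (O a ≅ O b) → a = b := fun {a b} θ =>
    (PicPn.existsUnique_iso hn (O a) (hinv a)).unique ⟨Iso.refl _⟩ ⟨θ⟩
  have key : ∀ ψ : CohB1.ProjSpace n K ≅ CohB1.ProjSpace n K, ∃ m : ℤ, ∀ a,
      Nonempty ((Scheme.Modules.pullback ψ.hom).obj (O a) ≅ O (a * m)) := by
    intro ψ
    choose m hm using fun a => PicPn.exists_iso_any _ (PicLoc.isInvertible_pullback ψ.hom (hinv a))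
    have hadd : ∀ a b, m (a + b) = m a + m b := by
      intro a b
      obtain ⟨t⟩ := RegCx.twist_twist (k := K) (n := n) a b (a + b) rfl
      obtain ⟨t'⟩ := RegCx.twist_twist (k := K) (n := n) (m a) (m b) (m a + m b) rfl
      obtain ⟨v⟩ := TMul.nonempty_pullTensorIso ψ.hom (O a) (O b)
      exact huniq ((hm (a + b)).some.symm ≪≫ (Scheme.Modules.pullback ψ.hom).mapIso t.symm ≪≫ v.symm ≪≫
        PicGrp.tensorModIso (hm a).some (hm b).some ≪≫ t')
    have hlin : ∀ a, m a = a * m 1 := fun a => by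
      have h := map_zsmul (AddMonoidHom.mk' m hadd) a (1 : ℤ)
      simpa using h
    exact ⟨m 1, fun a => ⟨(hm a).some ≪≫ eqToIso (congrArg O (hlin a))⟩⟩
  obtain ⟨m, hm⟩ := key φ
  obtain ⟨m', hm'⟩ := key φ.symm
  have hmm : m * m' = 1 := by
    obtain ⟨c⟩ := CIPicGlobal.pullback_cancel φ.hom (O 1)
    refine huniq (a := m * m') (b := 1) ?_
    exact (hm' m).some.symm ≪≫ (Scheme.Modules.pullback φ.symm.hom).mapIso ((eqToIso (congrArg O (one_mul m).symm)) ≪≫
      (hm 1).some.symm) ≪≫ (Scheme.Modules.pullbackComp φ.inv φ.hom).app _ ≪≫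
      (Scheme.Modules.pullbackCongr φ.inv_hom_id).app _ ≪≫ (Scheme.Modules.pullbackId _).app _
  rcases Int.eq_one_or_neg_one_of_mul_eq_one hmm with h | h
  · obtain ⟨a⟩ := hm j
    exact ⟨a ≪≫ eqToIso (congrArg O (by rw [h, mul_one]))⟩
  exfalso
  obtain ⟨a⟩ := hm 1
  haveI : Subsingleton Γ(O (1 * m), ⊤) := by
    obtain ⟨t⟩ := RegCx.twist_twist (k := K) (n := n) (1 * m) 0 (1 * m) (add_zero _)
    exact (Horrocks.subsingleton_gamma_iff _).2
      (CohQC.hh_subsingleton_of_iso t 0 (Horrocks.hh_tw_Om (1 * m) 0 0 (by omega) (by omega)))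
  obtain ⟨θ⟩ := S0843.result K n 1
  haveI : IsIso (φ.hom ∣_ (⊤ : (CohB1.ProjSpace n K).Opens)) := inferInstance
  have hb := W7Exist.bijective_pullSect_of_isIso φ.hom ⊤ (O 1)
  haveI hs : Subsingleton Γ(O 1, ⊤) := ⟨fun x y => hb.1 (by
    refine (ConcreteCategory.bijective_of_isIso (a.hom.app (φ.hom ⁻¹ᵁ ⊤))).1 ?_
    exact @Subsingleton.elim _ ‹Subsingleton Γ(O (1 * m), ⊤)› _ _)⟩
  haveI := (Horrocks.subsingleton_gamma_iff _).1 hs
  have h0 : (⟨MvPolynomial.X (0 : Fin (n + 1)), MvPolynomial.isHomogeneous_X K 0⟩ :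
      MvPolynomial.homogeneousSubmodule (Fin (n + 1)) K 1) = 0 :=
    θ.symm.injective (Subsingleton.elim _ _)
  exact MvPolynomial.X_ne_zero (0 : Fin (n + 1)) (congrArg Subtype.val h0)

/-- The map of projective spaces along a ring map, with its twisting sheaves. -/
theorem exists_projMap (A : Type u) [CommRing A] (k : Type u) [CommRing k] [Algebra A k] (n : ℕ) :
    ∃ κ : CohB1.ProjSpace n k ⟶ CohB1.ProjSpace n A,
      IsPullback κ (CohB1.ProjSpace.toSpec n k) (CohB1.ProjSpace.toSpec n A)
          (Spec.map (CommRingCat.ofHom (algebraMap A k))) ∧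
      ∀ j : ℤ, Nonempty ((Scheme.Modules.pullback κ).obj (Twist.twistProjSpace n A j) ≅ Twist.twistProjSpace n k j) := by
  let φ : CohB1.polyGrading n A →+*ᵍ CohB1.polyGrading n k :=
    { MvPolynomial.map (algebraMap A k) with
      map_mem := fun {i} x hx => MvPolynomial.IsHomogeneous.map hx _ }
  letI : Algebra (MvPolynomial (Fin (n + 1)) A) (MvPolynomial (Fin (n + 1)) k) :=
    MvPolynomial.algebraMvPolynomial
  have hφ : HomogeneousIdeal.irrelevant (CohB1.polyGrading n k) ≤
      (HomogeneousIdeal.irrelevant (CohB1.polyGrading n A)).map φ := by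
    rw [HomogeneousIdeal.irrelevant_le]
    intro i hi p hp
    rw [p.as_sum]
    refine sum_mem fun d hd => ?_
    have hd0 : d ≠ 0 := by
      rintro rfl
      have := hp (MvPolynomial.mem_support_iff.1 hd)
      simp at this
      omega
    obtain ⟨j, hj⟩ : ∃ j, d j ≠ 0 := by
      by_contra! h
      exact hd0 (Finsupp.ext h)
    rw [show MvPolynomial.monomial d (MvPolynomial.coeff d p) =
        MvPolynomial.monomial (d - Finsupp.single j 1) (MvPolynomial.coeff d p) *
          φ (MvPolynomial.X j) by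
      show _ = _ * MvPolynomial.map (algebraMap A k) (MvPolynomial.X j)
      rw [MvPolynomial.map_X, MvPolynomial.X, MvPolynomial.monomial_mul, mul_one, tsub_add_cancel_of_le]
      exact Finsupp.single_le_iff.2 (Nat.one_le_iff_ne_zero.2 hj)]
    exact Ideal.mul_mem_left _ _ (Ideal.mem_map_of_mem _
      (HomogeneousIdeal.mem_irrelevant_of_mem _ one_pos (MvPolynomial.isHomogeneous_X A j)))
  exact ⟨Proj.map φ hφ, S3554.result (R := k) (R' := A) (CohB1.polyGrading n A) (CohB1.polyGrading n k) φ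
      (fun b => rfl) hφ,
    fun j => S4406.result (R := k) (R' := A) (CohB1.polyGrading n A) (CohB1.polyGrading n k) φ (fun b => rfl) hφ j⟩

end Groth.Agent.KrullSch
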