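import Groth.Agent.KrullSch.Invariant
import Groth.Agent.KrullSch.Twist
import Groth.Agent.BrSevSplit.Main
import Mathlib

/-! Modules of twisting type on Severi–Brauer schemes split by a finite Galois extension. -/

set_option autoImplicit false
set_option backward.isDefEq.respectTransparency false
set_option backward.isDefEq.respectTransparency.types false
set_option linter.style.haveILetI false

universe u

open CategoryTheory CategoryTheory.Limits AlgebraicGeometry

attribute [local instance] CategoryTheory.Abelian.hasFiniteBiproducts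

noncomputable section

namespace Groth.Agent.KrullSch

variable {k : Type u} [Field k] {X : Scheme.{u}} {f : X ⟶ Spec (CommRingCat.of k)} {n : ℕ}

/-- The base change split by a splitting field is connected. -/
theorem connectedSpace_splitting {L : Type u} [Field L] [Algebra k L] (e : BrSev.Splitting f L n) :
    ConnectedSpace ↥(BrSev.bc f L) := by
  haveI := BrSevSplit.isIntegral_projSpace (k := L) (n := n)
  haveI : Nonempty (BrSev.bc f L) := ⟨e.iso.inv (IsIntegral.nonempty (X := CohB1.ProjSpace n L)).some⟩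
  haveI : IsIntegral (BrSev.bc f L) := isIntegral_of_isOpenImmersion e.iso.hom
  infer_instance

/-- The twisting sheaves of a splitting are invariant under the automorphisms of the field. -/
theorem nonempty_galAct_twist {L : Type u} [Field L] [Algebra k L] (e : BrSev.Splitting f L n) (σ : L ≃ₐ[k] L)
    (j : ℤ) : Nonempty ((Scheme.Modules.pullback (W4c1astiltbs12.galAct f L σ)).obj (e.twist j) ≅ e.twist j) := by
  haveI : IsIso (Spec.map (CommRingCat.ofHom (σ : L →+* L))) := by
    haveI : IsIso (CommRingCat.ofHom (σ : L →+* L)) := σ.toRingEquiv.toCommRingCatIso.isIso_hom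
    infer_instance
  haveI : IsIso (W4c1astiltbs12.galAct f L σ) := (isPullback_galAct f L σ).isIso_fst_of_isIso
  let s : BrSev.bc f L ≅ BrSev.bc f L := asIso (W4c1astiltbs12.galAct f L σ)
  obtain ⟨a⟩ := nonempty_pullback_twist_iso (e.iso.symm ≪≫ s ≪≫ e.iso) j
  refine ⟨(Scheme.Modules.pullbackComp s.hom e.iso.hom).app _ ≪≫ ?_⟩
  exact (Scheme.Modules.pullbackCongr (show s.hom ≫ e.iso.hom = e.iso.hom ≫ (e.iso.symm ≪≫ s ≪≫ e.iso).hom by simp)).app _ ≪≫
    ((Scheme.Modules.pullbackComp e.iso.hom (e.iso.symm ≪≫ s ≪≫ e.iso).hom).app _).symm ≪≫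
    (Scheme.Modules.pullback e.iso.hom).mapIso a

/-- The twisting sheaves of splittings are compatible with extensions. -/
theorem nonempty_levelMap_twist {L K : Type u} [Field L] [Field K] [Algebra k L] [Algebra k K] [Algebra L K]
    [IsScalarTower k L K] (e' : BrSev.Splitting f L n) (e : BrSev.Splitting f K n) (j : ℤ) :
    Nonempty ((Scheme.Modules.pullback (levelMap f L K)).obj (e'.twist j) ≅ e.twist j) := by
  obtain ⟨κ, hκ, hκt⟩ := exists_projMap L K n
  have h1 : IsPullback (levelMap f L K ≫ e'.iso.hom) (W4bk4gw11416.baseChangeTo f K) (CohB1.ProjSpace.toSpec n L)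
      (Spec.map (CommRingCat.ofHom (algebraMap L K))) :=
    IsPullback.of_iso (isPullback_levelMap f L K) (Iso.refl _) e'.iso (Iso.refl _) (Iso.refl _)
      (Category.id_comp _).symm (by simp) ((Category.comp_id _).trans e'.comm.symm) (by simp)
  let ω := h1.isoIsPullback _ _ hκ
  have hω : ω.hom ≫ κ = levelMap f L K ≫ e'.iso.hom := h1.isoIsPullback_hom_fst _ _ hκ
  obtain ⟨a⟩ := nonempty_pullback_twist_iso (e.iso.symm ≪≫ ω) j
  exact ⟨(Scheme.Modules.pullbackComp (levelMap f L K) e'.iso.hom).app _ ≪≫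
    (Scheme.Modules.pullbackCongr hω.symm).app _ ≪≫ ((Scheme.Modules.pullbackComp ω.hom κ).app _).symm ≪≫
    (Scheme.Modules.pullback ω.hom).mapIso (hκt j).some ≪≫
    (Scheme.Modules.pullbackCongr (show ω.hom = e.iso.hom ≫ (e.iso.symm ≪≫ ω).hom by simp)).app _ ≪≫
    ((Scheme.Modules.pullbackComp e.iso.hom (e.iso.symm ≪≫ ω).hom).app _).symm ≪≫
    (Scheme.Modules.pullback e.iso.hom).mapIso a⟩

/-- Every twisting type occurs, if a finite Galois extension splits. -/
theorem exists_type [IsProper f] {L K : Type u} [Field L] [Field K] [Algebra k L] [Algebra k K] [IsGalois k L]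
    [Algebra L K] [IsScalarTower k L K] (e' : BrSev.Splitting f L n) (e : BrSev.Splitting f K n) (j : ℤ) :
    ∃ (M : X.Modules) (r : ℕ), FlatMod.IsFinLocFree M ∧ Indec M ∧ 0 < r ∧ BrSev.IsTwPow e j r M := by
  haveI := connectedSpace_splitting e'
  have hinv : PicF.IsInvertible (e'.twist j) := isInvertible_twist e' j
  obtain ⟨M, r, hM, hMi, hr, ⟨a⟩⟩ := exists_indec_descends f L (e'.twist j)
    (ResDesc.isFinLocFree_of_isInvertible hinv) (indec_invertible hinv) fun σ => nonempty_galAct_twist e' σ j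
  obtain ⟨b⟩ := nonempty_levelMap_twist e' e j
  exact ⟨M, r, hM, hMi, hr, ⟨(Scheme.Modules.pullbackCongr (levelMap_proj f L K).symm).app _ ≪≫
    ((Scheme.Modules.pullbackComp (levelMap f L K) (W4c1astiltbs12.proj f L)).app _).symm ≪≫
    (Scheme.Modules.pullback (levelMap f L K)).mapIso a ≪≫ pullPowIso (levelMap f L K) (e'.twist j) r ≪≫
    Sigma.mapIso fun _ => b⟩⟩

/-- Over a Severi–Brauer scheme of an algebra every twisting type occurs. -/
theorem exists_type_of_isSBOf [IsProper f] {A : Type u} [Ring A] [Algebra k A] [Algebra.IsCentral k A] [IsSimpleRing A]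
    {d : ℕ} (hd : 0 < d) (hA : Module.finrank k A = d * d) (hX : BrSev.IsSBOf k A (d * d - d) f)
    {K : Type u} [Field K] [Algebra k K] [IsAlgClosure k K] (e : BrSev.Splitting f K (d - 1)) (j : ℤ) :
    ∃ (M : X.Modules) (r : ℕ), FlatMod.IsFinLocFree M ∧ Indec M ∧ 0 < r ∧ BrSev.IsTwPow e j r M := by
  obtain ⟨L, _, _, hfin, hgal, ⟨e'⟩⟩ := BrSevSplit.exists_galois_splitting hd hA f hX
  haveI := hfin
  haveI := hgal
  haveI : IsAlgClosed K := IsAlgClosure.isAlgClosed k
  let ι : L →ₐ[k] K := IsAlgClosed.lift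
  letI : Algebra L K := ι.toRingHom.toAlgebra
  haveI : IsScalarTower k L K := IsScalarTower.of_algebraMap_eq fun x => (ι.commutes x).symm
  exact exists_type e' e j

/-- An invertible module on a split form is a twist. -/
theorem exists_iso_twist {K : Type u} [Field K] [Algebra k K] (e : BrSev.Splitting f K n) {L : (BrSev.bc f K).Modules}
    (hL : PicF.IsInvertible L) : ∃ j : ℤ, Nonempty (L ≅ e.twist j) := by
  obtain ⟨j, ⟨a⟩⟩ := PicPn.exists_iso_any _ (PicLoc.isInvertible_pullback e.iso.inv hL)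
  exact ⟨j, ⟨((Scheme.Modules.pullbackId _).app L).symm ≪≫
    (Scheme.Modules.pullbackCongr e.iso.hom_inv_id.symm).app L ≪≫
    ((Scheme.Modules.pullbackComp e.iso.hom e.iso.inv).app L).symm ≪≫ (Scheme.Modules.pullback e.iso.hom).mapIso a⟩⟩

variable [IsProper f] {K : Type u} [Field K] [Algebra k K]

/-- The indecomposable summands of a split module are split with summands among the given ones. -/
theorem exists_split_summands {s : ℕ} (Ls : Fin s → (BrSev.bc f K).Modules) (hLi : ∀ i, Indec (Ls i))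
    {E : X.Modules} (hE : FlatMod.IsFinLocFree E) (e : BrSev.bcMod f K E ≅ ∐ Ls) :
    ∃ (t : ℕ) (Ms : Fin t → X.Modules), Nonempty (E ≅ ∐ Ms) ∧ ∀ i, FlatMod.IsFinLocFree (Ms i) ∧ Indec (Ms i) ∧
      ∃ (m : ℕ) (u : Fin m → Fin s), Nonempty (BrSev.bcMod f K (Ms i) ≅ ∐ fun l => Ls (u l)) := by
  classical
  letI : X.Over (Spec (CommRingCat.of k)) := ⟨f⟩
  haveI : IsProper (X ↘ Spec (CommRingCat.of k)) := inferInstanceAs (IsProper f)
  haveI : IsLocallyNoetherian X := LocallyOfFiniteType.isLocallyNoetherian f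
  letI : (BrSev.bc f K).Over (Spec (CommRingCat.of K)) := ⟨BrSev.bcTo f K⟩
  haveI : IsProper (BrSev.bc f K ↘ Spec (CommRingCat.of K)) :=
    inferInstanceAs (IsProper (pullback.snd f (Spec.map (CommRingCat.ofHom (algebraMap k K)))))
  haveI : IsLocallyNoetherian (BrSev.bc f K) :=
    LocallyOfFiniteType.isLocallyNoetherian (BrSev.bc f K ↘ Spec (CommRingCat.of K))
  let g := BrSev.proj f K
  haveI := finite_end (k := k) (K0Coh.isCoh_of_isFinLocFree hE)
  obtain ⟨t, Gs, hGs, ⟨a⟩⟩ := exists_decomposition k _ E le_rfl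
  have hlf : ∀ i, FlatMod.IsFinLocFree (Gs i) := fun i =>
    isFinLocFree_retract hE (biproduct.ι Gs i ≫ a.inv) (a.hom ≫ biproduct.π Gs i) (by simp)
  haveI : ∀ i, Module.Finite K (End ((Scheme.Modules.pullback g).obj (Gs i))) := fun i =>
    finite_end (k := K) (QC.isCoh_pullback g (K0Coh.isCoh_of_isFinLocFree (hlf i)))
  choose m Hs hHs hb using fun i => exists_decomposition K _ ((Scheme.Modules.pullback g).obj (Gs i)) le_rfl
  let b := fun i => (hb i).some
  have big : (⨁ fun p : Σ i, Fin (m i) => Hs p.1 p.2) ≅ ⨁ Ls :=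
    (biproductBiproductIso (fun i => Fin (m i)) Hs).symm ≪≫ (biproduct.mapIso fun i => (b i).symm) ≪≫
      (pullBiIso g Gs).symm ≪≫ (Scheme.Modules.pullback g).mapIso a.symm ≪≫ e ≪≫ (biproduct.isoCoproduct _).symm
  have hfin : ∀ p : Σ i, Fin (m i), Module.Finite K (End (Hs p.1 p.2)) := fun p =>
    finite_end_retract K (X := (Scheme.Modules.pullback g).obj (Gs p.1))
      (biproduct.ι (Hs p.1) p.2 ≫ (b p.1).inv) ((b p.1).hom ≫ biproduct.π (Hs p.1) p.2) (by simp)
  obtain ⟨eq, heq⟩ := exists_equiv K _ (fun p : Σ i, Fin (m i) => Hs p.1 p.2) Ls rfl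
    (fun p => hHs p.1 p.2) hLi hfin big
  exact ⟨t, Gs, ⟨a ≪≫ biproduct.isoCoproduct _⟩, fun i => ⟨hlf i, hGs i, m i, fun l => eq ⟨i, l⟩,
    ⟨b i ≪≫ biproduct.mapIso (fun l => (heq ⟨i, l⟩).some) ≪≫ biproduct.isoCoproduct _⟩⟩⟩

/-- An indecomposable split module is of twisting type. -/
theorem exists_isTwPow [Algebra.IsAlgebraic k K] (e : BrSev.Splitting f K n)
    (htype : ∀ j : ℤ, ∃ (M : X.Modules) (r : ℕ), FlatMod.IsFinLocFree M ∧ Indec M ∧ 0 < r ∧ BrSev.IsTwPow e j r M)
    (E : X.Modules) (hE : FlatMod.IsFinLocFree E) (hEi : Indec E) {s : ℕ} (Ls : Fin s → (BrSev.bc f K).Modules)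
    (hLs : ∀ i, PicF.IsInvertible (Ls i)) (hsplit : BrSev.bcMod f K E ≅ ∐ Ls) :
    ∃ (j : ℤ) (r : ℕ), 0 < r ∧ BrSev.IsTwPow e j r E := by
  haveI := connectedSpace_splitting e
  choose js hjs using fun i => exists_iso_twist e (hLs i)
  obtain ⟨i, r, hr, h⟩ := exists_type_of_split f K (fun i => e.twist (js i))
    (fun i => indec_invertible (isInvertible_twist e (js i))) (fun i => htype (js i)) E hE hEi
    (hsplit ≪≫ Sigma.mapIso fun i => (hjs i).some)
  exact ⟨js i, r, hr, h⟩

end Groth.Agent.KrullSch
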