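import Groth.Agent.KrullSch.Invariant
import Groth.Agent.KrullSch.SBTypes
import Groth.Prelude.Def_PicGrp
import Mathlib

/-! Twisting and dualising modules of a given type. -/

set_option autoImplicit false
set_option backward.isDefEq.respectTransparency false
set_option backward.isDefEq.respectTransparency.types false
set_option linter.style.haveILetI false

universe u

open CategoryTheory CategoryTheory.Limits AlgebraicGeometry

attribute [local instance] CategoryTheory.Abelian.hasFiniteBiproducts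

noncomputable section

namespace Groth.Agent.KrullSch

variable {Y : Scheme.{u}}

/-- Tensoring a binary direct sum. -/
def tensBiprod (A B L : Y.Modules) : CohB1.tensorMod (A ⊞ B) L ≅ CohB1.tensorMod A L ⊞ CohB1.tensorMod B L where
  hom := biprod.lift (CohFinite.tmap biprod.fst L) (CohFinite.tmap biprod.snd L)
  inv := biprod.desc (CohFinite.tmap biprod.inl L) (CohFinite.tmap biprod.inr L)
  hom_inv_id := by
    rw [biprod.lift_desc, ← CohFinite.tmap_comp, ← CohFinite.tmap_comp, ← CohFinite.tmap_add, biprod.total,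
      CohFinite.tmap_id]
  inv_hom_id := by
    apply biprod.hom_ext' <;> apply biprod.hom_ext <;>
      simp [← CohFinite.tmap_comp, CohFinite.tmap_id, CohFinite.tmap_zero]

theorem isZero_tensor {A : Y.Modules} (h : IsZero A) (L : Y.Modules) : IsZero (CohB1.tensorMod A L) := by
  rw [IsZero.iff_id_eq_zero, ← CohFinite.tmap_id, (IsZero.iff_id_eq_zero A).1 h, CohFinite.tmap_zero]

/-- Tensoring with an invertible module preserves indecomposability. -/
theorem indec_tensor {W J : Y.Modules} (hJ : PicF.IsInvertible J) (hW : Indec W) : Indec (CohB1.tensorMod W J) := by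
  obtain ⟨J', -, ⟨θ⟩⟩ := SymAlg.exists_inverse hJ
  let θ' : CohB1.tensorMod J' J ≅ Coh.structureModule Y := TMul.commIso J' J ≪≫ θ
  refine ⟨fun h => hW.1 ((isZero_tensor h J').of_iso (SerrePn.untw θ W).symm), fun A B ⟨e⟩ => ?_⟩
  rcases hW.2 (CohB1.tensorMod A J') (CohB1.tensorMod B J')
    ⟨(SerrePn.untw θ W).symm ≪≫ PicGrp.tensorModIso e (Iso.refl _) ≪≫ tensBiprod A B J'⟩ with h | h
  · exact Or.inl ((isZero_tensor h J).of_iso (SerrePn.untw θ' A).symm)
  · exact Or.inr ((isZero_tensor h J).of_iso (SerrePn.untw θ' B).symm)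

/-- Tensoring a power. -/
theorem nonempty_powTensor (L M : Y.Modules) (r : ℕ) :
    Nonempty (CohB1.tensorMod (∐ fun _ : Fin r => L) M ≅ ∐ fun _ : Fin r => CohB1.tensorMod L M) := by
  classical
  obtain ⟨π, h1, h2, h3⟩ := P1Split.exists_proj (fun _ : Fin r => L)
  refine ⟨⟨∑ t, CohFinite.tmap (π t) M ≫ Sigma.ι (fun _ : Fin r => CohB1.tensorMod L M) t,
    Sigma.desc fun t => CohFinite.tmap (Sigma.ι (fun _ : Fin r => L) t) M, ?_, Sigma.hom_ext _ _ fun s => ?_⟩⟩
  · rw [Preadditive.sum_comp]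
    simp only [Category.assoc, Sigma.ι_desc, ← CohFinite.tmap_comp]
    exact (CohFinite.tmap_sum _ _ _).symm.trans
      ((congrArg (fun ψ => CohFinite.tmap ψ M) h3).trans (CohFinite.tmap_id _ _))
  · rw [Sigma.ι_desc_assoc, Preadditive.comp_sum, Category.comp_id, Finset.sum_eq_single s]
    · rw [← Category.assoc, ← CohFinite.tmap_comp, h1, CohFinite.tmap_id, Category.id_comp]
    · intro t _ ht
      rw [← Category.assoc, ← CohFinite.tmap_comp, h2 s t (Ne.symm ht), CohFinite.tmap_zero, zero_comp]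
    · exact fun h => absurd (Finset.mem_univ _) h

variable {k : Type u} [Field k] {X : Scheme.{u}} (p : X ⟶ Spec (CommRingCat.of k)) [IsProper p]
  {K : Type u} [Field K] [Algebra k K] [Algebra.IsAlgebraic k K]

/-- The numbers of copies are determined. -/
theorem pow_inj {N : (W4bk4gw11416.baseChange p K).Modules} (hN : PicF.IsInvertible N) (hNi : Indec N) {a b : ℕ}
    (θ : W4c1astiltbs12.pow N a ≅ W4c1astiltbs12.pow N b) : a = b := by
  letI : (W4bk4gw11416.baseChange p K).Over (Spec (CommRingCat.of K)) := ⟨W4bk4gw11416.baseChangeTo p K⟩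
  haveI : IsProper ((W4bk4gw11416.baseChange p K) ↘ Spec (CommRingCat.of K)) :=
    inferInstanceAs (IsProper (Limits.pullback.snd p (Spec.map (CommRingCat.ofHom (algebraMap k K)))))
  haveI : IsLocallyNoetherian (W4bk4gw11416.baseChange p K) :=
    LocallyOfFiniteType.isLocallyNoetherian ((W4bk4gw11416.baseChange p K) ↘ Spec (CommRingCat.of K))
  haveI := finite_end (k := K) (K0Coh.isCoh_of_isFinLocFree (ResDesc.isFinLocFree_of_isInvertible hN))
  obtain ⟨q, -⟩ := exists_equiv K _ (fun _ : Fin a => N) (fun _ : Fin b => N) rfl (fun _ => hNi) (fun _ => hNi)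
    (fun _ => inferInstance) (biproduct.isoCoproduct _ ≪≫ θ ≪≫ (biproduct.isoCoproduct _).symm)
  simpa using Fintype.card_congr q

/-- Twisting by an invertible module preserves the number of copies. -/
theorem rank_eq_of_tensor {W W' J : X.Modules} (hW : FlatMod.IsFinLocFree W) (hW' : FlatMod.IsFinLocFree W')
    (hWi : Indec W) (hW'i : Indec W') (hJ : PicF.IsInvertible J) {N N' : (W4bk4gw11416.baseChange p K).Modules}
    (hN' : PicF.IsInvertible N') (hN'i : Indec N') {d d' : ℕ} (eW : W4c1astiltbs12.bcMod p K W ≅ W4c1astiltbs12.pow N d)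
    (eW' : W4c1astiltbs12.bcMod p K W' ≅ W4c1astiltbs12.pow N' d')
    (θ : CohB1.tensorMod N (W4c1astiltbs12.bcMod p K J) ≅ N') : d = d' := by
  letI : X.Over (Spec (CommRingCat.of k)) := ⟨p⟩
  haveI : IsProper (X ↘ Spec (CommRingCat.of k)) := inferInstanceAs (IsProper p)
  haveI : IsLocallyNoetherian X := LocallyOfFiniteType.isLocallyNoetherian p
  letI : (W4bk4gw11416.baseChange p K).Over (Spec (CommRingCat.of K)) := ⟨W4bk4gw11416.baseChangeTo p K⟩
  let g := W4c1astiltbs12.proj p K
  have hT : Coh.IsCoh (CohB1.tensorMod W J) := K0Coh.isCoh_of_isFinLocFree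
    (ResDesc.isFinLocFree_tensorMod hW (ResDesc.isFinLocFree_of_isInvertible hJ))
  obtain ⟨u⟩ := TMul.nonempty_pullTensorIso g W J
  obtain ⟨v⟩ := nonempty_powTensor N (W4c1astiltbs12.bcMod p K J) d
  let eT : (Scheme.Modules.pullback g).obj (CohB1.tensorMod W J) ≅ W4c1astiltbs12.pow N' d :=
    u.symm ≪≫ PicGrp.tensorModIso eW (Iso.refl _) ≪≫ v ≪≫ Sigma.mapIso fun _ => θ
  obtain ⟨i⟩ := nonempty_iso_of_same_type (k := k) (K := K) g (IsPullback.of_hasPullback _ _) hT
    (K0Coh.isCoh_of_isFinLocFree hW') (indec_tensor hJ hWi) hW'i N' d d' eT eW'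
  exact pow_inj p hN' hN'i (eT.symm ≪≫ (Scheme.Modules.pullback g).mapIso i ≪≫ eW')

/-- If indecomposable modules have mutually dual types, the first number of copies is a multiple of the second. -/
theorem dvd_of_dual {W W' : X.Modules} (hW : FlatMod.IsFinLocFree W) (hW' : FlatMod.IsFinLocFree W')
    (hW'i : Indec W') {N N' : (W4bk4gw11416.baseChange p K).Modules} (hN' : PicF.IsInvertible N') (hN'i : Indec N')
    (δ : RefHull.dual N ≅ N') {d d' : ℕ} (hd : 0 < d) (eW : W4c1astiltbs12.bcMod p K W ≅ W4c1astiltbs12.pow N d)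
    (eW' : W4c1astiltbs12.bcMod p K W' ≅ W4c1astiltbs12.pow N' d') : d' ∣ d := by
  classical
  letI : X.Over (Spec (CommRingCat.of k)) := ⟨p⟩
  haveI : IsProper (X ↘ Spec (CommRingCat.of k)) := inferInstanceAs (IsProper p)
  haveI : IsLocallyNoetherian X := LocallyOfFiniteType.isLocallyNoetherian p
  letI : (W4bk4gw11416.baseChange p K).Over (Spec (CommRingCat.of K)) := ⟨W4bk4gw11416.baseChangeTo p K⟩
  haveI : IsProper ((W4bk4gw11416.baseChange p K) ↘ Spec (CommRingCat.of K)) :=
    inferInstanceAs (IsProper (Limits.pullback.snd p (Spec.map (CommRingCat.ofHom (algebraMap k K)))))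
  haveI : IsLocallyNoetherian (W4bk4gw11416.baseChange p K) :=
    LocallyOfFiniteType.isLocallyNoetherian ((W4bk4gw11416.baseChange p K) ↘ Spec (CommRingCat.of K))
  let g := W4c1astiltbs12.proj p K
  have hD : FlatMod.IsFinLocFree (RefHull.dual W) := ResDesc.isFinLocFree_dual hW
  obtain ⟨a⟩ := CycPB.nonempty_pullback_dual g hW
  obtain ⟨q⟩ := WeilFin.nonempty_dualSigma (fun _ : Fin d => N) (fun _ : Fin d => N') fun _ => δ
  let c : (Scheme.Modules.pullback g).obj (RefHull.dual W) ≅ W4c1astiltbs12.pow N' d := a ≪≫ RefFun.dualIso eW ≪≫ q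
  have hD0 : ¬ IsZero (RefHull.dual W) := fun h => by
    haveI : PreservesColimitsOfSize.{0, 0} (Scheme.Modules.pullback g) :=
      (Scheme.Modules.pullbackPushforwardAdjunction g).leftAdjoint_preservesColimits
    have h1 := (Functor.map_isZero (Scheme.Modules.pullback g) h).of_iso c.symm
    refine hN'i.1 ((IsZero.iff_id_eq_zero _).2 ?_)
    rw [← biproduct.ι_π_self (fun _ : Fin d => N') ⟨0, hd⟩,
      (h1.of_iso (biproduct.isoCoproduct fun _ : Fin d => N')).eq_of_tgt (biproduct.ι _ _) 0, zero_comp]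
  obtain ⟨G, m, hG, hGi, ⟨b⟩, t, ⟨e⟩⟩ := exists_iso_pow_indec (k := k) (K := K) g (IsPullback.of_hasPullback _ _) hD hD0 N'
    (K0Coh.isCoh_of_isFinLocFree (ResDesc.isFinLocFree_of_isInvertible hN')) hN'i d c
  obtain ⟨i⟩ := nonempty_iso_of_same_type (k := k) (K := K) g (IsPullback.of_hasPullback _ _) (K0Coh.isCoh_of_isFinLocFree hG)
    (K0Coh.isCoh_of_isFinLocFree hW') hGi hW'i N' t d' e eW'
  obtain rfl : t = d' := pow_inj p hN' hN'i (e.symm ≪≫ (Scheme.Modules.pullback g).mapIso i ≪≫ eW')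
  exact ⟨m, (pow_inj p hN' hN'i (c.symm ≪≫ (Scheme.Modules.pullback g).mapIso b ≪≫ pullPowIso g G m ≪≫
    (Sigma.mapIso fun _ => e) ≪≫ (sigmaSigmaIso (fun _ : Fin m => Fin t) fun _ _ => N') ≪≫
    Sigma.whiskerEquiv ((Equiv.sigmaEquivProd (Fin m) (Fin t)).trans ((Equiv.prodComm _ _).trans finProdFinEquiv))
      (f := fun _ => N') (g := fun _ => N') fun _ => Iso.refl _))⟩

end Groth.Agent.KrullSch
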