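import Groth.Agent.KrullSch.IndexRows
import Groth.Agent.KrullSch.Periodic
import Groth.Agent.Horrocks.Bundles
import Groth.Agent.Horrocks.Point
import Groth.Agent.W7FlatBC.Sections
import Groth.Agent.TwistOverVan.Basic
import Groth.Agent.PunctKill.Main
import Groth.Agent.S14204
import Mathlib

/-! Absolutely split modules on Severi–Brauer schemes are detected by cohomology. -/

set_option autoImplicit false
set_option backward.isDefEq.respectTransparency false
set_option backward.isDefEq.respectTransparency.types false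
set_option linter.style.haveILetI false

universe u

open CategoryTheory CategoryTheory.Limits AlgebraicGeometry
open Groth.Agent.Brauer

attribute [local instance] CategoryTheory.Abelian.hasFiniteBiproducts

noncomputable section

namespace Groth.Agent.KrullSch

/-- Cohomology of a finite sum vanishes with that of the summands. -/
theorem subsingleton_hh_sigma {A : Type u} [CommRing A] {Y : Scheme.{u}} [Y.Over (Spec (CommRingCat.of A))] {r : ℕ}
    (M : Fin r → Y.Modules) (i : ℕ) (h : ∀ t, Subsingleton (Coh.HH Y (M t) i)) :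
    Subsingleton (Coh.HH Y (∐ M) i) := by
  refine subsingleton_of_forall_eq 0 fun x => ?_
  obtain ⟨π, -, -, h3⟩ := P1Split.exists_proj M
  have hx := CohFinite.hhMap_id A (∐ M) i x
  rw [← h3, PunctKill.hhMap_sum] at hx
  rw [← hx]
  refine Finset.sum_eq_zero fun t _ => ?_
  haveI := h t
  rw [CohFinite.hhMap_comp, Subsingleton.elim (CohFinite.hhMap A (π t) i x) 0, map_zero]

/-- Cohomology of a summand vanishes with that of a sum. -/
theorem subsingleton_hh_of_sigma {A : Type u} [CommRing A] {Y : Scheme.{u}} [Y.Over (Spec (CommRingCat.of A))] {r : ℕ}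
    (hr : 0 < r) (M : Y.Modules) (i : ℕ) (h : Subsingleton (Coh.HH Y (∐ fun _ : Fin r => M) i)) :
    Subsingleton (Coh.HH Y M i) := by
  refine subsingleton_of_forall_eq 0 fun x => ?_
  let j : Fin r := ⟨0, hr⟩
  have hs : Sigma.ι (fun _ : Fin r => M) j ≫ Sigma.desc (fun _ : Fin r => 𝟙 M) = 𝟙 M := Sigma.ι_desc _ _
  rw [← CohFinite.hhMap_id A M i x, ← hs, CohFinite.hhMap_comp,
    Subsingleton.elim (CohFinite.hhMap A (Sigma.ι (fun _ : Fin r => M) j) i x) 0, map_zero]

variable {k : Type u} [Field k] {X : Scheme.{u}} {f : X ⟶ Spec (CommRingCat.of k)} [IsProper f] {n : ℕ}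
  {K : Type u} [Field K] [Algebra k K] (e : BrSev.Splitting f K n)

/-- A module on the base change seen on projective space. -/
def toPn (M : (BrSev.bc f K).Modules) : (CohB1.ProjSpace n K).Modules :=
  (Scheme.Modules.pullback e.iso.inv).obj M

/-- Transport back. -/
def fromPn (M : (BrSev.bc f K).Modules) : (Scheme.Modules.pullback e.iso.hom).obj (toPn e M) ≅ M :=
  (Scheme.Modules.pullbackComp e.iso.hom e.iso.inv).app M ≪≫
    (Scheme.Modules.pullbackCongr e.iso.hom_inv_id).app M ≪≫ (Scheme.Modules.pullbackId _).app M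

/-- Transport of a pullback. -/
def toPnPullback (G : (CohB1.ProjSpace n K).Modules) : toPn e ((Scheme.Modules.pullback e.iso.hom).obj G) ≅ G :=
  (Scheme.Modules.pullbackComp e.iso.inv e.iso.hom).app G ≪≫
    (Scheme.Modules.pullbackCongr e.iso.inv_hom_id).app G ≪≫ (Scheme.Modules.pullbackId _).app G

/-- The vanishing upstairs and on projective space. -/
theorem subsingleton_hh_iff {E V : X.Modules} (hE : FlatMod.IsFinLocFree E) (hV : FlatMod.IsFinLocFree V)
    {t : ℤ} {r : ℕ} (hr : 0 < r) (hVt : BrSev.IsTwPow e t r V) (i : ℕ) :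
    Subsingleton (Coh.HH X (CohB1.tensorMod E V) i) ↔
      Subsingleton (Coh.HH (CohB1.ProjSpace n K) (Horrocks.tw (toPn e (BrSev.bcMod f K E)) t) i) := by
  letI : X.Over (Spec (CommRingCat.of k)) := ⟨f⟩
  haveI : IsProper (X ↘ Spec (CommRingCat.of k)) := inferInstanceAs (IsProper f)
  haveI : IsLocallyNoetherian X := LocallyOfFiniteType.isLocallyNoetherian f
  haveI : CompactSpace X := QuasiCompact.compactSpace_of_compactSpace f
  haveI : QuasiSeparatedSpace X := quasiSeparatedSpace_of_quasiSeparated f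
  letI : (BrSev.bc f K).Over (Spec (CommRingCat.of K)) := ⟨BrSev.bcTo f K⟩
  have sq : IsPullback (BrSev.proj f K) (BrSev.bc f K ↘ Spec (CommRingCat.of K)) (X ↘ Spec (CommRingCat.of k))
      (Spec.map (CommRingCat.ofHom (algebraMap k K))) := IsPullback.of_hasPullback _ _
  have hcoh : Coh.IsCoh (CohB1.tensorMod E V) :=
    K0Coh.isCoh_of_isFinLocFree (ResDesc.isFinLocFree_tensorMod hE hV)
  obtain ⟨β⟩ := W7FlatBC.nonempty_hh_baseChange k K (BrSev.proj f K) sq (CohB1.tensorMod E V) hcoh.1 i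
  have h1 : Subsingleton (Coh.HH X (CohB1.tensorMod E V) i) ↔
      Subsingleton (Coh.HH (BrSev.bc f K) (BrSev.bcMod f K (CohB1.tensorMod E V)) i) := by
    refine ⟨fun h => β.toEquiv.symm.subsingleton, fun h => ?_⟩
    haveI : Subsingleton (TensorProduct k K (Coh.HH X (CohB1.tensorMod E V) i)) := β.toEquiv.subsingleton
    exact (Module.FaithfullyFlat.subsingleton_tensorProduct_iff_right k K).1 ‹_›
  let F := toPn e (BrSev.bcMod f K E)
  have hF : Coh.IsCoh (Horrocks.tw F t) :=
    Horrocks.isCoh_tw (Horrocks.isCoh_of_locFree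
      (DerPerf.isFinLocFree_pullback _ (DerPerf.isFinLocFree_pullback _ hE))) t
  obtain ⟨a⟩ := hVt
  obtain ⟨u⟩ := TMul.nonempty_pullTensorIso (BrSev.proj f K) E V
  obtain ⟨v⟩ := TMul.nonempty_pullTensorIso e.iso.hom F (Twist.twistProjSpace n K t)
  have hσ : Nonempty (CohB1.tensorMod (BrSev.bcMod f K E) (BrSev.pow (e.twist t) r) ≅
      BrSev.pow (CohB1.tensorMod (BrSev.bcMod f K E) (e.twist t)) r) := by
    obtain ⟨g⟩ := nonempty_powTensor (e.twist t) (BrSev.bcMod f K E) r
    exact ⟨TMul.commIso _ _ ≪≫ g ≪≫ Sigma.mapIso fun _ => TMul.commIso _ _⟩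
  obtain ⟨σ⟩ := hσ
  let c : BrSev.bcMod f K (CohB1.tensorMod E V) ≅
      BrSev.pow ((Scheme.Modules.pullback e.iso.hom).obj (Horrocks.tw F t)) r :=
    u.symm ≪≫ PicGrp.tensorModIso (Iso.refl _) a ≪≫ σ ≪≫
      Sigma.mapIso fun _ => PicGrp.tensorModIso (fromPn e _).symm (Iso.refl _) ≪≫ v
  rw [h1]
  constructor
  · intro h
    have h2 := subsingleton_hh_of_sigma (A := K) hr _ i (CohQC.hh_subsingleton_of_iso c i h)
    exact CohQC.hh_subsingleton_of_iso (toPnPullback e (Horrocks.tw F t)) i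
      (TwistOverVan.subsingleton_hh_pullback_iso e.iso.inv _ (QC.isQCoh_pullback e.iso.hom hF.1) i h2)
  · intro h
    exact CohQC.hh_subsingleton_of_iso c.symm i (subsingleton_hh_sigma (A := K) _ i fun _ =>
      TwistOverVan.subsingleton_hh_pullback_iso e.iso.hom _ hF.1 i h)

/-- Absolutely split modules are those without intermediate cohomology. -/
theorem absSplit_iff [IsAlgClosure k K] {A : Type u} [Ring A] [Algebra k A] [Algebra.IsCentral k A] [IsSimpleRing A]
    (hA : Module.finrank k A = (n + 1) * (n + 1)) (hX : BrSev.IsSBOf k A ((n + 1) * (n + 1) - (n + 1)) f)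
    {p : ℕ} (hp : CSAGal.IsPeriod k A p) (E : X.Modules) (hE : FlatMod.IsFinLocFree E) :
    (∃ (s : ℕ) (Ls : Fin s → (BrSev.bc f K).Modules), (∀ i, PicF.IsInvertible (Ls i)) ∧
        Nonempty (BrSev.bcMod f K E ≅ ∐ Ls)) ↔
      (∀ (i : ℕ), 0 < i → i + 1 < n + 1 → ∀ (a : ℤ) (L : X.Modules), PicF.IsInvertible L →
        BrSev.IsTwPow e (a * (p : ℤ)) 1 L → ∀ (j : ℤ), 0 ≤ j → j < (p : ℤ) →
        ∀ (W : X.Modules), FlatMod.IsFinLocFree W →
        (¬ IsZero W ∧ ∀ M₁ M₂ : X.Modules, Nonempty (W ≅ M₁ ⊞ M₂) → IsZero M₁ ∨ IsZero M₂) →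
        ∀ (r : ℕ), 0 < r → BrSev.IsTwPow e j r W →
        Subsingleton (Coh.HH X (CohB1.tensorMod (CohB1.tensorMod E L) W) i)) := by
  haveI : IsAlgClosed K := IsAlgClosure.isAlgClosed k
  haveI : Algebra.IsAlgebraic k K := IsAlgClosure.isAlgebraic
  haveI : Module.Finite k A :=
    Module.finite_of_finrank_pos (by rw [hA]; exact Nat.mul_pos (Nat.succ_pos n) (Nat.succ_pos n))
  have hC : IsCSA k A := ⟨inferInstance, inferInstance, inferInstance⟩
  let F := toPn e (BrSev.bcMod f K E)
  have hF : FlatMod.IsFinLocFree F :=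
    DerPerf.isFinLocFree_pullback _ (DerPerf.isFinLocFree_pullback _ hE)
  have hLW : ∀ {L W : X.Modules} {a j : ℤ} {r : ℕ}, PicF.IsInvertible L → FlatMod.IsFinLocFree W →
      BrSev.IsTwPow e a 1 L → BrSev.IsTwPow e j r W →
      FlatMod.IsFinLocFree (CohB1.tensorMod L W) ∧ BrSev.IsTwPow e (a + j) r (CohB1.tensorMod L W) :=
    fun {L W a j r} hL hW hLt hWt => ⟨ResDesc.isFinLocFree_tensorMod (ResDesc.isFinLocFree_of_isInvertible hL) hW,
      by simpa using S14204.result k f n K e a j 1 r L W hLt hWt⟩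
  constructor
  · rintro ⟨s, Ls, hLs, ⟨c⟩⟩ i hi hin a L hL hLt j _ _ W hW _ r hr hWt
    choose d hd using fun i => exists_iso_twist e (hLs i)
    haveI := (Scheme.Modules.pullbackPushforwardAdjunction e.iso.inv).leftAdjoint_preservesColimits
    have hsum : Horrocks.IsSum F := ⟨s, d,
      ⟨(Scheme.Modules.pullback e.iso.inv).mapIso (c ≪≫ Sigma.mapIso fun i => (hd i).some) ≪≫
        PreservesCoproduct.iso _ _ ≪≫ Sigma.mapIso fun i => toPnPullback e (Twist.twistProjSpace n K (d i))⟩⟩
    obtain ⟨hf, ht⟩ := hLW hL hW hLt hWt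
    exact CohQC.hh_subsingleton_of_iso (TMul.assocIso E L W).symm i ((subsingleton_hh_iff e hE hf hr ht i).2
      ((Horrocks.cond_and_low_of_isSum (by omega) hsum).1 _ i hi (by omega)))
  · intro h
    have hsum : Horrocks.IsSum F := by
      rcases Nat.eq_zero_or_pos n with rfl | hn
      · haveI := BrSevSplit.isIntegral_projSpace (k := K) (n := 0)
        obtain ⟨a, ha⟩ := Horrocks.exists_sum_point (SGA6Ext.isRank hF)
        exact ⟨_, a, ha⟩
      refine Horrocks.cond_low_of_locFree hn hF fun t i hi hid => ?_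
      obtain ⟨hp0, hper⟩ := period_spec hC hp
      have hpz : (p : ℤ) ≠ 0 := by exact_mod_cast hp0.ne'
      obtain ⟨L, r₁, hL, hLi, hr₁, hLt⟩ :=
        exists_type_of_isSBOf (d := n + 1) (Nat.succ_pos n) hA hX e (t / p * (p : ℤ))
      obtain rfl : r₁ = 1 := Nat.dvd_one.1 ((indDvd_iff_twPow e hA hX _ hL hLi hr₁ hLt 1).1
        ((hper _).2 ⟨(t / p).natAbs, by rw [Int.natAbs_mul, Int.natAbs_natCast, mul_comm]⟩)).2
      obtain ⟨W, r, hW, hWi, hr, hWt⟩ := exists_type_of_isSBOf (d := n + 1) (Nat.succ_pos n) hA hX e (t % p)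
      have hinv := isInvertible_of_twPow_one e hL hLt
      obtain ⟨hf, ht⟩ := hLW hinv hW hLt hWt
      rw [show t / (p : ℤ) * p + t % p = t by rw [mul_comm]; exact Int.mul_ediv_add_emod t p] at ht
      refine (subsingleton_hh_iff e hE hf hr ht i).1 (CohQC.hh_subsingleton_of_iso (TMul.assocIso E L W) i ?_)
      exact h i hi (by omega) (t / p) L hinv hLt (t % p) (Int.emod_nonneg _ hpz)
        (Int.emod_lt_of_pos _ (by exact_mod_cast hp0)) W hW hWi r hr hWt
    obtain ⟨s, d, ⟨c⟩⟩ := hsum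
    haveI := (Scheme.Modules.pullbackPushforwardAdjunction e.iso.hom).leftAdjoint_preservesColimits
    exact ⟨s, fun i => e.twist (d i), fun i => isInvertible_twist e (d i),
      ⟨(fromPn e _).symm ≪≫ (Scheme.Modules.pullback e.iso.hom).mapIso c ≪≫ PreservesCoproduct.iso _ _⟩⟩

end Groth.Agent.KrullSch
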