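import Mathlib

/-! The Krull–Schmidt theorem for objects with finite-dimensional endomorphism algebras. -/

set_option autoImplicit false

universe w v u

open CategoryTheory CategoryTheory.Limits

namespace Groth.Agent.KrullSch

attribute [local instance] Abelian.hasFiniteBiproducts

variable {k : Type w} [Field k] {C : Type u} [Category.{v} C] [Abelian C] [Linear k C]

/-- A nonzero object with no nontrivial decomposition. -/
def Indec (X : C) : Prop := ¬ IsZero X ∧ ∀ A B : C, Nonempty (X ≅ A ⊞ B) → IsZero A ∨ IsZero B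

omit [Linear k C] in
theorem idem_eq {X : C} (hX : Indec X) (q : X ⟶ X) (hq : q ≫ q = q) : q = 0 ∨ q = 𝟙 X := by
  obtain ⟨A, i, e, hie, hei⟩ := IsIdempotentComplete.idempotents_split X q hq
  obtain ⟨B, j, f, hjf, hfj⟩ := IsIdempotentComplete.idempotents_split X (𝟙 X - q)
    (Idempotents.idem_of_id_sub_idem q hq)
  have hif : i ≫ f = 0 := by
    have h1 : i ≫ q = i := by rw [← hei, ← Category.assoc, hie, Category.id_comp]
    rw [← Category.comp_id (i ≫ f), ← hjf, Category.assoc, ← Category.assoc f j, hfj, ← Category.assoc,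
      Preadditive.comp_sub, Category.comp_id, h1, sub_self, zero_comp]
  have hje : j ≫ e = 0 := by
    have h1 : (𝟙 X - q) ≫ q = 0 := by rw [Preadditive.sub_comp, Category.id_comp, hq, sub_self]
    have h2 : j ≫ q = 0 := by
      rw [← Category.id_comp (j ≫ q), ← hjf, Category.assoc, ← Category.assoc f j, hfj, h1, comp_zero]
    rw [← Category.comp_id (j ≫ e), ← hie, Category.assoc, ← Category.assoc e i, hei, ← Category.assoc, h2, zero_comp]
  let θ : X ≅ A ⊞ B :=
    { hom := biprod.lift e f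
      inv := biprod.desc i j
      hom_inv_id := by rw [biprod.lift_desc, hei, hfj, add_sub_cancel]
      inv_hom_id := by ext <;> simp [hie, hjf, hif, hje] }
  rcases hX.2 A B ⟨θ⟩ with h | h
  · exact Or.inl (by rw [← hei, h.eq_of_tgt e 0, zero_comp])
  · exact Or.inr (by
      have : 𝟙 X - q = 0 := by rw [← hfj, h.eq_of_tgt f 0, zero_comp]
      rw [sub_eq_zero] at this
      exact this.symm)

variable (k)

/-- An endomorphism of an indecomposable object is invertible or nilpotent. -/
theorem isUnit_or_isNilpotent {X : C} (hX : Indec X) [Module.Finite k (End X)] (a : End X) :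
    IsUnit a ∨ IsNilpotent a := by
  let R := Algebra.adjoin k {a}
  let a' : R := ⟨a, Algebra.subset_adjoin rfl⟩
  haveI : Module.Finite k R := Module.Finite.of_injective R.val.toLinearMap Subtype.val_injective
  letI : CommRing R := Algebra.adjoinCommRingOfComm k (fun x hx y hy => by
    rw [Set.mem_singleton_iff.1 hx, Set.mem_singleton_iff.1 hy])
  haveI : IsArtinianRing R := isArtinian_of_tower k inferInstance
  obtain ⟨n, hn⟩ := IsArtinian.exists_pow_succ_smul_dvd a' (1 : R)
  obtain ⟨g, hg⟩ := hn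
  have hg' : a' ^ n = a' ^ (n + 1) * g := by simpa [smul_eq_mul, mul_comm] using hg.symm
  have hiter : ∀ m, a' ^ n = a' ^ (n + m) * g ^ m := fun m => by
    induction m with
    | zero => simp
    | succ m ih => rw [← add_assoc, pow_succ g, ih, pow_add, hg']; ring
  let q : R := a' ^ n * g ^ n
  have hq : q * q = q := by
    have h := hiter n
    rw [pow_add] at h
    calc q * q = a' ^ n * a' ^ n * g ^ n * g ^ n := by ring
      _ = a' ^ n * g ^ n := by rw [← h]
  have hqa : q * a' ^ n = a' ^ n := by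
    conv_rhs => rw [hiter n, pow_add]
    ring
  rcases idem_eq hX (q : End X) (congrArg Subtype.val hq) with h | h
  · refine Or.inr ⟨n, ?_⟩
    have hq0 : q = 0 := Subtype.ext h
    have : a' ^ n = 0 := by rw [← hqa, hq0, zero_mul]
    simpa [a'] using congrArg Subtype.val this
  · rcases Nat.eq_zero_or_pos n with rfl | hn
    · left
      have h1 : (1 : R) = a' * g := by simpa using hg'
      exact (IsUnit.of_mul_eq_one _ h1.symm).map R.val
    · left
      have h1 : a' ^ n * g ^ n = 1 := Subtype.ext h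
      have h2 : IsUnit (a' ^ n) := IsUnit.of_mul_eq_one _ h1
      exact ((isUnit_pow_iff hn.ne').1 h2).map R.val

theorem exists_isUnit_of_sum {X : C} (hX : Indec X) [Module.Finite k (End X)] {ι : Type*}
    (s : Finset ι) (f : ι → End X) (h : IsUnit (∑ i ∈ s, f i)) : ∃ i ∈ s, IsUnit (f i) := by
  classical
  induction s using Finset.induction_on with
  | empty =>
    exfalso
    rw [Finset.sum_empty, isUnit_zero_iff] at h
    exact hX.1 ((IsZero.iff_id_eq_zero X).2 h.symm)
  | insert i s hi ih =>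
    rw [Finset.sum_insert hi] at h
    obtain ⟨u, hu⟩ := h
    rcases isUnit_or_isNilpotent k hX (↑u⁻¹ * f i) with h1 | h1
    · refine ⟨i, Finset.mem_insert_self _ _, ?_⟩
      have := u.isUnit.mul h1
      rwa [← mul_assoc, Units.mul_inv, one_mul] at this
    · have h2 := h1.isUnit_one_sub
      have h3 : 1 - ↑u⁻¹ * f i = ↑u⁻¹ * ∑ j ∈ s, f j := by
        rw [sub_eq_iff_eq_add', ← mul_add, ← hu, Units.inv_mul]
      rw [h3] at h2
      have h4 := u.isUnit.mul h2
      rw [← mul_assoc, Units.mul_inv, one_mul] at h4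
      obtain ⟨j, hj, hju⟩ := ih h4
      exact ⟨j, Finset.mem_insert_of_mem hj, hju⟩

/-- Splitting one member off a finite sum. -/
noncomputable def splitAt {ι : Type} [Fintype ι] [DecidableEq ι] (F : ι → C) (i₀ : ι) :
    (⨁ F) ≅ F i₀ ⊞ ⨁ Subtype.restrict (fun i => i ≠ i₀) F where
  hom := biprod.lift (biproduct.π F i₀) (biproduct.toSubtype F (fun i => i ≠ i₀))
  inv := biprod.desc (biproduct.ι F i₀) (biproduct.fromSubtype F (fun i => i ≠ i₀))
  hom_inv_id := by
    rw [biprod.lift_desc]
    refine biproduct.hom_ext' _ _ fun j => ?_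
    rw [Preadditive.comp_add, Category.comp_id, biproduct.ι_toSubtype_assoc]
    by_cases hj : j = i₀
    · subst hj
      simp
    · simp [hj]
      exact biproduct.ι_fromSubtype F _ ⟨j, hj⟩
  inv_hom_id := by
    refine biprod.hom_ext' _ _ (biprod.hom_ext _ _ ?_ ?_) (biprod.hom_ext _ _ ?_ ?_)
    · simp
    · refine biproduct.hom_ext _ _ fun i => ?_
      have h : biproduct.ι F i₀ ≫ biproduct.π F i = 0 := biproduct.ι_π_ne _ i.2.symm
      simp [h]
    · refine biproduct.hom_ext' _ _ fun i => ?_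
      have h : biproduct.ι F i ≫ biproduct.π F i₀ = 0 := biproduct.ι_π_ne _ i.2
      simp [h]
    · simp

omit [Linear k C] in
theorem isZero_biproduct_of_isEmpty {ι : Type} [Fintype ι] [IsEmpty ι] (F : ι → C) : IsZero (⨁ F) := by
  rw [IsZero.iff_id_eq_zero]
  exact biproduct.hom_ext _ _ fun i => isEmptyElim i

theorem finite_end_retract {X A : C} [Module.Finite k (End X)] (i : A ⟶ X) (p : X ⟶ A) (h : i ≫ p = 𝟙 A) :
    Module.Finite k (End A) := by
  let Φ : (A ⟶ A) →ₗ[k] (X ⟶ X) := (Linear.leftComp k X p).comp (Linear.rightComp k A i)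
  haveI : Module.Finite k (X ⟶ X) := ‹Module.Finite k (End X)›
  refine Module.Finite.of_injective Φ fun a b hab => ?_
  have hab' : p ≫ a ≫ i = p ≫ b ≫ i := hab
  have h1 := congrArg (fun z => i ≫ z ≫ p) hab'
  simp only [Category.assoc, h, Category.comp_id, reassoc_of% h] at h1
  exact h1

/-- Uniqueness of decompositions into indecomposable objects. -/
theorem exists_equiv : ∀ (N : ℕ) {ι κ : Type} [Fintype ι] [Fintype κ] [DecidableEq ι] [DecidableEq κ]
    (F : ι → C) (G : κ → C), Fintype.card ι = N → (∀ i, Indec (F i)) → (∀ j, Indec (G j)) →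
    (∀ i, Module.Finite k (End (F i))) → ((⨁ F) ≅ ⨁ G) → ∃ e : ι ≃ κ, ∀ i, Nonempty (F i ≅ G (e i)) := by
  intro N
  induction N with
  | zero =>
    intro ι κ _ _ _ _ F G hN hF hG hfin θ
    haveI := Fintype.card_eq_zero_iff.1 hN
    haveI : IsEmpty κ := ⟨fun j => (hG j).1 <| by
      rw [IsZero.iff_id_eq_zero, ← biproduct.ι_π_self G j, ← Category.id_comp (biproduct.π G j),
        ((isZero_biproduct_of_isEmpty F).of_iso θ.symm).eq_of_src (𝟙 _) 0, zero_comp, comp_zero]⟩
    exact ⟨Equiv.equivOfIsEmpty ι κ, fun i => isEmptyElim i⟩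
  | succ N ih =>
    intro ι κ _ _ _ _ F G hN hF hG hfin θ
    obtain ⟨i₀⟩ : Nonempty ι := Fintype.card_pos_iff.1 (by omega)
    haveI := hfin i₀
    let a : ∀ j, F i₀ ⟶ G j := fun j => biproduct.ι F i₀ ≫ θ.hom ≫ biproduct.π G j
    let b : ∀ j, G j ⟶ F i₀ := fun j => biproduct.ι G j ≫ θ.inv ≫ biproduct.π F i₀
    have hsum : (∑ j, a j ≫ b j) = 𝟙 (F i₀) := by
      calc (∑ j, a j ≫ b j) = biproduct.ι F i₀ ≫ θ.hom ≫
            (∑ j, biproduct.π G j ≫ biproduct.ι G j) ≫ θ.inv ≫ biproduct.π F i₀ := by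
              simp only [a, b, Preadditive.comp_sum, Preadditive.sum_comp, Category.assoc]
        _ = 𝟙 _ := by rw [biproduct.total, Category.id_comp, Iso.hom_inv_id_assoc, biproduct.ι_π_self]
    obtain ⟨j₀, -, hu⟩ := exists_isUnit_of_sum k (hF i₀) Finset.univ (fun j => End.of (a j ≫ b j))
      (by rw [show (∑ j, End.of (a j ≫ b j)) = 1 from hsum]; exact isUnit_one)
    haveI : IsIso (a j₀ ≫ b j₀) := (isUnit_iff_isIso _).1 hu
    let r : G j₀ ⟶ F i₀ := b j₀ ≫ inv (a j₀ ≫ b j₀)
    have har : a j₀ ≫ r = 𝟙 _ := by rw [← Category.assoc, IsIso.hom_inv_id]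
    have hra : r ≫ a j₀ = 𝟙 _ := by
      rcases idem_eq (hG j₀) (r ≫ a j₀) (by rw [Category.assoc, reassoc_of% har]) with h | h
      · exfalso
        apply (hF i₀).1
        rw [IsZero.iff_id_eq_zero, ← Category.id_comp (𝟙 (F i₀))]
        nth_rw 1 [← har]
        nth_rw 1 [← har]
        rw [Category.assoc, reassoc_of% h, zero_comp, comp_zero]
      · exact h
    haveI : IsIso (a j₀) := ⟨r, har, hra⟩
    let θ' := (splitAt F i₀).symm ≪≫ θ ≪≫ splitAt G j₀
    haveI : IsIso (biprod.inl ≫ θ'.hom ≫ biprod.fst) := by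
      rw [show biprod.inl ≫ θ'.hom ≫ biprod.fst = a j₀ by simp [θ', splitAt, a]]
      infer_instance
    have hcard : Fintype.card {i // i ≠ i₀} = N := by
      rw [Fintype.card_subtype_compl, Fintype.card_subtype_eq]; omega
    obtain ⟨e, he⟩ := ih (Subtype.restrict (fun i => i ≠ i₀) F) (Subtype.restrict (fun j => j ≠ j₀) G) hcard
      (fun i => hF i) (fun j => hG j) (fun i => hfin i) (Biprod.isoElim θ')
    let e' : ι ≃ κ := (Equiv.optionSubtypeNe i₀).symm.trans ((Equiv.optionCongr e).trans (Equiv.optionSubtypeNe j₀))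
    refine ⟨e', fun i => ?_⟩
    by_cases hi : i = i₀
    · subst hi
      refine ⟨asIso (a j₀) ≪≫ eqToIso ?_⟩
      simp [e']
    · obtain ⟨φ⟩ := he ⟨i, hi⟩
      refine ⟨φ ≪≫ eqToIso ?_⟩
      simp [e', Equiv.optionSubtypeNe_symm_of_ne hi]

/-- A sum of two finite sums. -/
noncomputable def sumIso {ι κ : Type} [Fintype ι] [Fintype κ] (F : ι → C) (G : κ → C) :
    (⨁ F) ⊞ (⨁ G) ≅ ⨁ Sum.elim F G where
  hom := biprod.desc (biproduct.desc fun i => biproduct.ι (Sum.elim F G) (Sum.inl i))
    (biproduct.desc fun j => biproduct.ι (Sum.elim F G) (Sum.inr j))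
  inv := biproduct.desc fun x => Sum.rec (motive := fun s => Sum.elim F G s ⟶ (⨁ F) ⊞ ⨁ G)
    (fun i => biproduct.ι F i ≫ biprod.inl) (fun j => biproduct.ι G j ≫ biprod.inr) x
  hom_inv_id := by
    refine biprod.hom_ext' _ _ (biproduct.hom_ext' _ _ fun i => ?_) (biproduct.hom_ext' _ _ fun i => ?_)
    · rw [biprod.inl_desc_assoc, biproduct.ι_desc_assoc, Category.comp_id]
      exact biproduct.ι_desc _ _
    · rw [biprod.inr_desc_assoc, biproduct.ι_desc_assoc, Category.comp_id]
      exact biproduct.ι_desc _ _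
  inv_hom_id := by
    refine biproduct.hom_ext' _ _ fun x => ?_
    rw [biproduct.ι_desc_assoc, Category.comp_id]
    cases x with
    | inl i =>
      show (biproduct.ι F i ≫ biprod.inl) ≫ _ = _
      rw [Category.assoc, biprod.inl_desc, biproduct.ι_desc]
    | inr j =>
      show (biproduct.ι G j ≫ biprod.inr) ≫ _ = _
      rw [Category.assoc, biprod.inr_desc, biproduct.ι_desc]

/-- Existence of decompositions into indecomposable objects. -/
theorem exists_decomposition : ∀ (d : ℕ) (X : C) [Module.Finite k (End X)], Module.finrank k (End X) ≤ d →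
    ∃ (n : ℕ) (F : Fin n → C), (∀ i, Indec (F i)) ∧ Nonempty (X ≅ ⨁ F) := by
  classical
  intro d
  induction d with
  | zero =>
    intro X _ hd
    refine ⟨0, Fin.elim0, fun i => i.elim0, ⟨?_⟩⟩
    have hs : Subsingleton (End X) := Module.finrank_zero_iff.1 (Nat.le_zero.1 hd)
    exact ((IsZero.iff_id_eq_zero X).2 (Subsingleton.elim (α := End X) _ _)).iso (isZero_biproduct_of_isEmpty _)
  | succ d ih =>
    intro X _ hd
    by_cases hX0 : IsZero X
    · exact ⟨0, Fin.elim0, fun i => i.elim0, ⟨hX0.iso (isZero_biproduct_of_isEmpty _)⟩⟩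
    by_cases hX : Indec X
    · exact ⟨1, fun _ => X, fun _ => hX, ⟨(biproductUniqueIso fun _ : Fin 1 => X).symm⟩⟩
    simp only [Indec, not_and, not_forall, not_or] at hX
    obtain ⟨A, B, ⟨θ⟩, hA, hB⟩ := hX hX0
    haveI : Module.Finite k (End A) := finite_end_retract k (biprod.inl ≫ θ.inv) (θ.hom ≫ biprod.fst) (by simp)
    haveI : Module.Finite k (End B) := finite_end_retract k (biprod.inr ≫ θ.inv) (θ.hom ≫ biprod.snd) (by simp)
    let Φ : End A × End B →ₗ[k] End X :=
      { toFun := fun p => θ.hom ≫ biprod.map p.1 p.2 ≫ θ.inv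
        map_add' := fun p q => by
          rw [show biprod.map (p + q).1 (p + q).2 = biprod.map p.1 p.2 + biprod.map q.1 q.2 by ext <;> simp]
          simp
        map_smul' := fun c p => by
          rw [show biprod.map (c • p).1 (c • p).2 = c • biprod.map p.1 p.2 by ext <;> simp]
          simp }
    have hΦ : Function.Injective Φ := fun p q h => by
      have h' : biprod.map p.1 p.2 = biprod.map q.1 q.2 :=
        (cancel_mono θ.inv).1 ((cancel_epi θ.hom).1 h)
      refine Prod.ext ?_ ?_
      · simpa using congrArg (fun z => biprod.inl ≫ z ≫ biprod.fst) h'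
      · simpa using congrArg (fun z => biprod.inr ≫ z ≫ biprod.snd) h'
    have hle := LinearMap.finrank_le_finrank_of_injective hΦ
    rw [Module.finrank_prod] at hle
    have hpos : ∀ (Y : C), ¬ IsZero Y → ∀ [Module.Finite k (End Y)], 0 < Module.finrank k (End Y) := by
      intro Y hY _
      haveI : Nontrivial (End Y) := ⟨⟨1, 0, fun h => hY ((IsZero.iff_id_eq_zero Y).2 h)⟩⟩
      exact Module.finrank_pos
    have hpA := hpos A hA
    have hpB := hpos B hB
    obtain ⟨n, F, hF, ⟨eA⟩⟩ := ih A (by omega)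
    obtain ⟨m, G, hG, ⟨eB⟩⟩ := ih B (by omega)
    refine ⟨n + m, Sum.elim F G ∘ finSumFinEquiv.symm, fun i => ?_,
      ⟨θ ≪≫ biprod.mapIso eA eB ≪≫ sumIso F G ≪≫
        biproduct.whiskerEquiv (g := Sum.elim F G ∘ finSumFinEquiv.symm) finSumFinEquiv (fun x => eqToIso (by simp))⟩⟩
    show Indec (Sum.elim F G (finSumFinEquiv.symm i))
    rcases finSumFinEquiv.symm i with j | j
    · exact hF j
    · exact hG j

/-- Isomorphic powers have the same indecomposable summands with the same multiplicities. -/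
theorem exists_equiv_of_pow {ι κ : Type} [Fintype ι] [Fintype κ] [DecidableEq ι] [DecidableEq κ]
    (F : ι → C) (G : κ → C) (hF : ∀ i, Indec (F i)) (hG : ∀ j, Indec (G j))
    (hfin : ∀ i, Module.Finite k (End (F i))) (d : ℕ) (hd : 0 < d)
    (θ : (⨁ fun p : ι × Fin d => F p.1) ≅ ⨁ fun p : κ × Fin d => G p.1) :
    ∃ e : ι ≃ κ, ∀ i, Nonempty (F i ≅ G (e i)) := by
  classical
  obtain ⟨e, he⟩ := exists_equiv k _ (fun p : ι × Fin d => F p.1) (fun p : κ × Fin d => G p.1) rfl
    (fun p => hF p.1) (fun p => hG p.1) (fun p => hfin p.1) θ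
  let f : ι → Quotient (isIsomorphicSetoid C) := fun i => ⟦F i⟧
  let g : κ → Quotient (isIsomorphicSetoid C) := fun j => ⟦G j⟧
  have hfg : ∀ p, g (e p).1 = f p.1 := fun p => Quotient.sound (s := isIsomorphicSetoid C) (by
    obtain ⟨φ⟩ := he p
    exact ⟨φ.symm⟩)
  have hcard : ∀ c, Fintype.card {i // f i = c} = Fintype.card {j // g j = c} := fun c => by
    have h1 : {i // f i = c} × Fin d ≃ {j // g j = c} × Fin d :=
      ((Equiv.prodSubtypeFstEquivSubtypeProd (p := fun i => f i = c)).symm.trans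
        ((e.subtypeEquiv fun p => by rw [hfg]).trans
          (Equiv.prodSubtypeFstEquivSubtypeProd (p := fun j => g j = c))))
    have h2 := Fintype.card_congr h1
    rw [Fintype.card_prod, Fintype.card_prod, Fintype.card_fin] at h2
    exact Nat.eq_of_mul_eq_mul_right hd h2
  let E := Equiv.ofFiberEquiv (f := f) (g := g) fun c => Fintype.equivOfCardEq (hcard c)
  refine ⟨E, fun i => ?_⟩
  exact Quotient.exact (s := isIsomorphicSetoid C) (Equiv.ofFiberEquiv_map (fun c => Fintype.equivOfCardEq (hcard c)) i).symm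

end Groth.Agent.KrullSch
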