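import Groth.Agent.KrullSch.SBGalois
import Groth.Agent.FieldAmple.Basic
import Groth.Agent.AlgSpLib.FibreNoeth
import Groth.Agent.S4795
import Mathlib

/-! A scheme split by some extension field is split by a finite one. -/

set_option autoImplicit false
set_option backward.isDefEq.respectTransparency false
set_option backward.isDefEq.respectTransparency.types false
set_option linter.style.haveILetI false
set_option maxHeartbeats 1000000

universe u

open CategoryTheory CategoryTheory.Limits AlgebraicGeometry Opposite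

noncomputable section

namespace Groth.Agent.KrullSch

variable {k : Type u} [Field k] {X : Scheme.{u}} {f : X ⟶ Spec (CommRingCat.of k)} {n : ℕ}
  {K : Type u} [Field K] [Algebra k K]

/-- A splitting field may be taken finite. -/
theorem isBS_of_splitting (e : BrSev.Splitting f K n) : BrSev.IsBS f n := by
  haveI := isProper_of_splitting e
  haveI : LocallyOfFinitePresentation f := inferInstance
  letI : X.Over (Spec (CommRingCat.of k)) := ⟨f⟩
  let D := FieldAmple.algDiagram k K
  let c := FieldAmple.algCone k K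
  have hc : IsLimit c := isLimitOfPreserves Scheme.Spec (FieldAmple.algIsColimit k K).op
  haveI : ∀ (i j : (FieldAmple.FgAlg k K)ᵒᵖ) (a : i ⟶ j), IsAffineHom (D.map a) := fun i j a =>
    @isAffineHom_of_isAffine _ _ _ (inferInstanceAs (IsAffine (Spec _))) (inferInstanceAs (IsAffine (Spec _)))
  let B₀ : FieldAmple.FgAlg k K := ⟨⊥, Subalgebra.fg_bot⟩
  let i₀ : (FieldAmple.FgAlg k K)ᵒᵖ := op B₀
  haveI : CompactSpace (D.obj i₀) := inferInstanceAs (CompactSpace (Spec _))
  haveI : QuasiSeparatedSpace (D.obj i₀) := inferInstanceAs (QuasiSeparatedSpace (Spec _))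
  let a₀ := pullback.snd (X ↘ Spec (CommRingCat.of k)) (FieldAmple.toK k K B₀)
  haveI : LocallyOfFinitePresentation (X ↘ Spec (CommRingCat.of k)) := inferInstanceAs (LocallyOfFinitePresentation f)
  haveI : IsProper (X ↘ Spec (CommRingCat.of k)) := inferInstanceAs (IsProper f)
  haveI : IsProper a₀ := MorphismProperty.pullback_snd (P := @IsProper) _ _ inferInstance
  haveI : LocallyOfFinitePresentation a₀ :=
    MorphismProperty.pullback_snd (P := @LocallyOfFinitePresentation) _ _ inferInstance
  obtain ⟨κ₀, hκ₀, -⟩ := exists_projMap B₀.1 K n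
  let b₀ := CohB1.ProjSpace.toSpec n B₀.1
  haveI : IsProper b₀ := ProjMor.isProper_toSpec n _
  haveI : LocallyOfFinitePresentation b₀ := (PerfGen.flat_lfp_toSpec n _).2
  obtain ⟨j, φ, Xj, Yj, aj, bj, pX, pY, hXj, hYj, θ, hθ⟩ := (S4795.result D c hc i₀ a₀ b₀ (BrSev.bcTo f K)
    (CohB1.ProjSpace.toSpec n K) (FieldAmple.bcProj k K X B₀) κ₀ (FieldAmple.isPullback_bcProj k K X B₀) hκ₀).1
    ⟨e.iso, e.comm⟩
  let A := j.unop.1
  haveI : Algebra.FiniteType k A := (Subalgebra.fg_iff_finiteType _).1 j.unop.2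
  haveI : Nontrivial A := inferInstance
  obtain ⟨m, hm⟩ := Ideal.exists_maximal A
  haveI := hm
  letI : Field (A ⧸ m) := Ideal.Quotient.field m
  haveI : Module.Finite k (A ⧸ m) := finite_of_finite_type_of_isJacobsonRing k _
  let ψ : D.obj j ⟶ _ := D.map φ
  let q : Spec (CommRingCat.of (A ⧸ m)) ⟶ D.obj j := Spec.map (CommRingCat.ofHom (Ideal.Quotient.mk m))
  letI : Algebra B₀.1 (A ⧸ m) :=
    ((Ideal.Quotient.mk m).comp (Subalgebra.inclusion (leOfHom φ.unop : B₀.1 ≤ j.unop.1)).toRingHom).toAlgebra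
  have hq : q ≫ ψ = Spec.map (CommRingCat.ofHom (algebraMap B₀.1 (A ⧸ m))) := (Spec.map_comp _ _).symm
  have hk : q ≫ ψ ≫ FieldAmple.toK k K B₀ = Spec.map (CommRingCat.ofHom (algebraMap k (A ⧸ m))) := by
    rw [← Category.assoc, hq]
    exact (Spec.map_comp _ _).symm
  have hX1 : IsPullback ((pullback.fst aj q ≫ pX) ≫ pullback.fst f (FieldAmple.toK k K B₀)) (pullback.snd aj q) f
      (Spec.map (CommRingCat.ofHom (algebraMap k (A ⧸ m)))) := by
    rw [← hk, ← Category.assoc q]
    exact ((IsPullback.of_hasPullback aj q).paste_horiz hXj).paste_horiz (IsPullback.of_hasPullback f _)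
  have hY1 : IsPullback ((pullback.fst aj q ≫ θ.hom) ≫ pY) (pullback.snd aj q) b₀
      (Spec.map (CommRingCat.ofHom (algebraMap B₀.1 (A ⧸ m)))) := by
    rw [← hq]
    refine IsPullback.paste_horiz ?_ hYj
    exact IsPullback.of_iso (IsPullback.of_hasPullback aj q) (Iso.refl _) θ (Iso.refl _) (Iso.refl _)
      (Category.id_comp _).symm (by simp) ((Category.comp_id _).trans hθ.symm) (by simp)
  obtain ⟨κ, hκ, -⟩ := exists_projMap B₀.1 (A ⧸ m) n
  exact ⟨A ⧸ m, inferInstance, inferInstance, inferInstance,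
    ⟨⟨(IsPullback.of_hasPullback f _).isoIsPullback _ _ hX1 ≪≫ hY1.isoIsPullback _ _ hκ, by
      rw [Iso.trans_hom, Category.assoc, IsPullback.isoIsPullback_hom_snd, IsPullback.isoIsPullback_hom_snd]⟩⟩⟩

end Groth.Agent.KrullSch
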