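import Groth.Agent.KrullSch.PointSplit
import Groth.Agent.KrullSch.FieldFinite
import Groth.Agent.CycPB.BundleSmooth
import Groth.Agent.WeilLib.Iterate
import Groth.Agent.SepBC.Closed
import Groth.Agent.S1550
import Mathlib

/-! Severi–Brauer schemes split over finite Galois extensions. -/

set_option autoImplicit false
set_option backward.isDefEq.respectTransparency false
set_option backward.isDefEq.respectTransparency.types false
set_option linter.style.haveILetI false
set_option maxHeartbeats 1000000

universe u

open CategoryTheory CategoryTheory.Limits AlgebraicGeometry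

noncomputable section

namespace Groth.Agent.KrullSch

variable {k : Type u} [Field k] {X : Scheme.{u}} {f : X ⟶ Spec (CommRingCat.of k)} {n : ℕ}

/-- A splitting of a level over itself is a splitting over the level. -/
theorem nonempty_splitting_of_level (L : Type u) [Field L] [Algebra k L]
    (s : BrSev.Splitting (BrSev.bcTo f L) L n) : Nonempty (BrSev.Splitting f L n) := by
  haveI : IsIso (Spec.map (CommRingCat.ofHom (algebraMap L L))) := by
    rw [Algebra.algebraMap_self, CommRingCat.ofHom_id, Spec.map_id]
    infer_instance
  haveI : IsIso (BrSev.proj (BrSev.bcTo f L) L) := (IsPullback.of_hasPullback _ _).isIso_fst_of_isIso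
  refine ⟨⟨(asIso (BrSev.proj (BrSev.bcTo f L) L)).symm ≪≫ s.iso, ?_⟩⟩
  rw [Iso.trans_hom, Category.assoc, s.comm, Iso.symm_hom, Iso.inv_comp_eq, asIso_hom]
  refine (Category.comp_id _).symm.trans ((congrArg (_ ≫ ·) ?_).trans pullback.condition.symm)
  rw [Algebra.algebraMap_self, CommRingCat.ofHom_id, Spec.map_id]

/-- A splitting field gives a splitting over the algebraic closure. -/
theorem exists_algClosure_splitting {K : Type u} [Field K] [Algebra k K] (e : BrSev.Splitting f K n) :
    Nonempty (BrSev.Splitting f (AlgebraicClosure k) n) := by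
  obtain ⟨L, _, _, _, ⟨e'⟩⟩ := isBS_of_splitting e
  let ι : L →ₐ[k] AlgebraicClosure k := IsAlgClosed.lift
  letI : Algebra L (AlgebraicClosure k) := ι.toRingHom.toAlgebra
  haveI : IsScalarTower k L (AlgebraicClosure k) := IsScalarTower.of_algebraMap_eq fun x => (ι.commutes x).symm
  exact exists_splitting_extend e' _

/-- Split forms of projective space are smooth. -/
theorem smooth_of_splitting {K : Type u} [Field K] [Algebra k K] (e : BrSev.Splitting f K n) : Smooth f := by
  haveI := CycPB.smooth_toSpec n K
  haveI h1 : Smooth (BrSev.bcTo f K) := by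
    rw [← e.comm]
    infer_instance
  haveI : Surjective (Spec.map (CommRingCat.ofHom (algebraMap k K))) :=
    ⟨fun x => ⟨Classical.arbitrary _, Subsingleton.elim _ _⟩⟩
  haveI : Flat (Spec.map (CommRingCat.ofHom (algebraMap k K))) := AlgSpLib.flat_of_field _
  exact MorphismProperty.of_isPullback_of_descendsAlong (P := @Smooth)
    (Q := @Surjective ⊓ @Flat ⊓ @QuasiCompact) (IsPullback.of_hasPullback f _).flip
    ⟨⟨inferInstance, inferInstance⟩, inferInstance⟩ h1

/-- A finite separable extension over which the scheme has a point splits it. -/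
theorem nonempty_splitting_of_fieldPoint [IsProper f] (e : BrSev.Splitting f (AlgebraicClosure k) n) (L : Type u)
    [Field L] [Algebra k L] [Algebra.IsAlgebraic k L] (s : Spec (CommRingCat.of L) ⟶ X)
    (hs : s ≫ f = Spec.map (CommRingCat.ofHom (algebraMap k L))) : Nonempty (BrSev.Splitting f L n) := by
  let ι : L →ₐ[k] AlgebraicClosure k := IsAlgClosed.lift
  letI : Algebra L (AlgebraicClosure k) := ι.toRingHom.toAlgebra
  haveI : IsScalarTower k L (AlgebraicClosure k) := IsScalarTower.of_algebraMap_eq fun x => (ι.commutes x).symm
  haveI : IsProper (BrSev.bcTo f L) := MorphismProperty.pullback_snd (P := @IsProper) _ _ ‹_›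
  haveI : Algebra.IsAlgebraic L (AlgebraicClosure k) := Algebra.IsAlgebraic.tower_top (K := k) L
  obtain ⟨s'⟩ := nonempty_splitting_of_point (levelSplitting L e)
    (pullback.lift s (𝟙 _) (hs.trans (Category.id_comp _).symm)) (pullback.lift_snd _ _ _)
  exact nonempty_splitting_of_level L s'

/-- A split form is split by a finite Galois extension. -/
theorem exists_galois_splitting' {K : Type u} [Field K] [Algebra k K] (e : BrSev.Splitting f K n) :
    ∃ (L : Type u) (_ : Field L) (_ : Algebra k L), FiniteDimensional k L ∧ IsGalois k L ∧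
      Nonempty (BrSev.Splitting f L n) := by
  haveI := isProper_of_splitting e
  obtain ⟨eΩ⟩ := exists_algClosure_splitting e
  letI : X.Over (Spec (CommRingCat.of k)) := ⟨f⟩
  haveI : Smooth (X ↘ Spec (CommRingCat.of k)) := smooth_of_splitting e
  haveI : Nonempty X :=
    ⟨BrSev.proj f K (e.iso.inv ((IsIntegral.nonempty (X := CohB1.ProjSpace n K)
      (self := BrSevSplit.isIntegral_projSpace (k := K) (n := n))).some))⟩
  obtain ⟨y, -, hfin, hsep⟩ := (S1550.result k X).nonempty
  letI := Curv2.resAlgebra k X y
  haveI := hfin
  haveI := hsep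
  have hs : X.fromSpecResidueField y ≫ f = Spec.map (CommRingCat.ofHom (algebraMap k (X.residueField y))) := by
    rw [WeilLib.fromSpecResidueField_comp]
    exact congrArg (fun φ => Spec.map (CommRingCat.ofHom φ)) (SepBC.kStr_eq_resMap (X := X) (k := k) y)
  obtain ⟨e'⟩ := nonempty_splitting_of_fieldPoint eΩ (X.residueField y) (X.fromSpecResidueField y) hs
  let L := X.residueField y
  let F := SeparableClosure k
  let ι : L →ₐ[k] F := IsSepClosed.lift
  letI : Algebra L F := ι.toRingHom.toAlgebra
  haveI : IsScalarTower k L F := IsScalarTower.of_algebraMap_eq fun x => (ι.commutes x).symm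
  exact ⟨IntermediateField.normalClosure k L F, inferInstance, inferInstance, inferInstance, inferInstance,
    exists_splitting_extend e' _⟩

end Groth.Agent.KrullSch
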