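import Groth.Agent.KrullSch.Morita
import Groth.Agent.KrullSch.GaloisSplit
import Groth.Agent.Brauer.TPow
import Groth.Agent.S1535
import Mathlib

/-! The algebras split by the function field of a Severi–Brauer scheme. -/

set_option autoImplicit false
set_option backward.isDefEq.respectTransparency false
set_option backward.isDefEq.respectTransparency.types false
set_option linter.style.haveILetI false
set_option maxHeartbeats 1000000

universe u

open CategoryTheory CategoryTheory.Limits AlgebraicGeometry
open Groth.Agent.Brauer (Eqv IsCSA)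
open scoped TensorProduct

attribute [local instance] CategoryTheory.Abelian.hasFiniteBiproducts
attribute [local instance] Curv2.stalkAlgebra

noncomputable section

namespace Groth.Agent.KrullSch

variable {k : Type u} [Field k]

theorem eqv_of_split {A : Type u} [Ring A] [Algebra k A] (hA : IsCSA k A) (h : Brauer.IndDvd k A 1) :
    Eqv k A k := by
  obtain ⟨N, hN, ⟨e⟩⟩ := (Brauer.indDvd_one_iff hA).1 h
  exact Brauer.eqv_self_of_split hN.ne' e

/-- The powers kill the degree. -/
theorem eqv_tpow_degree {A : Type u} [Ring A] [Algebra k A] (hC : IsCSA k A) {d : ℕ} (hd : 0 < d)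
    (hA : Module.finrank k A = d * d) : Eqv k (CSAGal.tpow k A d) k := by
  haveI := hC.finite
  refine eqv_of_split (hC.pw d) (Brauer.split_of_indDvd hC ?_)
  exact ⟨d * d, (algEquivMatrix (Module.finBasisOfFinrankEq k A hA)).toAlgHom.comp (Algebra.lmul k A),
    Nat.mul_pos hd hd, by rw [hA]⟩

/-- The opposite is a power. -/
theorem eqv_op_tpow {A : Type u} [Ring A] [Algebra k A] (hC : IsCSA k A) {d : ℕ} (hd : 0 < d)
    (hA : Module.finrank k A = d * d) : Eqv k Aᵐᵒᵖ (CSAGal.tpow k A (d - 1)) := by
  have h1 : Eqv k (A ⊗[k] Aᵐᵒᵖ) k := eqv_of_split (hC.tensor hC.op) (Brauer.sim_refl hC)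
  have h2 : Eqv k (CSAGal.tpow k A (d - 1 + 1)) k := by
    rw [Nat.sub_add_cancel hd]
    exact eqv_tpow_degree hC hd hA
  exact Brauer.Eqv.tensor_self_left.symm.trans <|
    (((Brauer.eqv_tpow_succ A (d - 1)).symm.trans h2).symm.tensor_right).trans <|
    (Eqv.of_algEquiv (Algebra.TensorProduct.assoc k k k _ A Aᵐᵒᵖ)).trans <|
    h1.tensor_left.trans Brauer.Eqv.tensor_self_right

variable {X : Scheme.{u}} {f : X ⟶ Spec (CommRingCat.of k)} [IsProper f] {n : ℕ} {K : Type u} [Field K] [Algebra k K]
  [IsAlgClosure k K]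

/-- The endomorphisms of a module of twisting type are equivalent to those of its indecomposable summand. -/
theorem exists_eqv_end [X.Over (Spec (CommRingCat.of k))] (hXf : (X ↘ Spec (CommRingCat.of k)) = f)
    (e : BrSev.Splitting f K n) {j : ℤ} {V W : X.Modules} (hV : FlatMod.IsFinLocFree V) (hW : FlatMod.IsFinLocFree W)
    (hWi : Indec W) {r t : ℕ} (hr : 0 < r) (hWt : BrSev.IsTwPow e j t W) (hVt : BrSev.IsTwPow e j r V) :
    Eqv k (End V) (End W) := by
  subst hXf
  haveI : IsAlgClosed K := IsAlgClosure.isAlgClosed k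
  haveI : Algebra.IsAlgebraic k K := IsAlgClosure.isAlgebraic
  let p := X ↘ Spec (CommRingCat.of k)
  haveI : IsLocallyNoetherian X := LocallyOfFiniteType.isLocallyNoetherian p
  letI : (BrSev.bc p K).Over (Spec (CommRingCat.of K)) := ⟨BrSev.bcTo p K⟩
  haveI : IsProper (BrSev.bc p K ↘ Spec (CommRingCat.of K)) :=
    inferInstanceAs (IsProper (pullback.snd p (Spec.map (CommRingCat.ofHom (algebraMap k K)))))
  have sq : IsPullback (BrSev.proj p K) (BrSev.bc p K ↘ Spec (CommRingCat.of K)) (X ↘ Spec (CommRingCat.of k))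
      (Spec.map (CommRingCat.ofHom (algebraMap k K))) := IsPullback.of_hasPullback _ _
  haveI := connectedSpace_splitting e
  have hinv := isInvertible_twist e j
  have hLc := K0Coh.isCoh_of_isFinLocFree (ResDesc.isFinLocFree_of_isInvertible hinv)
  obtain ⟨a⟩ := hVt
  obtain ⟨b⟩ := hWt
  have hV0 : ¬ IsZero V := fun h => not_isZero_pow (p := p) (indec_invertible hinv) hr
    (((Scheme.Modules.pullback (BrSev.proj p K)).map_isZero h).of_iso a.symm)
  obtain ⟨G, m, hG, hGi, ⟨c⟩, s, ⟨eG⟩⟩ := exists_iso_pow_indec (k := k) (K := K) (BrSev.proj p K) sq hV hV0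
    (e.twist j) hLc (indec_invertible hinv) r a
  obtain ⟨ω⟩ := nonempty_iso_of_same_type (BrSev.proj p K) sq (K0Coh.isCoh_of_isFinLocFree hG)
    (K0Coh.isCoh_of_isFinLocFree hW) hGi hWi (e.twist j) s t eG b
  have hm : m ≠ 0 := fun hm => hV0 (by
    subst hm
    exact ((isZero_biproduct_of_isEmpty fun _ : Fin 0 => G).of_iso (biproduct.isoCoproduct _).symm).of_iso c)
  exact (Eqv.of_algEquiv ((endAlgEquiv k (c ≪≫ (biproduct.isoCoproduct _).symm ≪≫ biproduct.mapIso fun _ => ω)).trans
    (endPowAlgEquiv k W m))).trans (Brauer.eqv_matrix m hm)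

omit [IsProper f] [IsAlgClosure k K] in
theorem regular_of_splitting (e : BrSev.Splitting f K n) (x : X) : IsRegularLocalRing (X.presheaf.stalk x) := by
  letI : X.Over (Spec (CommRingCat.of k)) := ⟨f⟩
  haveI : Smooth (X ↘ Spec (CommRingCat.of k)) := smooth_of_splitting e
  exact S1535.result k X x

/-- An algebra split by the function field is a power of the algebra of the scheme. -/
theorem exists_eqv_tpow_of_splits [X.Over (Spec (CommRingCat.of k))] [IsIntegral X]
    (hXf : (X ↘ Spec (CommRingCat.of k)) = f) (e : BrSev.Splitting f K n) {A : Type u} [Ring A] [Algebra k A]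
    [Algebra.IsCentral k A] [IsSimpleRing A] (hA : Module.finrank k A = (n + 1) * (n + 1))
    (hX : BrSev.IsSBOf k A ((n + 1) * (n + 1) - (n + 1)) f)
    {B : Type u} [Ring B] [Algebra k B] [Algebra.IsCentral k B] [IsSimpleRing B] [FiniteDimensional k B]
    (h : Curves.Splits k B X.functionField) : ∃ m : ℕ, Eqv k B (CSAGal.tpow k A m) := by
  subst hXf
  haveI : IsAlgClosed K := IsAlgClosure.isAlgClosed k
  haveI : Algebra.IsAlgebraic k K := IsAlgClosure.isAlgebraic
  haveI : Module.Finite k A := Module.finite_of_finrank_pos (by rw [hA]; positivity)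
  have hC : IsCSA k A := ⟨inferInstance, inferInstance, inferInstance⟩
  let p := X ↘ Spec (CommRingCat.of k)
  haveI : IsLocallyNoetherian X := LocallyOfFiniteType.isLocallyNoetherian p
  obtain ⟨E, r, hr, hB, hEr, ⟨act⟩⟩ := exists_bundle_of_splits (regular_of_splitting e) h
  obtain ⟨j, hEt⟩ := exists_isTwPow_of_action e hr hB hEr act
  have hE := Nagata.isFinLocFree_of_rank' hEr
  haveI : IsProper (X ↘ Spec (CommRingCat.of k)) := inferInstanceAs (IsProper p)
  obtain ⟨M, t, hM, hMi, ht, hMt⟩ := exists_type_of_isAlgClosed e (((n + 1 : ℕ) : ℤ))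
  obtain rfl : t = 1 := Nat.dvd_one.1 ((indDvd_iff_twPow e hA hX _ hM hMi ht hMt 1).1 (by
    rw [Int.natAbs_natCast]
    exact Brauer.split_of_indDvd hC ⟨(n + 1) * (n + 1),
      (algEquivMatrix (Module.finBasisOfFinrankEq k A hA)).toAlgHom.comp (Algebra.lmul k A),
      by positivity, by rw [hA]⟩)).2
  -- shift the type into the positive range
  suffices key : ∀ (N : ℕ) (E' : X.Modules) (i : ℤ), FlatMod.IsFinLocFree E' → BrSev.IsTwPow e i r E' →
      Nonempty (B →ₐ[k] End E') → 1 - i ≤ N → ∃ m, Eqv k B (CSAGal.tpow k A m) from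
    key (1 - j).toNat E j hE hEt ⟨act⟩ (Int.self_le_toNat _)
  intro N
  induction N with
  | zero =>
    rintro E' i hE' hE't ⟨act'⟩ hi
    obtain ⟨i', rfl⟩ : ∃ i' : ℕ, i = ((i' + 1 : ℕ) : ℤ) := ⟨(i - 1).toNat, by omega⟩
    obtain ⟨W, t, hW, hWi, -, hWt⟩ := exists_type_of_isAlgClosed e ((i' + 1 : ℕ) : ℤ)
    obtain ⟨d, V, hd, hV, hVt, ⟨θ⟩⟩ := exists_realises e hA hX
    obtain ⟨V', hV', hV't, ⟨θ'⟩⟩ := exists_pw_end e rfl hC.op hd hV hVt θ i'
    have hfin := finrank_end_twPow e rfl hE' hE't
    haveI : Nontrivial (End E') := Module.nontrivial_of_finrank_pos (R := k) (by rw [hfin]; exact Nat.mul_pos hr hr)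
    haveI : Module.Finite k (End E') := Module.finite_of_finrank_pos (by rw [hfin]; exact Nat.mul_pos hr hr)
    have hinj : Function.Injective act' := RingHom.injective act'.toRingHom
    let φ : B ≃ₐ[k] End E' := AlgEquiv.ofBijective act' ⟨hinj,
      (LinearMap.injective_iff_surjective_of_finrank_eq_finrank (hB.trans hfin.symm) (f := act'.toLinearMap)).1 hinj⟩
    refine ⟨(n + 1 - 1) * (i' + 1), ?_⟩
    exact (Eqv.of_algEquiv φ).trans <| (exists_eqv_end rfl e hE' hW hWi hr hWt hE't).trans <|
      (exists_eqv_end rfl e hV' hW hWi (pow_pos hd _) hWt hV't).symm.trans <|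
      (Eqv.of_algEquiv θ'.symm).trans <|
      (Brauer.eqv_tpow_congr Aᵐᵒᵖ (eqv_op_tpow hC (Nat.succ_pos n) hA) (i' + 1)).trans
      (Brauer.eqv_tpow_mul A (n + 1 - 1) (i' + 1)).symm
  | succ N ih =>
    rintro E' i hE' hE't ⟨act'⟩ hi
    refine ih (CohB1.tensorMod E' M) (i + ((n + 1 : ℕ) : ℤ)) (ResDesc.isFinLocFree_tensorMod hE' hM) ?_
      ⟨(endTensL k E' M).comp act'⟩ (by omega)
    have := Groth.Agent.S14204.result k p n K e i _ r 1 E' M hE't hMt
    rwa [mul_one] at this

theorem surjective_of_injective' {F : Type u} [Field F] {M W : Type u} [AddCommGroup M] [Module F M]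
    [AddCommGroup W] [Module F W] [Module.Finite F W] (g : M →ₗ[F] W) (hg : Function.Injective g)
    (h : Module.finrank F M = Module.finrank F W) : Function.Surjective g :=
  LinearMap.range_eq_top.1 (Submodule.eq_top_of_finrank_eq ((LinearMap.finrank_range_of_inj hg).trans h))

/-- A simple algebra with a left ideal of the dimension the square root of its own is a matrix algebra. -/
theorem nonempty_matrix_of_leftIdeal {F : Type u} [Field F] {R : Type u} [Ring R] [Algebra F R] [IsSimpleRing R]
    [Module.Finite F R] {d : ℕ} (hd : 0 < d) (hR : Module.finrank F R = d * d) (N : Submodule F R)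
    (hN : ∀ a : R, ∀ x ∈ N, a * x ∈ N) (hdim : Module.finrank F N = d) :
    Nonempty (R ≃ₐ[F] Matrix (Fin d) (Fin d) F) := by
  let act : R →ₐ[F] Module.End F N :=
    { toFun := fun a => (LinearMap.mulLeft F a).restrict fun x hx => hN a x hx
      map_one' := LinearMap.ext fun x => Subtype.ext (one_mul x.1)
      map_mul' := fun a c => LinearMap.ext fun x => Subtype.ext (mul_assoc a c x.1)
      map_zero' := LinearMap.ext fun x => Subtype.ext (zero_mul x.1)
      map_add' := fun a c => LinearMap.ext fun x => Subtype.ext (add_mul a c x.1)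
      commutes' := fun c => LinearMap.ext fun x => Subtype.ext (Algebra.smul_def c x.1).symm }
  haveI : Nontrivial N := Module.nontrivial_of_finrank_pos (R := F) (by rw [hdim]; exact hd)
  have hinj : Function.Injective act := RingHom.injective act.toRingHom
  have β := Module.finBasisOfFinrankEq F N hdim
  have hfr : Module.finrank F R = Module.finrank F (Module.End F N) := by
    rw [hR, (algEquivMatrix β).toLinearEquiv.finrank_eq, Module.finrank_matrix,
      Fintype.card_fin, Module.finrank_self, mul_one]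
  haveI : Module.Finite F N := inferInstance
  haveI : Module.Finite F (Module.End F N) := inferInstance
  have hi : Function.Injective act.toLinearMap := hinj
  have hsurj : Function.Surjective act.toLinearMap :=
    surjective_of_injective' (M := R) (W := Module.End F N) act.toLinearMap hi hfr
  exact ⟨(AlgEquiv.ofBijective act ⟨hinj, hsurj⟩).trans (algEquivMatrix β)⟩

omit [IsProper f] in
/-- A left ideal of the least dimension over a field splits the algebra. -/
theorem splits_of_point {A : Type u} [Ring A] [Algebra k A] [Algebra.IsCentral k A] [IsSimpleRing A]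
    [Module.Finite k A] {d : ℕ} (hd : 0 < d) (hA : Module.finrank k A = d * d) {F : Type u} [Field F] [Algebra k F]
    (P : BrSev.SBSet k A (d * d - d) F) : Curves.Splits k A F := by
  obtain ⟨N, hN⟩ := P
  obtain ⟨-, hCs, hCf⟩ := Brauer.IsCSA.baseChange (k := k) (T := A) ⟨inferInstance, inferInstance, inferInstance⟩ F
  haveI := hCs
  haveI := hCf
  have hR : Module.finrank F (F ⊗[k] A) = d * d := by rw [Module.finrank_baseChange, hA]
  have hdim : Module.finrank F N.toSubmodule = d := by
    have h1 := Submodule.finrank_quotient_add_finrank N.toSubmodule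
    have h2 : Module.finrank F ((F ⊗[k] A) ⧸ N.toSubmodule) = d * d - d := by
      have h3 := N.rankAtStalk_eq ⟨⊥, Ideal.isPrime_bot⟩
      rw [Module.rankAtStalk_eq_finrank_of_free] at h3
      exact h3
    rw [h2, hR] at h1
    have := Nat.le_mul_self d
    omega
  exact ⟨d, hd.ne', nonempty_matrix_of_leftIdeal hd hR N.toSubmodule (fun a x hx => hN a x hx) hdim⟩

omit [IsProper f] in
/-- The function field splits the algebra. -/
theorem splits_functionField [X.Over (Spec (CommRingCat.of k))] [IsIntegral X]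
    (hXf : (X ↘ Spec (CommRingCat.of k)) = f) {A : Type u} [Ring A] [Algebra k A] [Algebra.IsCentral k A]
    [IsSimpleRing A] {d : ℕ} (hd : 0 < d) (hA : Module.finrank k A = d * d) (hX : BrSev.IsSBOf k A (d * d - d) f) :
    Curves.Splits k A X.functionField := by
  subst hXf
  haveI : Module.Finite k A := Module.finite_of_finrank_pos (by rw [hA]; exact Nat.mul_pos hd hd)
  obtain ⟨b⟩ := hX
  let p := X ↘ Spec (CommRingCat.of k)
  let F : Type u := X.functionField
  have hg : X.fromSpecStalk (genericPoint X) ≫ p = Spec.map (CommRingCat.ofHom (algebraMap k F)) := by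
    have h : p = X.toSpecΓ ≫ Spec.map ((Scheme.ΓSpecIso (CommRingCat.of k)).inv ≫ p.appTop) := by
      rw [Spec.map_comp, ← Scheme.toSpecΓ_naturality_assoc, ← SpecMap_ΓSpecIso_hom, ← Spec.map_comp,
        Iso.inv_hom_id, Spec.map_id, Category.comp_id]
    rw [h, Scheme.fromSpecStalk_toSpecΓ_assoc, ← Spec.map_comp]
    rfl
  exact splits_of_point hd hA (F := F) (b.bij F ⟨_, hg⟩)

end Groth.Agent.KrullSch
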