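import Groth.Agent.KrullSch.Coherent
import Groth.Agent.W7Cech.BCSec
import Groth.Agent.KosExt.Hom
import Groth.Agent.PBundle.FrameTools
import Groth.Agent.FormAlg.Thicken
import Groth.Agent.SerrePn.Basic
import Mathlib

/-! Coefficients of morphisms between base changed modules along a field extension. -/

set_option autoImplicit false
set_option backward.isDefEq.respectTransparency false
set_option backward.isDefEq.respectTransparency.types false
set_option linter.style.haveILetI false

universe u

open CategoryTheory CategoryTheory.Limits AlgebraicGeometry TopologicalSpace Opposite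
open Groth.Agent.W7Cech
open Groth.Agent.QC (res res_smul app_res)
open scoped TensorProduct

namespace Groth.Agent.KrullSch

variable {k : Type u} [Field k] {K : Type u} [CommRing K] [Algebra k K] {X X' : Scheme.{u}}
  [X.Over (Spec (CommRingCat.of k))] [X'.Over (Spec (CommRingCat.of K))] (g : X' ⟶ X)
  (sq : IsPullback g (X' ↘ Spec (CommRingCat.of K)) (X ↘ Spec (CommRingCat.of k))
    (Spec.map (CommRingCat.ofHom (algebraMap k K))))

theorem hom_smul_app {A : Type u} [CommRing A] {Y : Scheme.{u}} [Y.Over (Spec (CommRingCat.of A))]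
    {M N : Y.Modules} (a : A) (f : M ⟶ N) (U : Y.Opens) (s : Γ(M, U)) :
    (a • f).app U s = secRing A U a • f.app U s := by
  rw [KLin.smul_def, Scheme.Modules.Hom.comp_app]
  show f.app U ((Formal.smulMod A M a).app U s) = _
  rw [SerrePn.app_smulMod]
  exact Scheme.Modules.Hom.app_smul f _ _

include sq in
/-- A linear functional on the extension gives compatible retractions on affine opens. -/
theorem exists_retraction {G : X.Modules} (hG : Coh.IsQCoh G) (φ : K →ₗ[k] k) (V : X.affineOpens) :
    ∃ c : Γ((Scheme.Modules.pullback g).obj G, g ⁻¹ᵁ V.1) →+ Γ(G, V.1),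
      (∀ (b : K) (s : Γ(G, V.1)), c (secRing K (g ⁻¹ᵁ V.1) b • OmegaSh.pullSect g G V.1 s) = secRing k V.1 (φ b) • s) := by
  let N : ModuleCat.{u} K := (secA K (g ⁻¹ᵁ V.1)).obj ((Scheme.Modules.pullback g).obj G)
  letI : Module k N := Module.compHom N (algebraMap k K)
  haveI : IsScalarTower k K N := IsScalarTower.of_algebraMap_smul fun _ _ => rfl
  have h := isBaseChange_pullSec k K g sq hG V.2
  let c : N →ₗ[k] ((secA k V.1).obj G : Type u) :=
    (TensorProduct.lid k _).toLinearMap ∘ₗ φ.rTensor _ ∘ₗ (h.equiv.symm.toLinearMap.restrictScalars k)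
  refine ⟨c.toAddMonoidHom, fun b s => ?_⟩
  have h1 : h.equiv.symm (b • (pullSec k K g (F := G) V.1 sq s : N)) = b ⊗ₜ[k] (show (secA k V.1).obj G from s) := by
    rw [LinearEquiv.symm_apply_eq, h.equiv_tmul]
  show c (b • (pullSec k K g (F := G) V.1 sq s : N)) = _
  show TensorProduct.lid k _ (φ.rTensor _ (h.equiv.symm (b • (pullSec k K g (F := G) V.1 sq s : N)))) = _
  erw [h1]
  rw [LinearMap.rTensor_tmul, TensorProduct.lid_tmul]
  rfl

include sq in
theorem gen_induction {G : X.Modules} (hG : Coh.IsQCoh G) (V : X.affineOpens)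
    {P : Γ((Scheme.Modules.pullback g).obj G, g ⁻¹ᵁ V.1) → Prop} (h0 : P 0) (hadd : ∀ a b, P a → P b → P (a + b))
    (hgen : ∀ (b : K) (s : Γ(G, V.1)), P (secRing K (g ⁻¹ᵁ V.1) b • OmegaSh.pullSect g G V.1 s))
    (z : Γ((Scheme.Modules.pullback g).obj G, g ⁻¹ᵁ V.1)) : P z := by
  let N : ModuleCat.{u} K := (secA K (g ⁻¹ᵁ V.1)).obj ((Scheme.Modules.pullback g).obj G)
  letI : Module k N := Module.compHom N (algebraMap k K)
  haveI : IsScalarTower k K N := IsScalarTower.of_algebraMap_smul fun _ _ => rfl
  have h := isBaseChange_pullSec k K g sq hG V.2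
  obtain ⟨w, rfl⟩ := h.equiv.surjective (z : N)
  induction w using TensorProduct.induction_on with
  | zero => rw [map_zero]; exact h0
  | tmul b s => rw [h.equiv_tmul]; exact hgen b s
  | add a b ha hb => rw [map_add]; exact hadd _ _ ha hb

include sq in
/-- The coefficient of a morphism of base changed modules along a linear functional. -/
theorem exists_coeff {F G : X.Modules} (hG : Coh.IsQCoh G) (φ : K →ₗ[k] k) :
    ∃ (C : ((Scheme.Modules.pullback g).obj F ⟶ (Scheme.Modules.pullback g).obj G) →+ (F ⟶ G))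
      (c : ∀ V : X.affineOpens, Γ((Scheme.Modules.pullback g).obj G, g ⁻¹ᵁ V.1) →+ Γ(G, V.1)),
      (∀ (V : X.affineOpens) (b : K) (s : Γ(G, V.1)),
        c V (secRing K (g ⁻¹ᵁ V.1) b • OmegaSh.pullSect g G V.1 s) = secRing k V.1 (φ b) • s) ∧
      (∀ f (U : X.affineOpens) s, (C f).app U.1 s = c U (f.app (g ⁻¹ᵁ U.1) (OmegaSh.pullSect g F U.1 s))) ∧
      ∀ (b : K) (γ : F ⟶ G), C (b • (Scheme.Modules.pullback g).map γ) = φ b • γ := by
  choose c hc using fun V => exists_retraction g sq hG φ V
  have hlin : ∀ (V : X.affineOpens) (r : Γ(X, V.1)) (z : Γ((Scheme.Modules.pullback g).obj G, g ⁻¹ᵁ V.1)),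
      c V ((g.app V.1).hom r • z) = r • c V z := by
    intro V r
    refine gen_induction g sq hG V (by rw [smul_zero, map_zero, smul_zero])
      (fun a b ha hb => by rw [smul_add, map_add, map_add, ha, hb, smul_add]) fun b s => ?_
    rw [smul_comm, ← OmegaSh.pullSect_smul g G V.1 r s, hc, hc, smul_comm]
  have hres : ∀ (U V : X.affineOpens) (h : V.1 ≤ U.1) (z : Γ((Scheme.Modules.pullback g).obj G, g ⁻¹ᵁ U.1)),
      res G h (c U z) = c V (res ((Scheme.Modules.pullback g).obj G) (g.preimage_mono h) z) := by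
    intro U V h
    refine gen_induction g sq hG U (by rw [map_zero, map_zero, map_zero, map_zero])
      (fun a b ha hb => by rw [map_add, map_add, map_add, map_add, ha, hb]) fun b s => ?_
    rw [hc, res_smul, resO_secRing, res_smul, resO_secRing, ← PBundle.pullSect_res g G h s, hc]
  have hex : ∀ f : (Scheme.Modules.pullback g).obj F ⟶ (Scheme.Modules.pullback g).obj G,
      ∃ γ : F ⟶ G, ∀ (U : X.affineOpens) s, γ.app U.1 s = c U (f.app (g ⁻¹ᵁ U.1) (OmegaSh.pullSect g F U.1 s)) := by
    intro f
    obtain ⟨γ, hγ⟩ := KosExt.exists_hom_affine F G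
      (fun U =>
        { toFun := fun s => c U (f.app (g ⁻¹ᵁ U.1) (OmegaSh.pullSect g F U.1 s))
          map_add' := fun s t => by rw [map_add, map_add, map_add]
          map_smul' := fun r s => by
            rw [OmegaSh.pullSect_smul, RingHom.id_apply, ← hlin]
            exact congrArg (c U) (Scheme.Modules.Hom.app_smul f _ _) })
      (fun U V h s => by
        show res G h (c U _) = c V (f.app (g ⁻¹ᵁ V.1) (OmegaSh.pullSect g F V.1 (res F h s)))
        rw [hres _ _ h, PBundle.pullSect_res g F h s, ← app_res])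
    exact ⟨γ, hγ⟩
  choose C hC using hex
  refine ⟨AddMonoidHom.mk' C fun f f' => KosExt.hom_ext_affine fun U s => ?_, c, hc, hC, fun b γ => KosExt.hom_ext_affine fun U s => ?_⟩
  · rw [hC, Scheme.Modules.Hom.add_app]
    show c U (f.app _ _ + f'.app _ _) = (C f).app U.1 s + (C f').app U.1 s
    rw [map_add, hC, hC]
  · show (C _).app U.1 s = _
    rw [hC, hom_smul_app, hom_smul_app, ← hc]
    congr 2
    exact (congr($(((Scheme.Modules.pullbackPushforwardAdjunction g).unit.naturality γ)).app U.1 s)).symm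

end Groth.Agent.KrullSch
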