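import Groth.Agent.KrullSch.EndTensor
import Groth.Agent.Brauer.Primary
import Mathlib

/-! The multiplicities of twists on Severi–Brauer schemes, given a module realising the algebra. -/

set_option autoImplicit false
set_option backward.isDefEq.respectTransparency false
set_option backward.isDefEq.respectTransparency.types false
set_option linter.style.haveILetI false

universe u

open CategoryTheory CategoryTheory.Limits AlgebraicGeometry
open Groth.Agent.Brauer (pw)

attribute [local instance] CategoryTheory.Abelian.hasFiniteBiproducts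

noncomputable section

namespace Groth.Agent.KrullSch

variable {k : Type u} [Field k] {X : Scheme.{u}} {f : X ⟶ Spec (CommRingCat.of k)} [IsProper f] {n : ℕ}
  {K : Type u} [Field K] [Algebra k K] [IsAlgClosed K] [Algebra.IsAlgebraic k K] (e : BrSev.Splitting f K n)

/-- A module of type `O(1)` whose endomorphisms form `T`. -/
def Realises (T : Type u) [Ring T] [Algebra k T] : Prop :=
  letI : X.Over (Spec (CommRingCat.of k)) := ⟨f⟩
  ∃ (d : ℕ) (V : X.Modules), 0 < d ∧ FlatMod.IsFinLocFree V ∧ BrSev.IsTwPow e 1 d V ∧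
    Nonempty (T ≃ₐ[k] End V)

theorem indDvd_op_iff {A : Type u} [Ring A] [Algebra k A] {N : ℕ} :
    Brauer.IndDvd k Aᵐᵒᵖ N ↔ Brauer.IndDvd k A N :=
  ⟨fun h => (Brauer.IndDvd.op h).of_algEquiv (AlgEquiv.opOp k A).symm, Brauer.IndDvd.op⟩

/-- The structure module has type `O(0)`. -/
theorem isTwPow_structure : BrSev.IsTwPow e 0 1 (Coh.structureModule X) := by
  obtain ⟨z⟩ := PnHodge.nonempty_twist_zero_iso (n := n) (A := K)
  let c : e.twist 0 ≅ Coh.structureModule (BrSev.bc f K) :=
    (Scheme.Modules.pullback e.iso.hom).mapIso z ≪≫ DerPerf.pullUnitIso _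
  exact ⟨DerPerf.pullUnitIso _ ≪≫ c.symm ≪≫
    { hom := Sigma.ι (fun _ : Fin 1 => e.twist 0) 0
      inv := Sigma.desc fun _ => 𝟙 _
      hom_inv_id := Sigma.ι_desc _ _
      inv_hom_id := Sigma.hom_ext _ _ fun i => by
        rw [Sigma.ι_desc_assoc, Category.id_comp, Category.comp_id, Subsingleton.elim i 0] }⟩

/-- The multiplicity is the index of the tensor power of a realised algebra. -/
theorem indDvd_of_realises {T : Type u} [Ring T] [Algebra k T] (hT : Brauer.IsCSA k T) (hR : Realises e T)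
    (j : ℕ) {W : X.Modules} (hW : FlatMod.IsFinLocFree W) (hWi : Indec W) {r : ℕ} (hr : 0 < r)
    (hWt : BrSev.IsTwPow e (j : ℤ) r W) (N : ℕ) : Brauer.IndDvd k (pw k T j) N ↔ 0 < N ∧ r ∣ N := by
  letI : X.Over (Spec (CommRingCat.of k)) := ⟨f⟩
  haveI : IsProper (X ↘ Spec (CommRingCat.of k)) := inferInstanceAs (IsProper f)
  haveI : IsLocallyNoetherian X := LocallyOfFiniteType.isLocallyNoetherian f
  letI : (BrSev.bc f K).Over (Spec (CommRingCat.of K)) := ⟨BrSev.bcTo f K⟩
  haveI : IsProper (BrSev.bc f K ↘ Spec (CommRingCat.of K)) :=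
    inferInstanceAs (IsProper (pullback.snd f (Spec.map (CommRingCat.ofHom (algebraMap k K)))))
  haveI : IsLocallyNoetherian (BrSev.bc f K) :=
    LocallyOfFiniteType.isLocallyNoetherian (BrSev.bc f K ↘ Spec (CommRingCat.of K))
  haveI := BrSevSplit.isIntegral_projSpace (k := K) (n := n)
  haveI : Nonempty (BrSev.bc f K) := ⟨e.iso.inv (IsIntegral.nonempty (X := CohB1.ProjSpace n K)).some⟩
  haveI : IsIntegral (BrSev.bc f K) := isIntegral_of_isOpenImmersion e.iso.hom
  have sq : IsPullback (BrSev.proj f K) (BrSev.bc f K ↘ Spec (CommRingCat.of K)) (X ↘ Spec (CommRingCat.of k))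
      (Spec.map (CommRingCat.ofHom (algebraMap k K))) := IsPullback.of_hasPullback _ _
  obtain ⟨d, V, hd, hV, hVt, ⟨θ⟩⟩ := hR
  have key : ∀ {V' : X.Modules} {s : ℕ}, FlatMod.IsFinLocFree V' → 0 < s → BrSev.IsTwPow e (j : ℤ) s V' →
      Nonempty (pw k T j ≃ₐ[k] End V') → CSAGal.IsIndex k (pw k T j) r := by
    rintro V' s hV' hs ⟨a⟩ ⟨θ'⟩
    exact isIndex_of_end (BrSev.proj f K) sq (L := e.twist (j : ℤ))
      (K0Coh.isCoh_of_isFinLocFree (ResDesc.isFinLocFree_of_isInvertible (isInvertible_twist e _)))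
      (indec_twist e _) (end_invertible_eq_zero_or_isIso (pullback.snd _ _) (isInvertible_twist e _))
      hV' hW hWi hr hs hWt.some a θ'
  refine (Brauer.indDvd_iff_of_isIndex (hT.pw j) ?_).2 N
  rcases j with _ | j
  · have hO : FlatMod.IsFinLocFree (Coh.structureModule X) :=
      ResDesc.isFinLocFree_of_isInvertible TMul.isInvertible_structureModule
    have ht : BrSev.IsTwPow e ((0 : ℕ) : ℤ) 1 (Coh.structureModule X) := by simpa using isTwPow_structure e
    have hone := finrank_end_twPow e (show (X ↘ Spec (CommRingCat.of k)) = f from rfl) hO ht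
    haveI : Nontrivial (End (Coh.structureModule X)) :=
      Module.nontrivial_of_finrank_pos (R := k) (by rw [hone]; exact Nat.one_pos)
    haveI : Module.Finite k (End (Coh.structureModule X)) :=
      Module.finite_of_finrank_pos (by rw [hone]; exact Nat.one_pos)
    refine key hO Nat.one_pos ht ⟨(Brauer.pwZero k T).trans (AlgEquiv.ofBijective (Algebra.ofId k _)
      ⟨(algebraMap k _).injective, ?_⟩)⟩
    exact (LinearMap.injective_iff_surjective_of_finrank_eq_finrank (by rw [Module.finrank_self, hone])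
      (f := Algebra.linearMap k (End (Coh.structureModule X)))).1 (algebraMap k _).injective
  · obtain ⟨V', hV', ht, he⟩ := exists_pw_end e rfl hT hd hV hVt θ j
    exact key hV' (pow_pos hd _) ht he

/-- The multiplicity is the index of the tensor power. -/
theorem isIndex_of_realises {A : Type u} [Ring A] [Algebra k A] [Algebra.IsCentral k A] [IsSimpleRing A] {m : ℕ}
    (hm : 0 < m) (hA : Module.finrank k A = m * m) (hX : BrSev.IsSBOf k A (m * m - m) f) [IsAlgClosure k K]
    (e : BrSev.Splitting f K (m - 1)) (hR : Realises e Aᵐᵒᵖ ∨ Realises e A) (j : ℤ) {W : X.Modules}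
    (hW : FlatMod.IsFinLocFree W) (hWi : Indec W) {r : ℕ} (hr : 0 < r) (hWt : BrSev.IsTwPow e j r W) :
    CSAGal.IsIndex k (CSAGal.tpow k A j.natAbs) r := by
  haveI : Module.Finite k A := Module.finite_of_finrank_pos (by rw [hA]; exact Nat.mul_pos hm hm)
  have hC : Brauer.IsCSA k A := ⟨inferInstance, inferInstance, inferInstance⟩
  refine Brauer.isIndex_of_indDvd (hC.pw j.natAbs) fun N => ?_
  obtain ⟨W', hW', hW'i, hW't⟩ : ∃ W' : X.Modules, FlatMod.IsFinLocFree W' ∧ Indec W' ∧
      BrSev.IsTwPow e (j.natAbs : ℤ) r W' := by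
    rcases Int.natAbs_eq j with h | h
    · exact ⟨W, hW, hWi, h ▸ hWt⟩
    · obtain ⟨W', r', hW', hW'i, hr', hW't⟩ := exists_type_of_isSBOf hm hA hX e (j.natAbs : ℤ)
      have hneg : -j = (j.natAbs : ℤ) := by omega
      obtain ⟨a⟩ := hWt
      obtain ⟨a'⟩ := hW't
      have h1 : r' ∣ r := dvd_rank e j hW hW' hWi hW'i hr a
        (a' ≪≫ Sigma.mapIso fun _ => eqToIso (by rw [hneg]))
      have h2 : r ∣ r' := dvd_rank e (j.natAbs : ℤ) hW' hW hW'i hWi hr' a'
        (a ≪≫ Sigma.mapIso fun _ => eqToIso (by rw [← hneg, neg_neg]))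
      obtain rfl := Nat.dvd_antisymm h1 h2
      exact ⟨W', hW', hW'i, ⟨a'⟩⟩
  rcases hR with hR | hR
  · obtain ⟨φ⟩ := Brauer.pwOp (k := k) A j.natAbs
    exact indDvd_op_iff.symm.trans ((Brauer.indDvd_congr φ).symm.trans
      (indDvd_of_realises e hC.op hR _ hW' hW'i hr hW't N))
  · exact indDvd_of_realises e hC hR _ hW' hW'i hr hW't N

end Groth.Agent.KrullSch
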