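import Groth.Agent.KrullSch.UnivType
import Groth.Agent.KrullSch.Multiplicity
import Groth.Agent.ProjMor.ProjSpaceBase
import Mathlib

/-! The universal quotient of a Severi–Brauer scheme realises the algebra. -/

set_option autoImplicit false
set_option backward.isDefEq.respectTransparency false
set_option backward.isDefEq.respectTransparency.types false
set_option linter.style.haveILetI false
set_option maxHeartbeats 1000000

universe u

open CategoryTheory CategoryTheory.Limits AlgebraicGeometry TopologicalSpace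
open scoped TensorProduct
open Module
open Groth.Agent.QC (res resO res_res resO_resO res_self res_smul app_res)

attribute [local instance] CategoryTheory.Abelian.hasFiniteBiproducts

noncomputable section

namespace Groth.Agent.KrullSch

namespace Univ

open W7Cech (secRing)

variable {k : Type u} [Field k] {A : Type u} [Ring A] [Algebra k A] {c : ℕ} {X : Scheme.{u}}
  [X.Over (Spec (CommRingCat.of k))] (b : BrSev.SBStr k A c (X ↘ Spec (CommRingCat.of k)))
  {m : ℕ} (β : Basis (Fin m) k A)

variable {K : Type u} [Field K] [Algebra k K] {T : Scheme.{u}} [T.Over (Spec (CommRingCat.of K))] (g : T ⟶ X)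
  (sq : IsPullback g (T ↘ Spec (CommRingCat.of K)) (X ↘ Spec (CommRingCat.of k))
    (Spec.map (CommRingCat.ofHom (algebraMap k K))))

theorem secRing_app_eq {T' : Scheme.{u}} {z₁ z₂ : T' ⟶ T}
    (h : z₁ ≫ (T ↘ Spec (CommRingCat.of K)) = z₂ ≫ (T ↘ Spec (CommRingCat.of K))) (a : K) :
    (z₁.appTop).hom (secRing K (⊤ : T.Opens) a) = (z₂.appTop).hom (secRing K (⊤ : T.Opens) a) := by
  have h1 : ∀ z : T' ⟶ T, (z.appTop).hom (secRing K (⊤ : T.Opens) a) =
      (z ≫ (T ↘ Spec (CommRingCat.of K))).appTop.hom ((Scheme.ΓSpecIso (CommRingCat.of K)).inv.hom a) := fun z => by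
    rw [Scheme.Hom.comp_appTop]
    refine congrArg (z.appTop).hom ?_
    exact QC.resO_self _ _
  rw [h1, h1, h]

theorem map_comb {T' : Scheme.{u}} [T'.Over (Spec (CommRingCat.of k))] (y : T' ⟶ X)
    [y.IsOver (Spec (CommRingCat.of k))] {F : T'.Modules} (M : (Scheme.Modules.pullback y).obj (quot b β) ⟶ F)
    (W : T'.Opens) (η : Fin m → Γ(T', W)) :
    M.app W (comb b β y W η) = ∑ i, η i • res F le_top (M.app ⊤ (pgen b β y i)) := by
  rw [comb_apply, map_sum]
  refine Finset.sum_congr rfl fun i _ => ?_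
  rw [Scheme.Modules.Hom.app_smul, app_res]

omit [T.Over (Spec (CommRingCat.of K))] in
theorem transport_pullSec {T' P : Scheme.{u}} (z : T' ⟶ T) (φ : T ⟶ P) {r : T' ⟶ P} (hz : z ≫ φ = r) {O : P.Modules}
    {L : T.Modules} (τ : (Scheme.Modules.pullback φ).obj O ≅ L) (σ : ProjUP.Γm O) {s : ProjUP.Γm L}
    (hs : τ.hom.app ⊤ (ProjUP.pullSec φ O σ) = s) :
    ((Scheme.Modules.pullback z).mapIso τ.symm ≪≫ (Scheme.Modules.pullbackComp z φ).app O ≪≫
        (Scheme.Modules.pullbackCongr hz).app O).hom.app ⊤ (ProjUP.pullSec z L s) = ProjUP.pullSec r O σ := by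
  have h1 : ((Scheme.Modules.pullback z).map τ.inv).app ⊤ (ProjUP.pullSec z L s) =
      ProjUP.pullSec z _ (ProjUP.pullSec φ O σ) := by
    refine (QC.app_pullSect z τ.inv ⊤ s).trans ?_
    refine congrArg (fun y => OmegaSh.pullSect z _ ⊤ y) ?_
    rw [← hs]
    exact congr(($(τ.hom_inv_id)).app ⊤ (ProjUP.pullSec φ O σ))
  simp only [Iso.trans_hom, Iso.app_hom, Functor.mapIso_hom, Iso.symm_hom, Scheme.Modules.Hom.comp_app,
    ConcreteCategory.comp_apply]
  rw [h1]
  exact PBundle.comp_pullSec z φ hz O σ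

include sq in
/-- A morphism given by generating sections of a summand of the universal quotient is a monomorphism. -/
theorem mono_of_decomp {n N : ℕ} {L : T.Modules} (π : Fin n → ((Scheme.Modules.pullback g).obj (quot b β) ⟶ L))
    (ι : Fin n → (L ⟶ (Scheme.Modules.pullback g).obj (quot b β))) (hsum : (∑ j, π j ≫ ι j) = 𝟙 _)
    (s : Fin N → Γ(L, ⊤)) (C : Fin n → Fin m → Fin N → K)
    (hC : ∀ j i, (π j).app ⊤ (pg b β g i) = ∑ l, secRing K (⊤ : T.Opens) (C j i l) • s l)
    {P : Scheme.{u}} (O : P.Modules) (σ : Fin N → ProjUP.Γm O) (φ : T ⟶ P) (p : P ⟶ Spec (CommRingCat.of K))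
    (hp : φ ≫ p = T ↘ Spec (CommRingCat.of K)) (τ : (Scheme.Modules.pullback φ).obj O ≅ L)
    (hτ : ∀ l, τ.hom.app ⊤ (ProjUP.pullSec φ O (σ l)) = s l) : Mono φ := by
  constructor
  intro T' z₁ z₂ h
  have hq : z₁ ≫ (T ↘ Spec (CommRingCat.of K)) = z₂ ≫ (T ↘ Spec (CommRingCat.of K)) := by
    rw [← hp, ← Category.assoc, h, Category.assoc]
  letI : T'.Over (Spec (CommRingCat.of k)) := ⟨(z₁ ≫ g) ≫ (X ↘ Spec (CommRingCat.of k))⟩
  haveI : (z₁ ≫ g).IsOver (Spec (CommRingCat.of k)) := ⟨rfl⟩
  haveI : (z₂ ≫ g).IsOver (Spec (CommRingCat.of k)) := ⟨by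
    show (z₂ ≫ g) ≫ (X ↘ Spec (CommRingCat.of k)) = (z₁ ≫ g) ≫ (X ↘ Spec (CommRingCat.of k))
    rw [Category.assoc, Category.assoc, sq.w, ← Category.assoc, ← Category.assoc, hq]⟩
  have hM : ∀ (z : T' ⟶ T) (_hz : z ≫ φ = z₁ ≫ φ) [(z ≫ g).IsOver (Spec (CommRingCat.of k))],
      ∃ M : Fin n → ((Scheme.Modules.pullback (z ≫ g)).obj (quot b β) ⟶ (Scheme.Modules.pullback (z₁ ≫ φ)).obj O),
        (∀ (W : T'.Opens) x, (∀ j, (M j).app W x = 0) → x = 0) ∧
          ∀ j i, (M j).app ⊤ (pgen b β (z ≫ g) i) =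
            ∑ l, (z.appTop).hom (secRing K (⊤ : T.Opens) (C j i l)) • ProjUP.pullSec (z₁ ≫ φ) O (σ l) := by
    intro z hz _
    let θ : (Scheme.Modules.pullback z).obj L ≅ (Scheme.Modules.pullback (z₁ ≫ φ)).obj O :=
      (Scheme.Modules.pullback z).mapIso τ.symm ≪≫ (Scheme.Modules.pullbackComp z φ).app O ≪≫
        (Scheme.Modules.pullbackCongr hz).app O
    refine ⟨fun j => (Scheme.Modules.pullbackComp z g).inv.app _ ≫ (Scheme.Modules.pullback z).map (π j) ≫ θ.hom,
      fun W x hx => ?_, fun j i => ?_⟩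
    · let x' := ((Scheme.Modules.pullbackComp z g).inv.app (quot b β)).app W x
      have hx' : ∀ j, ((Scheme.Modules.pullback z).map (π j)).app W x' = 0 := fun j =>
        (congr(($(θ.hom_inv_id)).app W (((Scheme.Modules.pullback z).map (π j)).app W x'))).symm.trans
          ((congrArg (fun y => θ.inv.app W y) (hx j)).trans (map_zero _))
      have hid : (∑ j, (Scheme.Modules.pullback z).map (π j) ≫ (Scheme.Modules.pullback z).map (ι j)) = 𝟙 _ := by
        simp only [← CategoryTheory.Functor.map_comp, ← CategoryTheory.Functor.map_sum, hsum,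
          CategoryTheory.Functor.map_id]
      let ev : ((Scheme.Modules.pullback z).obj ((Scheme.Modules.pullback g).obj (quot b β)) ⟶
          (Scheme.Modules.pullback z).obj ((Scheme.Modules.pullback g).obj (quot b β))) →+
          Γ((Scheme.Modules.pullback z).obj ((Scheme.Modules.pullback g).obj (quot b β)), W) :=
        AddMonoidHom.mk' (fun ψ => ψ.app W x') fun _ _ => rfl
      have h1 : x' = 0 := by
        refine (congrArg ev hid).symm.trans ?_
        rw [map_sum]
        refine Finset.sum_eq_zero fun j _ => ?_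
        show ((Scheme.Modules.pullback z).map (ι j)).app W (((Scheme.Modules.pullback z).map (π j)).app W x') = 0
        rw [hx' j, map_zero]
      exact (congr(($((Scheme.Modules.pullbackComp z g).inv_hom_id_app (quot b β))).app W x)).symm.trans
        ((congrArg (fun y => ((Scheme.Modules.pullbackComp z g).hom.app (quot b β)).app W y) h1).trans (map_zero _))
    · show θ.hom.app ⊤ (((Scheme.Modules.pullback z).map (π j)).app ⊤
        (((Scheme.Modules.pullbackComp z g).inv.app (quot b β)).app ⊤ (pgen b β (z ≫ g) i))) = _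
      have h1 : ((Scheme.Modules.pullbackComp z g).inv.app (quot b β)).app ⊤ (pgen b β (z ≫ g) i) =
          ProjUP.pullSec z _ (pg b β g i) :=
        (congrArg (fun y => ((Scheme.Modules.pullbackComp z g).inv.app (quot b β)).app ⊤ y)
          (QC.pullbackComp_hom_pullSect z g (quot b β) ⊤ (gens b β i)).symm).trans
          (congr(($((Scheme.Modules.pullbackComp z g).hom_inv_id_app (quot b β))).app ⊤ _))
      have h2 : ((Scheme.Modules.pullback z).map (π j)).app ⊤ (ProjUP.pullSec z _ (pg b β g i)) =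
          ∑ l, (z.appTop).hom (secRing K (⊤ : T.Opens) (C j i l)) • ProjUP.pullSec z L (s l) := by
        refine (QC.app_pullSect z (π j) ⊤ (pg b β g i)).trans ?_
        rw [hC, map_sum]
        exact Finset.sum_congr rfl fun l _ => OmegaSh.pullSect_smul _ _ _ _ _
      rw [h1]
      refine (congrArg (fun y => θ.hom.app ⊤ y) h2).trans ?_
      refine (map_sum (θ.hom.app ⊤).hom _ _).trans (Finset.sum_congr rfl fun l _ => ?_)
      exact (Scheme.Modules.Hom.app_smul θ.hom _ _).trans (congrArg (_ • ·) (transport_pullSec z φ hz τ (σ l) (hτ l)))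
  refine sq.hom_ext (eq_of_comb b β (z₁ ≫ g) (z₂ ≫ g) fun W η hη => ?_) hq
  obtain ⟨M₁, -, e₁⟩ := hM z₁ rfl
  obtain ⟨M₂, i₂, e₂⟩ := hM z₂ h.symm
  refine i₂ _ _ fun j => ?_
  have h1 := congrArg (fun y => (M₁ j).app W.1 y) hη
  simp only [map_comb, map_zero, e₁] at h1
  rw [map_comb, ← h1]
  refine Finset.sum_congr rfl fun i _ => ?_
  rw [e₂]
  simp only [secRing_app_eq hq]

end Univ

variable {k : Type u} [Field k] {X : Scheme.{u}} {f : X ⟶ Spec (CommRingCat.of k)} [IsProper f] {n : ℕ}
  {K : Type u} [Field K] [Algebra k K] [IsAlgClosed K] (e : BrSev.Splitting f K n)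

include e in
/-- A monomorphism over the field to projective space of the same dimension is an isomorphism. -/
theorem isIso_of_mono (φ : BrSev.bc f K ⟶ CohB1.ProjSpace n K)
    (hφ : φ ≫ CohB1.ProjSpace.toSpec n K = BrSev.bcTo f K) [Mono φ] : IsIso φ := by
  haveI : IsProper (CohB1.ProjSpace.toSpec n K) := ProjMor.isProper_toSpec n K
  haveI : IsProper (φ ≫ CohB1.ProjSpace.toSpec n K) := by
    rw [hφ]
    exact inferInstanceAs (IsProper (pullback.snd f (Spec.map (CommRingCat.ofHom (algebraMap k K)))))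
  haveI : IsProper φ := IsProper.of_comp φ (CohB1.ProjSpace.toSpec n K)
  haveI : IsClosedImmersion φ := (IsClosedImmersion.iff_isProper_and_mono φ).2 ⟨inferInstance, inferInstance⟩
  haveI := BrSevSplit.isIntegral_projSpace (k := K) (n := n)
  let j : CohB1.ProjSpace n K ⟶ CohB1.ProjSpace n K := e.iso.inv ≫ φ
  haveI : IsClosedImmersion j := inferInstanceAs (IsClosedImmersion (e.iso.inv ≫ φ))
  have hrange : Set.range j.base = Set.univ := by
    by_contra hne
    have hZ : IsClosed (Set.range j.base) := j.isClosedEmbedding.isClosed_range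
    rcases Nat.eq_zero_or_pos n with rfl | hn
    · have hη : genericPoint (CohB1.ProjSpace 0 K) ∉ Set.range j.base := fun h =>
        hne (Set.eq_univ_of_forall fun y => (genericPoint_specializes y).mem_closed hZ h)
      have h1 := Groth.Agent.Unibranch.natCast_le_topologicalKrullDim
        (![genericPoint (CohB1.ProjSpace 0 K), j.base (genericPoint (CohB1.ProjSpace 0 K))] : Fin 2 → _)
          fun l => by
            fin_cases l
            exact ⟨genericPoint_specializes _, fun h => hη ⟨_, h.symm⟩⟩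
      rw [Groth.Agent.S10829.result K 0] at h1
      exact absurd (CartierDim.natCast_le_withBot.mp h1) (by norm_num)
    · have h1 : topologicalKrullDim (CohB1.ProjSpace n K) ≤ topologicalKrullDim (Set.range j.base) :=
        (j.isClosedEmbedding.isInducing.codRestrict (s := Set.range j.base) fun x =>
          ⟨x, rfl⟩).topologicalKrullDim_le
      have h2 := h1.trans (BrSevSplit.dim_le_of_closed_ne_univ hZ hne (n - 1) (by omega))
      rw [Groth.Agent.S10829.result K n] at h2
      have h3 : n ≤ n - 1 := by exact_mod_cast h2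
      omega
  haveI : Surjective j := ⟨Set.range_eq_univ.1 hrange⟩
  haveI : IsIso j := isIso_of_isClosedImmersion_of_surjective j
  rw [show φ = e.iso.hom ≫ j by simp [j]]
  infer_instance

/-- The universal quotient realises the opposite algebra. -/
theorem exists_realises {A : Type u} [Ring A] [Algebra k A] [Algebra.IsCentral k A] [IsSimpleRing A]
    (hA : Module.finrank k A = (n + 1) * (n + 1)) (hX : BrSev.IsSBOf k A ((n + 1) * (n + 1) - (n + 1)) f) :
    Realises e Aᵐᵒᵖ := by
  haveI : Module.Finite k A := Module.finite_of_finrank_pos (by rw [hA]; exact Nat.mul_pos (by omega) (by omega))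
  have hC : Brauer.IsCSA k A := ⟨inferInstance, inferInstance, inferInstance⟩
  letI : X.Over (Spec (CommRingCat.of k)) := ⟨f⟩
  letI : (BrSev.bc f K).Over (Spec (CommRingCat.of K)) := ⟨BrSev.bcTo f K⟩
  haveI : ConnectedSpace ↥(BrSev.bc f K) := connectedSpace_splitting e
  have sq : IsPullback (BrSev.proj f K) (BrSev.bc f K ↘ Spec (CommRingCat.of K)) (X ↘ Spec (CommRingCat.of k))
      (Spec.map (CommRingCat.ofHom (algebraMap k K))) := IsPullback.of_hasPullback _ _
  obtain ⟨b⟩ := hX
  let β := Module.finBasisOfFinrankEq k A hA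
  have hc : (n + 1) + ((n + 1) * (n + 1) - (n + 1)) = (n + 1) * (n + 1) :=
    Nat.add_sub_cancel' (Nat.le_mul_self _)
  obtain ⟨L, π, ι, s, C, hL, ⟨a⟩, hsum, hgen, hCs⟩ :=
    Univ.exists_decomp (k := k) (K := K) b β (BrSev.proj f K) sq (Nat.succ_pos n) rfl hc
  obtain ⟨φ, hφ, τ, hτ⟩ := Groth.Agent.S3572.result n (BrSev.bcTo f K) L hL s hgen
  haveI : Mono φ := Univ.mono_of_decomp (k := k) b β (BrSev.proj f K) sq π ι hsum s C hCs
    (Twist.twistProjSpace n K 1) (ProjUP.coord n K) φ (CohB1.ProjSpace.toSpec n K) hφ τ hτ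
  haveI := isIso_of_mono e φ hφ
  obtain ⟨w⟩ := nonempty_pullback_twist_iso (e.iso.symm ≪≫ asIso φ) 1
  let l : L ≅ e.twist 1 := τ.symm ≪≫
    (Scheme.Modules.pullbackCongr (show φ = e.iso.hom ≫ (e.iso.symm ≪≫ asIso φ).hom by simp)).app _ ≪≫
    ((Scheme.Modules.pullbackComp e.iso.hom (e.iso.symm ≪≫ asIso φ).hom).app _).symm ≪≫
    (Scheme.Modules.pullback e.iso.hom).mapIso w
  have hV := Univ.isFinLocFree_quot b β
  have ht : BrSev.IsTwPow e 1 (n + 1) (Univ.quot b β) := ⟨a ≪≫ Sigma.mapIso fun _ => l⟩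
  have hr := finrank_end_twPow e (show (X ↘ Spec (CommRingCat.of k)) = f from rfl) hV ht
  haveI : Nontrivial (End (Univ.quot b β)) := Module.nontrivial_of_finrank_pos (R := k) (by rw [hr]; positivity)
  haveI : Module.Finite k (End (Univ.quot b β)) := Module.finite_of_finrank_pos (by rw [hr]; positivity)
  haveI := hC.op.simple
  haveI := hC.op.finite
  have hinj : Function.Injective (Univ.actHom b β) := RingHom.injective (Univ.actHom b β).toRingHom
  have hfr : Module.finrank k Aᵐᵒᵖ = Module.finrank k (End (Univ.quot b β)) := by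
    rw [hr, ← (MulOpposite.opLinearEquiv k).finrank_eq, hA]
  exact ⟨n + 1, Univ.quot b β, Nat.succ_pos n, hV, ht, ⟨AlgEquiv.ofBijective (Univ.actHom b β)
    ⟨hinj, (LinearMap.injective_iff_surjective_of_finrank_eq_finrank hfr
      (f := (Univ.actHom b β).toLinearMap)).1 hinj⟩⟩⟩

/-- The multiplicities of the twists on a Severi–Brauer scheme are indices. -/
theorem isIndex_of_twPow [Algebra.IsAlgebraic k K] [IsAlgClosure k K] {A : Type u} [Ring A] [Algebra k A] [Algebra.IsCentral k A] [IsSimpleRing A]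
    (hA : Module.finrank k A = (n + 1) * (n + 1)) (hX : BrSev.IsSBOf k A ((n + 1) * (n + 1) - (n + 1)) f) (j : ℤ)
    {W : X.Modules} (hW : FlatMod.IsFinLocFree W) (hWi : Indec W) {r : ℕ} (hr : 0 < r)
    (hWt : BrSev.IsTwPow e j r W) : CSAGal.IsIndex k (CSAGal.tpow k A j.natAbs) r :=
  isIndex_of_realises (m := n + 1) (Nat.succ_pos n) hA hX e (Or.inl (exists_realises e hA hX)) j hW hWi hr hWt

end Groth.Agent.KrullSch
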