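import Groth.Agent.Brauer.Primary
import Groth.Agent.FlatParaF.Main
import Groth.Agent.ParaFLib.Ext
import Groth.Agent.KrullSch.UnivTwist
import Mathlib

/-! Indices of tensor powers and the multiplicities read off from them. -/

set_option autoImplicit false
set_option backward.isDefEq.respectTransparency false
set_option backward.isDefEq.respectTransparency.types false
set_option linter.style.haveILetI false

universe u v

open CategoryTheory CategoryTheory.Limits AlgebraicGeometry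
open Groth.Agent.Brauer

noncomputable section

namespace Groth.Agent.KrullSch

section Alg

variable {k : Type u} [Field k] {A : Type v} [Ring A] [Algebra k A]

/-- The index of a power only decreases along multiples modulo a splitting exponent. -/
theorem indDvd_of_modEq (hA : IsCSA k A) {p : ℕ} (hp : IndDvd k (pw k A p) 1) {a b c N : ℕ}
    (h : b ≡ a * c [MOD p]) (hN : IndDvd k (pw k A a) N) : IndDvd k (pw k A b) N :=
  (Sim.indDvd_iff (hA.pw b) (hA.pw (a * c)) (sim_pw_modEq hA hp h)).2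
    ((indDvd_pw_mul c).2 (hN.pwSame (hA.pw a) c))

/-- Absolute values of congruent integers differ by a factor modulo `p`. -/
theorem exists_modEq_natAbs {p : ℕ} (hp : 0 < p) {i j : ℤ} (h : (p : ℤ) ∣ j - i) :
    ∃ c : ℕ, j.natAbs ≡ i.natAbs * c [MOD p] := by
  haveI : NeZero p := ⟨hp.ne'⟩
  have hsgn : ∀ z : ℤ, ∃ s : ℤ, s * s = 1 ∧ (z.natAbs : ℤ) = s * z := fun z => by
    rcases Int.natAbs_eq z with hz | hz
    · exact ⟨1, one_mul 1, by rw [one_mul, ← hz]⟩
    · exact ⟨-1, by norm_num, by rw [neg_one_mul]; omega⟩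
  obtain ⟨s, hs2, hs⟩ := hsgn i
  obtain ⟨t, -, ht⟩ := hsgn j
  refine ⟨((t * s : ℤ) : ZMod p).val, (ZMod.natCast_eq_natCast_iff _ _ _).1 ?_⟩
  rw [Nat.cast_mul, ZMod.natCast_zmod_val]
  have h1 : (j : ZMod p) = (i : ZMod p) := ((ZMod.intCast_eq_intCast_iff_dvd_sub i j p).2 h).symm
  calc ((j.natAbs : ℕ) : ZMod p) = ((t * j : ℤ) : ZMod p) := by rw [← ht, Int.cast_natCast]
    _ = ((t * (s * s) * i : ℤ) : ZMod p) := by rw [hs2, mul_one, Int.cast_mul, Int.cast_mul, h1]
    _ = ((i.natAbs : ℕ) : ZMod p) * ((t * s : ℤ) : ZMod p) := by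
      rw [← Int.cast_natCast i.natAbs, hs, ← Int.cast_mul]
      congr 1
      ring

theorem choose_pred_prime_pow {q : ℕ} [Fact q.Prime] {u : ℕ} (hu : 0 < u) :
    ∀ s : ℕ, (q ^ s * u - 1).choose (q ^ s - 1) ≡ 1 [MOD q]
  | 0 => by simp [Nat.ModEq]
  | s + 1 => by
    have hq : 0 < q := (Fact.out : q.Prime).pos
    have key : ∀ x : ℕ, 0 < x → (q * x - 1) % q = q - 1 ∧ (q * x - 1) / q = x - 1 := fun x hx => by
      obtain ⟨y, rfl⟩ : ∃ y, x = y + 1 := ⟨x - 1, by omega⟩
      have h1 : q * (y + 1) - 1 = (q - 1) + q * y := by rw [Nat.mul_succ]; omega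
      rw [h1, Nat.add_mul_mod_self_left, Nat.add_mul_div_left _ _ hq, Nat.mod_eq_of_lt (by omega),
        Nat.div_eq_of_lt (by omega)]
      exact ⟨rfl, by omega⟩
    refine Choose.choose_modEq_choose_mod_mul_choose_div_nat.trans ?_
    rw [show q ^ (s + 1) * u = q * (q ^ s * u) by ring, pow_succ' q s,
      (key _ (Nat.mul_pos (pow_pos hq s) hu)).1, (key _ (Nat.mul_pos (pow_pos hq s) hu)).2,
      (key _ (pow_pos hq s)).1, (key _ (pow_pos hq s)).2, Nat.choose_self, one_mul]
    exact choose_pred_prime_pow hu s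

/-- The index of the powers when the period equals the index. -/
theorem indDvd_pw_of_period_eq_index (hA : IsCSA k A) {p : ℕ} (hp : CSAGal.IsPeriod k A p)
    (hi : CSAGal.IsIndex k A p) (r N : ℕ) : IndDvd k (pw k A r) N ↔ 0 < N ∧ p / Nat.gcd p r ∣ N := by
  obtain ⟨hp0, hper⟩ := period_spec hA hp
  obtain ⟨d, hd⟩ := exists_isIndex (hA.pw r)
  obtain ⟨hd0, hiff⟩ := indDvd_iff_of_isIndex (hA.pw r) hd
  have hg : 0 < Nat.gcd p r := Nat.gcd_pos_of_pos_left _ hp0
  have h1 : p / Nat.gcd p r ∣ d := by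
    have h := (hper _).1 ((indDvd_pw_mul d).2 (split_of_indDvd (hA.pw r) ((hiff d).2 ⟨hd0, dvd_rfl⟩)))
    refine (Nat.coprime_div_gcd_div_gcd hg).dvd_of_dvd_mul_left ?_
    rw [← Nat.mul_dvd_mul_iff_left hg, ← mul_assoc, Nat.mul_div_cancel' (Nat.gcd_dvd_left p r),
      Nat.mul_div_cancel' (Nat.gcd_dvd_right p r)]
    exact h
  have h2 : d * Nat.gcd p r ∣ p := by
    obtain ⟨d', hd'0, hiff', m, D, _, _, hm, hD, hdim, ⟨f⟩⟩ := exists_index hA
    obtain rfl : d' = p := by
      obtain ⟨-, h'⟩ := indDvd_iff_of_isIndex hA hi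
      exact Nat.dvd_antisymm ((hiff' p).1 ((h' p).2 ⟨hp0, dvd_rfl⟩)).2 ((h' d').1 ((hiff' d').2 ⟨hd'0, dvd_rfl⟩)).2
    haveI : NeZero m := ⟨hm.ne'⟩
    rw [← Nat.factorization_le_iff_dvd (Nat.mul_ne_zero hd0.ne' hg.ne') hp0.ne']
    intro q
    rw [Nat.factorization_mul hd0.ne' hg.ne', Finsupp.add_apply]
    by_cases hq : q.Prime
    swap
    · simp [Nat.factorization_eq_zero_of_not_prime _ hq]
    haveI : Fact q.Prime := ⟨hq⟩
    obtain ⟨u, hu⟩ : q ^ (Nat.gcd d' r).factorization q ∣ d' :=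
      (Nat.ordProj_dvd _ q).trans (Nat.gcd_dvd_left d' r)
    obtain ⟨w, hw⟩ : q ^ (Nat.gcd d' r).factorization q ∣ r :=
      (Nat.ordProj_dvd _ q).trans (Nat.gcd_dvd_right d' r)
    set s := (Nat.gcd d' r).factorization q
    have hC : IndDvd k (pw k A r) (d'.choose (q ^ s)) := by
      have h0 : IndDvd k (pw k A (q ^ s)) (d'.choose (q ^ s)) := by
        rw [indDvd_congr (congrAlg (A := fun _ : Fin (q ^ s) => A) fun _ => f), indDvd_pw_matrix]
        exact indDvd_choose hD (hdim.trans (sq d')) (Nat.le_of_dvd hd'0 ⟨u, hu⟩)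
      rw [hw]
      exact (indDvd_pw_mul w).2 (h0.pwSame (hA.pw _) w)
    have hdC := ((hiff _).1 hC).2
    have hu0 : 0 < u := pos_of_mul_pos_right (hu ▸ hd'0) (Nat.zero_le _)
    have hid : d'.choose (q ^ s) * q ^ s = d' * (d' - 1).choose (q ^ s - 1) := by
      have := Nat.add_one_mul_choose_eq (d' - 1) (q ^ s - 1)
      rw [Nat.sub_add_cancel hd'0, Nat.sub_add_cancel (pow_pos hq.pos s)] at this
      exact this.symm
    have hnd : ¬ q ∣ (d' - 1).choose (q ^ s - 1) := fun h => by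
      have h' := choose_pred_prime_pow (q := q) hu0 s
      rw [← hu] at h'
      exact hq.not_dvd_one (Nat.modEq_zero_iff_dvd.1 (h'.symm.trans (Nat.modEq_zero_iff_dvd.2 h)))
    have hC0 : d'.choose (q ^ s) ≠ 0 := (Nat.choose_pos (Nat.le_of_dvd hd'0 ⟨u, hu⟩)).ne'
    have hv := congrArg (fun z => z.factorization q) hid
    simp only [Nat.factorization_mul hC0 (pow_ne_zero _ hq.ne_zero), Finsupp.add_apply, hq.factorization_pow,
      Finsupp.single_eq_same, Nat.factorization_mul hd'0.ne' (fun h0 : (d' - 1).choose (q ^ s - 1) = 0 =>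
        hnd (h0 ▸ dvd_zero q)), Nat.factorization_eq_zero_of_not_dvd hnd, add_zero] at hv
    have hle := (Nat.factorization_le_iff_dvd hd0.ne' hC0).2 hdC q
    omega
  have h3 : d ∣ p / Nat.gcd p r := (Nat.dvd_div_iff_mul_dvd (Nat.gcd_dvd_left p r)).2 (by rwa [mul_comm])
  rw [Nat.dvd_antisymm h1 h3]
  exact hiff N

/-- An algebra of prime degree that is not split has period and index equal to its degree. -/
theorem period_index_of_prime (hA : IsCSA k A) {n : ℕ} (hn : n.Prime) (hdim : Module.finrank k A = n * n)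
    (hns : ¬ Curves.Splits k A k) : CSAGal.IsPeriod k A n ∧ CSAGal.IsIndex k A n := by
  obtain ⟨d, hd⟩ := exists_isIndex hA
  obtain ⟨hd0, hiff⟩ := indDvd_iff_of_isIndex hA hd
  have hdn : d = n := by
    obtain ⟨-, m, D, _, _, hm, hD, ⟨f⟩⟩ := id hd
    have h := f.toLinearEquiv.finrank_eq
    rw [hdim, Module.finrank_matrix, Fintype.card_fin, hD] at h
    have h' : n = m * d := Nat.mul_self_inj.1 (by rw [h]; ring)
    exact ((hn.eq_one_or_self_of_dvd d ⟨m, by rw [h', mul_comm]⟩)).resolve_left fun h1 =>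
      hns ((splits_self_iff hA).2 ((hiff 1).2 ⟨Nat.one_pos, by rw [h1]⟩))
  subst hdn
  have hs : IndDvd k (pw k A d) 1 := split_of_indDvd hA ((hiff d).2 ⟨hd0, dvd_rfl⟩)
  exact ⟨⟨hd0, (splits_self_iff (hA.pw d)).2 hs, fun e' h0 hlt h => absurd (Nat.le_of_dvd h0
    (prime_dvd_exponent hA hiff hd0 h0 ((splits_self_iff (hA.pw e')).1 h) hn dvd_rfl)) (not_le.2 hlt)⟩, hd⟩

end Alg

variable {k : Type u} [Field k] {X : Scheme.{u}} {f : X ⟶ Spec (CommRingCat.of k)} {n : ℕ}
  {K : Type u} [Field K] [Algebra k K] (e : BrSev.Splitting f K n)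

/-- Multiplicity one means invertible. -/
theorem isInvertible_of_twPow_one {W : X.Modules} (hW : FlatMod.IsFinLocFree W) {j : ℤ}
    (h : BrSev.IsTwPow e j 1 W) : PicF.IsInvertible W := by
  haveI : Surjective (Spec.map (CommRingCat.ofHom (algebraMap k K))) :=
    ⟨fun x => ⟨Classical.arbitrary _, Subsingleton.elim _ _⟩⟩
  haveI : Surjective (BrSev.proj f K) :=
    MorphismProperty.pullback_fst (P := @Surjective) _ _ ‹_›
  obtain ⟨a⟩ := h
  let c : BrSev.pow (e.twist j) 1 ≅ e.twist j :=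
    { hom := Sigma.desc fun _ => 𝟙 _
      inv := Sigma.ι (fun _ : Fin 1 => e.twist j) 0
      hom_inv_id := Sigma.hom_ext _ _ fun i => by
        rw [Sigma.ι_desc_assoc, Category.id_comp, Category.comp_id, Subsingleton.elim i 0]
      inv_hom_id := Sigma.ι_desc _ _ }
  exact FlatParaF.isInvertible_of_pullback (BrSev.proj f K) hW
    (ParaFLib.isInvertible_of_iso (a ≪≫ c).symm (isInvertible_twist e j))

/-- The multiplicity is the index of the tensor power, for an arbitrary proof of the index. -/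
theorem indDvd_iff_twPow [IsProper f] [IsAlgClosure k K] {A : Type u} [Ring A] [Algebra k A] [Algebra.IsCentral k A]
    [IsSimpleRing A] (hA : Module.finrank k A = (n + 1) * (n + 1))
    (hX : BrSev.IsSBOf k A ((n + 1) * (n + 1) - (n + 1)) f) (j : ℤ) {W : X.Modules} (hW : FlatMod.IsFinLocFree W)
    (hWi : Indec W) {r : ℕ} (hr : 0 < r) (hWt : BrSev.IsTwPow e j r W) (N : ℕ) :
    IndDvd k (pw k A j.natAbs) N ↔ 0 < N ∧ r ∣ N := by
  haveI : IsAlgClosed K := IsAlgClosure.isAlgClosed k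
  haveI : Algebra.IsAlgebraic k K := IsAlgClosure.isAlgebraic
  haveI : Module.Finite k A :=
    Module.finite_of_finrank_pos (by rw [hA]; exact Nat.mul_pos (Nat.succ_pos n) (Nat.succ_pos n))
  have hC : IsCSA k A := ⟨inferInstance, inferInstance, inferInstance⟩
  exact (indDvd_iff_of_isIndex (hC.pw _) (isIndex_of_twPow e hA hX j hW hWi hr hWt)).2 N

end Groth.Agent.KrullSch
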