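import Groth.Agent.KrullSch.AmitsurBir
import Groth.Agent.KrullSch.IndexRows
import Mathlib

/-! Multiplicities of twisting types and birational equivalence. -/

set_option autoImplicit false
set_option backward.isDefEq.respectTransparency false
set_option backward.isDefEq.respectTransparency.types false
set_option linter.style.haveILetI false

universe u

open CategoryTheory CategoryTheory.Limits AlgebraicGeometry
open Groth.Agent.Brauer (Eqv IsCSA IndDvd pw)
open scoped TensorProduct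

noncomputable section

namespace Groth.Agent.KrullSch

variable {k : Type u} [Field k]

theorem indDvd_of_eqv {A B : Type u} [Ring A] [Algebra k A] [Ring B] [Algebra k B] (h : Eqv k A B) {N : ℕ}
    (hN : IndDvd k A N) : IndDvd k B N := by
  obtain ⟨a, b, ha, hb, ⟨e⟩⟩ := Brauer.eqv_iff.1 h
  haveI : NeZero a := ⟨ha⟩
  haveI : NeZero b := ⟨hb⟩
  exact (Brauer.indDvd_brauer e).1 hN

theorem indDvd_pw_of_eqv_tpow {A B : Type u} [Ring A] [Algebra k A] [Ring B] [Algebra k B] (hA : IsCSA k A) {i : ℕ}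
    (h : Eqv k B (CSAGal.tpow k A i)) {m N : ℕ} (hN : IndDvd k (pw k A m) N) : IndDvd k (pw k B m) N := by
  refine indDvd_of_eqv (Eqv.symm ?_) ((hN.pwSame (hA.pw m)) i)
  refine (Brauer.eqv_tpow_congr B h m).trans ((Brauer.eqv_tpow_mul A i m).symm.trans ?_)
  rw [mul_comm]
  exact Brauer.eqv_tpow_mul A m i

/-- Birational Severi–Brauer schemes have types of the same multiplicities. -/
theorem twPow_rank_eq_of_birational {A B : Type u} [Ring A] [Algebra k A] [Algebra.IsCentral k A] [IsSimpleRing A]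
    [Ring B] [Algebra k B] [Algebra.IsCentral k B] [IsSimpleRing B] {n n' : ℕ}
    (hA : Module.finrank k A = (n + 1) * (n + 1)) (hB : Module.finrank k B = (n' + 1) * (n' + 1))
    {X Y : Scheme.{u}} (f : X ⟶ Spec (CommRingCat.of k)) (g : Y ⟶ Spec (CommRingCat.of k)) [IsProper f] [IsProper g]
    (hX : BrSev.IsSBOf k A ((n + 1) * (n + 1) - (n + 1)) f) (hY : BrSev.IsSBOf k B ((n' + 1) * (n' + 1) - (n' + 1)) g)
    (U : X.Opens) (V : Y.Opens) (hU : Nonempty U) (hV : Nonempty V)
    (φ : (U : Scheme.{u}) ≅ (V : Scheme.{u})) (hφ : φ.hom ≫ V.ι ≫ g = U.ι ≫ f)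
    {K : Type u} [Field K] [Algebra k K] [IsAlgClosure k K] (e : BrSev.Splitting f K n) (e' : BrSev.Splitting g K n')
    (j : ℤ) {W : X.Modules} {W' : Y.Modules} (hW : FlatMod.IsFinLocFree W) (hW' : FlatMod.IsFinLocFree W')
    (hWi : Indec W) (hW'i : Indec W') {r r' : ℕ} (hr : 0 < r) (hr' : 0 < r')
    (hWt : BrSev.IsTwPow e j r W) (hW't : BrSev.IsTwPow e' j r' W') : r = r' := by
  haveI := isIntegral_of_splitting e
  haveI := isIntegral_of_splitting e'
  haveI : Module.Finite k A := Module.finite_of_finrank_pos (by rw [hA]; positivity)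
  haveI : Module.Finite k B := Module.finite_of_finrank_pos (by rw [hB]; positivity)
  have hCA : IsCSA k A := ⟨inferInstance, inferInstance, inferInstance⟩
  have hCB : IsCSA k B := ⟨inferInstance, inferInstance, inferInstance⟩
  let ψ : Scheme.PartialIso X Y :=
    ⟨U, U.2.dense (Set.nonempty_coe_sort.1 hU), V, V.2.dense (Set.nonempty_coe_sort.1 hV), φ⟩
  have hψ : ψ.IsOver f g := hφ
  obtain ⟨i, hi⟩ := exists_eqv_tpow_of_birational (Nat.succ_pos n) (Nat.succ_pos n') hA hB f g hX hY ψ hψ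
  obtain ⟨l, hl⟩ := exists_eqv_tpow_of_birational (Nat.succ_pos n') (Nat.succ_pos n) hB hA g f hY hX ψ.symm hψ.symm
  refine Nat.dvd_antisymm ?_ ?_
  · have h := indDvd_pw_of_eqv_tpow hCB hl ((indDvd_iff_twPow e' hB hY j hW' hW'i hr' hW't r').2 ⟨hr', dvd_rfl⟩)
    exact ((indDvd_iff_twPow e hA hX j hW hWi hr hWt r').1 h).2
  · have h := indDvd_pw_of_eqv_tpow hCA hi ((indDvd_iff_twPow e hA hX j hW hWi hr hWt r).2 ⟨hr, dvd_rfl⟩)
    exact ((indDvd_iff_twPow e' hB hY j hW' hW'i hr' hW't r).1 h).2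

end Groth.Agent.KrullSch
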