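import Groth.Agent.KrullSch.Periodic
import Mathlib

/-! Absolutely split modules when the geometric Picard group is cyclic. -/

set_option autoImplicit false
set_option backward.isDefEq.respectTransparency false
set_option backward.isDefEq.respectTransparency.types false
set_option linter.style.haveILetI false

universe u

open CategoryTheory CategoryTheory.Limits AlgebraicGeometry

attribute [local instance] CategoryTheory.Abelian.hasFiniteBiproducts

noncomputable section

namespace Groth.Agent.KrullSch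

open W4c1astiltbs12

variable {k : Type u} [Field k] {X : Scheme.{u}} (p : X ⟶ Spec (CommRingCat.of k))
  {K : Type u} [Field K] [Algebra k K]

/-- The type of a tensor product. -/
theorem nonempty_type_tensor {A B : X.Modules} {N N' : (W4bk4gw11416.baseChange p K).Modules} {d d' : ℕ}
    (a : bcMod p K A ≅ pow N d) (b : bcMod p K B ≅ pow N' d') :
    Nonempty (bcMod p K (CohB1.tensorMod A B) ≅ pow (CohB1.tensorMod N N') (d * d')) := by
  obtain ⟨u⟩ := TMul.nonempty_pullTensorIso (proj p K) A B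
  obtain ⟨v⟩ := nonempty_powTensor N (pow N' d') d
  obtain ⟨w⟩ := nonempty_powTensor N' N d'
  exact ⟨u.symm ≪≫ PicGrp.tensorModIso a b ≪≫ v ≪≫
    Sigma.mapIso (fun _ => TMul.commIso _ _ ≪≫ w ≪≫ Sigma.mapIso fun _ => TMul.commIso _ _) ≪≫
    sigmaSigmaIso (fun _ : Fin d => Fin d') (fun _ _ => CohB1.tensorMod N N') ≪≫
    Sigma.whiskerEquiv ((Equiv.sigmaEquivProd (Fin d) (Fin d')).trans finProdFinEquiv)
      (f := fun _ => CohB1.tensorMod N N') (g := fun _ => CohB1.tensorMod N N') fun _ => Iso.refl _⟩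

theorem isZero_pow_zero (N : (W4bk4gw11416.baseChange p K).Modules) : IsZero (pow N 0) :=
  (isZero_biproduct_of_isEmpty fun _ : Fin 0 => N).of_iso (biproduct.isoCoproduct _).symm

theorem not_isZero_pow {N : (W4bk4gw11416.baseChange p K).Modules} (hN : Indec N) {d : ℕ} (hd : 0 < d) :
    ¬ IsZero (pow N d) := fun h =>
  hN.1 ((IsZero.iff_id_eq_zero N).2 (by
    let i0 : Fin d := ⟨0, hd⟩
    have hs : Sigma.ι (fun _ : Fin d => N) i0 ≫ Sigma.desc (fun _ : Fin d => 𝟙 N) = 𝟙 N := Sigma.ι_desc _ _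
    rw [← hs, h.eq_of_tgt (Sigma.ι (fun _ : Fin d => N) i0) 0, zero_comp]))

variable [IsProper p] [Algebra.IsAlgebraic k K]

theorem pos_of_type {V : X.Modules} (hV : FlatMod.IsFinLocFree V) (hVi : Indec V)
    {N : (W4bk4gw11416.baseChange p K).Modules} {d : ℕ} (e : bcMod p K V ≅ pow N d) : 0 < d := by
  rcases Nat.eq_zero_or_pos d with rfl | h
  · letI : X.Over (Spec (CommRingCat.of k)) := ⟨p⟩
    haveI : IsProper (X ↘ Spec (CommRingCat.of k)) := inferInstanceAs (IsProper p)
    haveI : IsLocallyNoetherian X := LocallyOfFiniteType.isLocallyNoetherian p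
    letI : (W4bk4gw11416.baseChange p K).Over (Spec (CommRingCat.of K)) := ⟨W4bk4gw11416.baseChangeTo p K⟩
    exact absurd (isZero_of_isZero_pullback (k := k) (K := K) (proj p K) (IsPullback.of_hasPullback _ _)
      (K0Coh.isCoh_of_isFinLocFree hV) (IsZero.of_iso (isZero_pow_zero p N) e)) hVi.1
  · exact h

variable [ConnectedSpace ↥(W4bk4gw11416.baseChange p K)]

/-- The powers of a type are types. -/
theorem exists_type_tensorPow {L : (W4bk4gw11416.baseChange p K).Modules} (hL : PicF.IsInvertible L)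
    {M₁ : X.Modules} {d₁ : ℕ} (hM₁ : FlatMod.IsFinLocFree M₁) (hM₁i : Indec M₁)
    (e₁ : bcMod p K M₁ ≅ pow L d₁) :
    ∀ j : ℕ, ∃ (M : X.Modules) (d : ℕ), FlatMod.IsFinLocFree M ∧ Indec M ∧ 0 < d ∧
      Nonempty (bcMod p K M ≅ pow (CohB1.tensorPow L j) d) := by
  letI : X.Over (Spec (CommRingCat.of k)) := ⟨p⟩
  haveI : IsProper (X ↘ Spec (CommRingCat.of k)) := inferInstanceAs (IsProper p)
  haveI : IsLocallyNoetherian X := LocallyOfFiniteType.isLocallyNoetherian p
  letI : (W4bk4gw11416.baseChange p K).Over (Spec (CommRingCat.of K)) := ⟨W4bk4gw11416.baseChangeTo p K⟩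
  haveI : IsProper ((W4bk4gw11416.baseChange p K) ↘ Spec (CommRingCat.of K)) :=
    inferInstanceAs (IsProper (Limits.pullback.snd p (Spec.map (CommRingCat.ofHom (algebraMap k K)))))
  haveI : IsLocallyNoetherian (W4bk4gw11416.baseChange p K) :=
    LocallyOfFiniteType.isLocallyNoetherian ((W4bk4gw11416.baseChange p K) ↘ Spec (CommRingCat.of K))
  have key : ∀ (j : ℕ) (E : X.Modules) (d : ℕ), FlatMod.IsFinLocFree E → 0 < d →
      (bcMod p K E ≅ pow (CohB1.tensorPow L j) d) → ∃ (M : X.Modules) (c : ℕ), FlatMod.IsFinLocFree M ∧ Indec M ∧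
        0 < c ∧ Nonempty (bcMod p K M ≅ pow (CohB1.tensorPow L j) c) := by
    intro j E d hE hd e
    have hinv : PicF.IsInvertible (CohB1.tensorPow L j) := TMul.isInvertible_tensorPow hL j
    have hi := indec_invertible hinv
    obtain ⟨G, n, hG, hGi, -, t, ⟨b⟩⟩ := exists_iso_pow_indec (k := k) (K := K) (proj p K) (IsPullback.of_hasPullback _ _)
      hE (fun h => not_isZero_pow p hi hd (IsZero.of_iso ((Scheme.Modules.pullback (proj p K)).map_isZero h) e.symm))
      (CohB1.tensorPow L j) (K0Coh.isCoh_of_isFinLocFree (ResDesc.isFinLocFree_of_isInvertible hinv)) hi d e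
    exact ⟨G, t, hG, hGi, pos_of_type p hG hGi b, ⟨b⟩⟩
  intro j
  induction j with
  | zero =>
    refine key 0 (Coh.structureModule X) 1
      (ResDesc.isFinLocFree_of_isInvertible TMul.isInvertible_structureModule) one_pos ?_
    exact DerPerf.pullUnitIso (proj p K) ≪≫ (coproductUniqueIso (fun _ : Fin 1 => CohB1.tensorPow L 0)).symm
  | succ j ih =>
    obtain ⟨M, d, hM, hMi, hd, ⟨a⟩⟩ := ih
    obtain ⟨b⟩ := nonempty_type_tensor p a e₁
    exact key (j + 1) (CohB1.tensorMod M M₁) (d * d₁) (ResDesc.isFinLocFree_tensorMod hM hM₁)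
      (Nat.mul_pos hd (pos_of_type p hM₁ hM₁i e₁)) b

end Groth.Agent.KrullSch
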