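import Groth.Agent.KrullSch.BaseChange
import Groth.Agent.IdealMulSec.ArtinRees
import Groth.Agent.AVFin.Span
import Mathlib

/-! Descent of isomorphisms of coherent modules along algebraic extensions of fields. -/

set_option autoImplicit false
set_option backward.isDefEq.respectTransparency false
set_option backward.isDefEq.respectTransparency.types false
set_option linter.style.haveILetI false

universe u

open CategoryTheory CategoryTheory.Limits AlgebraicGeometry TopologicalSpace Opposite
open Groth.Agent.W7Cech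
open Groth.Agent.QC (res res_smul app_res)
open scoped TensorProduct

namespace Groth.Agent.KrullSch

variable {k : Type u} [Field k] {K : Type u} [CommRing K] [Algebra k K] {X X' : Scheme.{u}}
  [X.Over (Spec (CommRingCat.of k))] [X'.Over (Spec (CommRingCat.of K))] (g : X' ⟶ X)
  (sq : IsPullback g (X' ↘ Spec (CommRingCat.of K)) (X ↘ Spec (CommRingCat.of k))
    (Spec.map (CommRingCat.ofHom (algebraMap k K))))

include sq in
/-- A morphism of base changed modules is a combination of base changed morphisms. -/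
theorem exists_expansion [CompactSpace X] [IsLocallyNoetherian X] {F G : X.Modules} (hF : Coh.IsCoh F)
    (hG : Coh.IsQCoh G) (f : (Scheme.Modules.pullback g).obj F ⟶ (Scheme.Modules.pullback g).obj G) :
    ∃ (T : Finset K) (γ : K → (F ⟶ G)), f = ∑ b ∈ T, b • (Scheme.Modules.pullback g).map (γ b) := by
  classical
  let B := Module.Free.chooseBasis k K
  choose C c hc hC hCb using fun i => exists_coeff (F := F) g sq hG (B.coord i)
  let U : X → X.affineOpens := fun x => ⟨(exists_isAffineOpen_mem_and_subset (x := x) (U := ⊤) trivial).choose,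
    (exists_isAffineOpen_mem_and_subset (x := x) (U := ⊤) trivial).choose_spec.1⟩
  have hU : ∀ x, x ∈ (U x).1 := fun x =>
    (exists_isAffineOpen_mem_and_subset (x := x) (U := ⊤) trivial).choose_spec.2.1
  obtain ⟨S, hS⟩ := isCompact_univ.elim_finite_subcover (fun x : X => ((U x).1 : Set X))
    (fun x => (U x).1.2) (fun x _ => Set.mem_iUnion.mpr ⟨x, hU x⟩)
  have hgen : ∀ (V : X.affineOpens) (z : Γ((Scheme.Modules.pullback g).obj G, g ⁻¹ᵁ V.1)),
      ∃ T : Finset (Module.Free.ChooseBasisIndex k K), ∀ T', T ⊆ T' →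
        z = ∑ i ∈ T', secRing K (g ⁻¹ᵁ V.1) (B i) • OmegaSh.pullSect g G V.1 (c i V z) := by
    intro V
    refine gen_induction g sq hG V ⟨∅, fun T' _ => by simp⟩ (fun a b ⟨Ta, hTa⟩ ⟨Tb, hTb⟩ =>
      ⟨Ta ∪ Tb, fun T' h => ?_⟩) fun b s => ⟨(B.repr b).support, fun T' h => ?_⟩
    · conv_lhs => rw [hTa T' (Finset.union_subset_left h), hTb T' (Finset.union_subset_right h)]
      simp only [map_add, smul_add, Finset.sum_add_distrib]
    · have hb : b = ∑ i ∈ T', (B.repr b i) • B i := by
        conv_lhs => rw [← B.linearCombination_repr b, Finsupp.linearCombination_apply]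
        exact Finsupp.sum_of_support_subset _ h _ fun i _ => zero_smul _ _
      conv_lhs => rw [hb, map_sum, Finset.sum_smul]
      refine Finset.sum_congr rfl fun i _ => ?_
      rw [hc, Module.Basis.coord_apply, OmegaSh.pullSect_smul, secRing_comm k K g sq, ← mul_smul, ← map_mul,
        Algebra.smul_def, mul_comm]
  have hfin : ∀ x : X, ∃ T : Finset (Module.Free.ChooseBasisIndex k K), ∀ T', T ⊆ T' →
      ∀ s : Γ(F, (U x).1), f.app (g ⁻¹ᵁ (U x).1) (OmegaSh.pullSect g F (U x).1 s) =
        ∑ i ∈ T', secRing K (g ⁻¹ᵁ (U x).1) (B i) • OmegaSh.pullSect g G (U x).1 ((C i f).app (U x).1 s) := by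
    intro x
    obtain ⟨t, ht⟩ := ((QC.isCoh_iff_finite_sections.1 hF).2 (U x)).fg_top
    choose T hT using fun s => hgen (U x) (f.app (g ⁻¹ᵁ (U x).1) (OmegaSh.pullSect g F (U x).1 s))
    refine ⟨t.biUnion T, fun T' h s => ?_⟩
    have hs : s ∈ Submodule.span Γ(X, (U x).1) (t : Set Γ(F, (U x).1)) := ht.ge trivial
    induction hs using Submodule.span_induction with
    | mem s hs =>
      simp only [hC]
      exact hT s T' (subset_trans (Finset.subset_biUnion_of_mem T hs) h)
    | zero => simp
    | add a b _ _ ha hb => simp only [map_add, smul_add, Finset.sum_add_distrib, ha, hb]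
    | smul r a _ ha =>
      rw [OmegaSh.pullSect_smul, Scheme.Modules.Hom.app_smul, ha, Finset.smul_sum]
      refine Finset.sum_congr rfl fun i _ => ?_
      rw [Scheme.Modules.Hom.app_smul, OmegaSh.pullSect_smul, smul_comm]
  choose T hT using hfin
  let T' := S.biUnion T
  let γ : K → (F ⟶ G) := fun b => if h : ∃ i, B i = b then C h.choose f else 0
  refine ⟨T'.image B, γ, ?_⟩
  have hγ : ∀ i, γ (B i) = C i f := fun i => by
    have h : ∃ j, B j = B i := ⟨i, rfl⟩
    simp only [γ, dif_pos h]
    rw [B.injective h.choose_spec]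
  rw [Finset.sum_image fun a _ b _ h => B.injective h]
  simp only [hγ]
  apply ((Scheme.Modules.pullbackPushforwardAdjunction g).homEquiv _ _).injective
  rw [← sub_eq_zero]
  refine IdealMulSec.hom_eq_zero_of_cover (fun x : S => (U x.1).1) (fun x => (U x.1).2) (fun y => ?_) hF.1 _
    fun x s => ?_
  · obtain ⟨x, hx, hy⟩ := Set.mem_iUnion₂.1 (hS (Set.mem_univ y))
    exact ⟨⟨x, hx⟩, hy⟩
  · rw [Adjunction.homEquiv_unit, Adjunction.homEquiv_unit, Scheme.Modules.Hom.sub_app]
    show f.app (g ⁻¹ᵁ (U x.1).1) (OmegaSh.pullSect g F (U x.1).1 s) -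
      (∑ i ∈ T', B i • (Scheme.Modules.pullback g).map (C i f)).app (g ⁻¹ᵁ (U x.1).1)
        (OmegaSh.pullSect g F (U x.1).1 s) = 0
    rw [sub_eq_zero, hT x.1 T' (Finset.subset_biUnion_of_mem T x.2) s]
    refine Eq.trans ?_ (map_sum (AddMonoidHom.mk'
      (fun α : (Scheme.Modules.pullback g).obj F ⟶ (Scheme.Modules.pullback g).obj G =>
        α.app (g ⁻¹ᵁ (U x.1).1) (OmegaSh.pullSect g F (U x.1).1 s))
      fun α α' => congr($(Scheme.Modules.Hom.add_app α α') (OmegaSh.pullSect g F (U x.1).1 s))) _ T').symm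
    refine Finset.sum_congr rfl fun i _ => ?_
    show _ = (B i • (Scheme.Modules.pullback g).map (C i f)).app _ _
    rw [hom_smul_app]
    congr 1
    exact congr($(((Scheme.Modules.pullbackPushforwardAdjunction g).unit.naturality (C i f))).app (U x.1).1 s)

variable [IsProper (X ↘ Spec (CommRingCat.of k))]

include sq in
/-- Isomorphism of coherent modules descends along an algebraic extension of the ground field. -/
theorem nonempty_iso_of_iso_pullback [Algebra.IsAlgebraic k K] [IsDomain K] {F G : X.Modules} (hF : Coh.IsCoh F)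
    (hG : Coh.IsCoh G) (e : (Scheme.Modules.pullback g).obj F ≅ (Scheme.Modules.pullback g).obj G) :
    Nonempty (F ≅ G) := by
  classical
  haveI : IsLocallyNoetherian X := LocallyOfFiniteType.isLocallyNoetherian (X ↘ Spec (CommRingCat.of k))
  haveI : CompactSpace X := QuasiCompact.compactSpace_of_compactSpace (X ↘ Spec (CommRingCat.of k))
  letI := CategoryTheory.Abelian.hasFiniteBiproducts (C := X.Modules)
  obtain ⟨S, α, hα⟩ := exists_expansion g sq hF hG.1 e.hom
  obtain ⟨T, β, hβ⟩ := exists_expansion g sq hG hF.1 e.inv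
  let L := Algebra.adjoin k ((S ∪ T : Finset K) : Set K)
  haveI : Module.Finite k L := Module.Finite.iff_fg.2
    (fg_adjoin_of_finite (S ∪ T).finite_toSet fun x _ => Algebra.IsAlgebraic.isAlgebraic x |>.isIntegral)
  let B := Module.finBasis k L
  let d := Module.finrank k L
  have hd : 0 < d := Module.finrank_pos
  choose E hE using fun (r s : Fin d) =>
    LinearMap.exists_extend (p := Subalgebra.toSubmodule L) ((B.coord r).comp (LinearMap.mulRight k (B s)))
  have hEL : ∀ r s (x : L), E r s (x : K) = B.coord r (x * B s) := fun r s x => LinearMap.congr_fun (hE r s) x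
  have hmat : ∀ (r s : Fin d) (x y : L), ∑ l, E l s (x : K) * E r l (y : K) = E r s ((x * y : L) : K) := by
    intro r s x y
    simp only [hEL]
    rw [show x * y * B s = y * ∑ l, B.coord l (x * B s) • B l by
      simp only [Module.Basis.coord_apply, B.sum_repr]; ring]
    rw [Finset.mul_sum, map_sum]
    refine Finset.sum_congr rfl fun l _ => ?_
    rw [mul_smul_comm, map_smul, smul_eq_mul]
  have hone : ∀ r s, E r s (1 : K) = if r = s then 1 else 0 := fun r s => by
    rw [show (1 : K) = ((1 : L) : K) from rfl, hEL, one_mul, Module.Basis.coord_apply, B.repr_self,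
      Finsupp.single_apply]
    simp [eq_comm]
  let Φ : (⨁ fun _ : Fin d => F) ⟶ ⨁ fun _ : Fin d => G :=
    biproduct.matrix fun s r => ∑ b ∈ S, E r s b • α b
  let Ψ : (⨁ fun _ : Fin d => G) ⟶ ⨁ fun _ : Fin d => F :=
    biproduct.matrix fun s r => ∑ b ∈ T, E r s b • β b
  have key : ∀ {F' G' : X.Modules} (hF' : Coh.IsQCoh F') (S' T' : Finset K) (hS' : ∀ b ∈ S', b ∈ L)
      (hT' : ∀ b ∈ T', b ∈ L) (α' : K → (F' ⟶ G')) (β' : K → (G' ⟶ F')),
      (∑ b ∈ S', b • (Scheme.Modules.pullback g).map (α' b)) ≫ (∑ b ∈ T', b • (Scheme.Modules.pullback g).map (β' b)) = 𝟙 _ →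
      (biproduct.matrix fun (s r : Fin d) => ∑ b ∈ S', E r s b • α' b) ≫
        (biproduct.matrix fun (s r : Fin d) => ∑ b ∈ T', E r s b • β' b) = 𝟙 _ := by
    intro F' G' hF' S' T' hS' hT' α' β' h1
    refine biproduct.hom_ext' _ _ fun s => biproduct.hom_ext _ _ fun r => ?_
    rw [biproduct.ι_matrix_assoc, Category.assoc, biproduct.matrix_π, biproduct.lift_desc, Category.comp_id]
    obtain ⟨C, -, -, -, hC⟩ := exists_coeff (F := F') g sq hF' (E r s)
    have h2 := congrArg C h1
    rw [show (𝟙 ((Scheme.Modules.pullback g).obj F')) = (1 : K) • (Scheme.Modules.pullback g).map (𝟙 F') by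
      rw [one_smul, CategoryTheory.Functor.map_id], hC, hone] at h2
    simp only [Preadditive.sum_comp, Preadditive.comp_sum, Linear.smul_comp, Linear.comp_smul, smul_smul,
      ← CategoryTheory.Functor.map_comp, Finset.smul_sum, map_sum, hC] at h2
    rw [show biproduct.ι (fun _ : Fin d => F') s ≫ biproduct.π (fun _ : Fin d => F') r =
      (if r = s then (1 : k) else 0) • 𝟙 F' by
        by_cases hrs : r = s
        · subst hrs; simp
        · simp [biproduct.ι_π_ne _ (Ne.symm hrs), hrs], ← h2]
    simp only [Preadditive.sum_comp, Preadditive.comp_sum, Linear.smul_comp, Linear.comp_smul, Finset.smul_sum,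
      smul_smul, CategoryTheory.Functor.map_comp, map_sum, hC]
    rw [Finset.sum_comm]
    refine Finset.sum_congr rfl fun b hb => ?_
    rw [Finset.sum_comm]
    refine Finset.sum_congr rfl fun a ha => ?_
    rw [← Finset.sum_smul]
    congr 1
    have := hmat r s ⟨a, hS' a ha⟩ ⟨b, hT' b hb⟩
    simp only [MulMemClass.coe_mul] at this
    rw [show b * a = a * b from mul_comm _ _, ← this]
    exact Finset.sum_congr rfl fun l _ => mul_comm _ _
  have hS : ∀ b ∈ S, b ∈ L := fun b hb => Algebra.subset_adjoin (Finset.mem_union_left _ hb)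
  have hT : ∀ b ∈ T, b ∈ L := fun b hb => Algebra.subset_adjoin (Finset.mem_union_right _ hb)
  let θ : (⨁ fun _ : Fin d => F) ≅ ⨁ fun _ : Fin d => G :=
    { hom := Φ
      inv := Ψ
      hom_inv_id := key hF.1 S T hS hT α β (by rw [← hα, ← hβ, e.hom_inv_id])
      inv_hom_id := key hG.1 T S hT hS β α (by rw [← hα, ← hβ, e.inv_hom_id]) }
  exact nonempty_iso_of_pow_iso (k := k) hF hG hd θ

end Groth.Agent.KrullSch
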