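import Groth.Agent.KrullSch.EndSimple
import Groth.Prelude.Def_GSzCSA
import Mathlib

/-! Endomorphism algebras of rank-one-isotypical modules. -/

set_option autoImplicit false
set_option backward.isDefEq.respectTransparency false
set_option backward.isDefEq.respectTransparency.types false
set_option linter.style.haveILetI false

universe u v

open CategoryTheory CategoryTheory.Limits AlgebraicGeometry
open Groth.Agent.QC (res res_smul app_res)
open scoped TensorProduct

attribute [local instance] CategoryTheory.Abelian.hasFiniteBiproducts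

noncomputable section

namespace Groth.Agent.KrullSch

open W7Cech

section Cat

variable (k : Type v) [Field k] {C : Type*} [Category C] [Preadditive C] [Linear k C]

/-- Endomorphisms of isomorphic objects. -/
def endAlgEquiv {A B : C} (e : A ≅ B) : End A ≃ₐ[k] End B where
  toFun a := e.inv ≫ a ≫ e.hom
  invFun b := e.hom ≫ b ≫ e.inv
  left_inv a := show e.hom ≫ (e.inv ≫ a ≫ e.hom) ≫ e.inv = a by simp
  right_inv b := show e.inv ≫ (e.hom ≫ b ≫ e.inv) ≫ e.hom = b by simp
  map_mul' a b := show e.inv ≫ (b ≫ a) ≫ e.hom = (e.inv ≫ b ≫ e.hom) ≫ e.inv ≫ a ≫ e.hom by simp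
  map_add' a b := (congrArg (e.inv ≫ ·) (Preadditive.add_comp _ _ _ a b e.hom)).trans (Preadditive.comp_add _ _ _ _ _ _)
  commutes' c := show e.inv ≫ (c • 𝟙 A) ≫ e.hom = c • 𝟙 B by simp

variable [HasFiniteBiproducts C]

/-- Endomorphisms of a power are matrices of endomorphisms. -/
def endPowAlgEquiv (W : C) (m : ℕ) : End (⨁ fun _ : Fin m => W) ≃ₐ[k] Matrix (Fin m) (Fin m) (End W) where
  toFun a := Matrix.of fun i j =>
    End.of (biproduct.ι (fun _ : Fin m => W) j ≫ a ≫ biproduct.π (fun _ : Fin m => W) i)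
  invFun M := biproduct.matrix fun j i => (M i j : W ⟶ W)
  left_inv a := by
    refine biproduct.hom_ext' _ _ fun j => biproduct.hom_ext _ _ fun i => ?_
    rw [biproduct.ι_matrix, biproduct.lift_π, Category.assoc]
    rfl
  right_inv M := by
    ext i j
    show biproduct.ι (fun _ : Fin m => W) j ≫ biproduct.matrix (fun j i => (M i j : W ⟶ W)) ≫
      biproduct.π (fun _ : Fin m => W) i = M i j
    rw [biproduct.matrix_π, biproduct.ι_desc]
  map_mul' a b := by
    ext i j
    show biproduct.ι (fun _ : Fin m => W) j ≫ (b ≫ a) ≫ biproduct.π (fun _ : Fin m => W) i =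
      ∑ l, (biproduct.ι (fun _ : Fin m => W) j ≫ b ≫ biproduct.π (fun _ : Fin m => W) l) ≫
        biproduct.ι (fun _ : Fin m => W) l ≫ a ≫ biproduct.π (fun _ : Fin m => W) i
    conv_lhs => rw [Category.assoc, ← Category.id_comp (CategoryStruct.comp (a : _ ⟶ _) (biproduct.π (fun _ : Fin m => W) i)),
      ← biproduct.total]
    simp only [Preadditive.sum_comp, Preadditive.comp_sum, Category.assoc]
  map_add' a b := by
    ext i j
    exact (congrArg (biproduct.ι (fun _ : Fin m => W) j ≫ ·) (Preadditive.add_comp _ _ _ a b _)).trans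
      (Preadditive.comp_add _ _ _ _ _ _)
  commutes' c := by
    ext i j
    show biproduct.ι (fun _ : Fin m => W) j ≫ (c • 𝟙 (⨁ fun _ : Fin m => W)) ≫
      biproduct.π (fun _ : Fin m => W) i = _
    rw [Matrix.algebraMap_matrix_apply, Linear.smul_comp, Category.id_comp, Linear.comp_smul]
    by_cases h : i = j
    · subst h
      rw [biproduct.ι_π_self, if_pos rfl]
      rfl
    · rw [biproduct.ι_π_ne _ (Ne.symm h), if_neg h, smul_zero]

omit [HasFiniteBiproducts C] in
/-- A finite-dimensional domain over an algebraically closed field is the field. -/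
theorem finrank_end_eq_one [IsAlgClosed k] {L : C} [Module.Finite k (End L)] (h0 : 𝟙 L ≠ 0)
    (hL : ∀ ψ : L ⟶ L, ψ = 0 ∨ IsIso ψ) : Module.finrank k (End L) = 1 := by
  haveI : Nontrivial (End L) := ⟨⟨1, 0, h0⟩⟩
  haveI : NoZeroDivisors (End L) := ⟨fun {a b} h => by
    rcases hL a with ha | ha
    · exact Or.inl ha
    · refine Or.inr ((cancel_mono (a : L ⟶ L)).1 ?_)
      exact (show (b : L ⟶ L) ≫ a = 0 from h).trans zero_comp.symm⟩
  haveI : IsDomain (End L) := NoZeroDivisors.to_isDomain _
  exact (LinearEquiv.ofBijective (Algebra.linearMap k (End L))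
    IsAlgClosed.algebraMap_bijective_of_isIntegral).finrank_eq.symm.trans (Module.finrank_self k)

/-- The endomorphisms of a power of an object with scalar endomorphisms. -/
theorem finrank_end_pow [IsAlgClosed k] {L P : C} [Module.Finite k (End L)] (h0 : 𝟙 L ≠ 0)
    (hL : ∀ ψ : L ⟶ L, ψ = 0 ∨ IsIso ψ) {r : ℕ} (e : P ≅ ⨁ fun _ : Fin r => L) :
    Module.finrank k (End P) = r * r := by
  rw [((endAlgEquiv k e).trans (endPowAlgEquiv k L r)).toLinearEquiv.finrank_eq, Module.finrank_matrix,
    finrank_end_eq_one k h0 hL, Fintype.card_fin, mul_one]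

end Cat

variable {k K : Type u} [Field k] [Field K] [Algebra k K] {X X' : Scheme.{u}}
  [X.Over (Spec (CommRingCat.of k))] [X'.Over (Spec (CommRingCat.of K))] (g : X' ⟶ X)
  (sq : IsPullback g (X' ↘ Spec (CommRingCat.of K)) (X ↘ Spec (CommRingCat.of k))
    (Spec.map (CommRingCat.ofHom (algebraMap k K))))

include sq in
/-- Inverse image is semilinear on homomorphisms. -/
theorem pullback_map_smul {F G : X.Modules} (c : k) (γ : F ⟶ G) :
    (Scheme.Modules.pullback g).map (c • γ) = algebraMap k K c • (Scheme.Modules.pullback g).map γ := by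
  apply ((Scheme.Modules.pullbackPushforwardAdjunction g).homEquiv _ _).injective
  refine KosExt.hom_ext_affine fun U s => ?_
  rw [Adjunction.homEquiv_unit, Adjunction.homEquiv_unit]
  show ((Scheme.Modules.pullback g).map (c • γ)).app (g ⁻¹ᵁ U.1) (OmegaSh.pullSect g F U.1 s) =
    (algebraMap k K c • (Scheme.Modules.pullback g).map γ).app (g ⁻¹ᵁ U.1) (OmegaSh.pullSect g F U.1 s)
  rw [hom_smul_app]
  refine (QC.app_pullSect g (c • γ) U.1 s).trans ?_
  rw [QC.app_pullSect g γ U.1 s, hom_smul_app, OmegaSh.pullSect_smul, secRing_comm k K g sq]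

variable [IsProper (X ↘ Spec (CommRingCat.of k))]

include sq in
/-- The endomorphisms commute with extension of the ground field. -/
theorem finrank_end_pullback {E : X.Modules} (hE : Coh.IsCoh E) :
    Module.finrank K (End ((Scheme.Modules.pullback g).obj E)) = Module.finrank k (End E) := by
  classical
  haveI : IsLocallyNoetherian X := LocallyOfFiniteType.isLocallyNoetherian (X ↘ Spec (CommRingCat.of k))
  haveI : CompactSpace X := QuasiCompact.compactSpace_of_compactSpace (X ↘ Spec (CommRingCat.of k))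
  haveI := finite_end (k := k) hE
  let B := Module.finBasis k (End E)
  let v : Fin (Module.finrank k (End E)) → End ((Scheme.Modules.pullback g).obj E) := fun i =>
    End.of ((Scheme.Modules.pullback g).map (B i))
  have hsp : ⊤ ≤ Submodule.span K (Set.range v) := fun f _ => by
    obtain ⟨T, γ, hf⟩ := exists_expansion g sq hE hE.1 f
    have hf' : f = ∑ b ∈ T, b • End.of ((Scheme.Modules.pullback g).map (γ b)) := hf
    rw [hf']
    refine Submodule.sum_mem _ fun b _ => Submodule.smul_mem _ b ?_
    obtain ⟨c, hc⟩ : ∃ c : Fin (Module.finrank k (End E)) → k, γ b = ∑ i, c i • (show E ⟶ E from B i) :=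
      ⟨_, (B.sum_repr (End.of (γ b))).symm⟩
    rw [hc, Functor.map_sum]
    refine Submodule.sum_mem _ fun i _ => ?_
    rw [pullback_map_smul g sq]
    exact Submodule.smul_mem _ _ (Submodule.subset_span ⟨i, rfl⟩)
  have hli : LinearIndependent K v := Fintype.linearIndependent_iff.2 fun b hb i => by
    refine (Module.forall_dual_apply_eq_zero_iff k (b i)).1 fun φ => ?_
    obtain ⟨C, -, -, -, hC⟩ := exists_coeff (F := E) g sq hE.1 φ
    have h := congrArg C (show (∑ i, b i • (Scheme.Modules.pullback g).map (B i)) = 0 from hb)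
    rw [map_sum, map_zero] at h
    simp only [hC] at h
    exact Fintype.linearIndependent_iff.1 B.linearIndependent (fun j => φ (b j)) h i
  rw [Module.finrank_eq_card_basis (Module.Basis.mk hli hsp), Fintype.card_fin]

variable [IsProper (X' ↘ Spec (CommRingCat.of K))] [IsAlgClosed K]

include sq in
/-- The endomorphism algebra of a module of type `L^r` has dimension `r²`. -/
theorem finrank_end_of_type {E : X.Modules} (hE : Coh.IsCoh E) {L : X'.Modules} (hLc : Coh.IsCoh L) (h0 : 𝟙 L ≠ 0)
    (hL : ∀ ψ : L ⟶ L, ψ = 0 ∨ IsIso ψ) {r : ℕ} (e : (Scheme.Modules.pullback g).obj E ≅ ∐ fun _ : Fin r => L) :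
    Module.finrank k (End E) = r * r := by
  haveI := finite_end (k := K) hLc
  rw [← finrank_end_pullback g sq hE]
  exact finrank_end_pow K h0 hL (e ≪≫ (biproduct.isoCoproduct _).symm)

variable [Algebra.IsAlgebraic k K]

include sq in
/-- A module whose endomorphisms form a given algebra determines the index by its indecomposable summand. -/
theorem isIndex_of_end {T : Type u} [Ring T] [Algebra k T] {L : X'.Modules} (hLc : Coh.IsCoh L)
    (hLi : Indec L) (hL : ∀ ψ : L ⟶ L, ψ = 0 ∨ IsIso ψ) {V W : X.Modules} (hV : FlatMod.IsFinLocFree V)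
    (hW : FlatMod.IsFinLocFree W) (hWi : Indec W) {r s : ℕ} (hr : 0 < r) (hs : 0 < s)
    (eW : (Scheme.Modules.pullback g).obj W ≅ ∐ fun _ : Fin r => L)
    (eV : (Scheme.Modules.pullback g).obj V ≅ ∐ fun _ : Fin s => L) (θ : T ≃ₐ[k] End V) :
    CSAGal.IsIndex k T r := by
  classical
  have h0 : 𝟙 L ≠ 0 := fun h => hLi.1 ((IsZero.iff_id_eq_zero L).2 h)
  have hWc := K0Coh.isCoh_of_isFinLocFree hW
  have hV0 : ¬ IsZero V := fun h => hLi.1 ((IsZero.iff_id_eq_zero L).2 (by
    let i0 : Fin s := ⟨0, hs⟩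
    have hz : IsZero (∐ fun _ : Fin s => L) :=
      (((Scheme.Modules.pullback g).map_isZero h).of_iso eV.symm)
    have hh : Sigma.ι (fun _ : Fin s => L) i0 ≫ Sigma.desc (fun _ : Fin s => 𝟙 L) = 𝟙 L := Sigma.ι_desc _ _
    rw [← hh, hz.eq_of_tgt (Sigma.ι (fun _ : Fin s => L) i0) 0, zero_comp]))
  obtain ⟨G, m, hG, hGi, ⟨a⟩, t, ⟨eG⟩⟩ := exists_iso_pow_indec g sq hV hV0 L hLc hLi s eV
  obtain ⟨ω⟩ := nonempty_iso_of_same_type g sq (K0Coh.isCoh_of_isFinLocFree hG) hWc hGi hWi L t r eG eW
  haveI : Nontrivial (End W) := ⟨⟨1, 0, fun h => hWi.1 ((IsZero.iff_id_eq_zero W).2 h)⟩⟩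
  letI iD : DivisionRing (End W) := DivisionRing.ofIsUnitOrEqZero fun f => by
    by_cases hf : f = 0
    · exact Or.inr hf
    · exact Or.inl ((isUnit_iff_isIso _).2 (isIso_of_indec g sq hWc hWi hL eW f hf))
  have hm : 0 < m := by
    rcases Nat.eq_zero_or_pos m with rfl | h
    · exact absurd (((isZero_biproduct_of_isEmpty fun _ : Fin 0 => G).of_iso (biproduct.isoCoproduct _).symm).of_iso a) hV0
    · exact h
  refine ⟨hr, m, End W, iD, (inferInstance : Algebra k (End W)), hm, ?_, ⟨θ.trans ?_⟩⟩
  · rw [finrank_end_of_type g sq hWc hLc h0 hL eW, pow_two]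
  · exact (endAlgEquiv k (a ≪≫ (biproduct.isoCoproduct _).symm ≪≫ biproduct.mapIso fun _ => ω)).trans
      (endPowAlgEquiv k W m)

end Groth.Agent.KrullSch
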