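import Groth.Agent.KrullSch.Isotypical
import Groth.Agent.DualGeneric.UnitEnd
import Groth.Agent.PerfPush.H0
import Mathlib

/-! Endomorphisms of rank-one-isotypical modules. -/

set_option autoImplicit false
set_option backward.isDefEq.respectTransparency false
set_option backward.isDefEq.respectTransparency.types false
set_option linter.style.haveILetI false

universe u

open CategoryTheory CategoryTheory.Limits AlgebraicGeometry

attribute [local instance] CategoryTheory.Abelian.hasFiniteBiproducts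

namespace Groth.Agent.KrullSch

/-- A nonzero endomorphism of a power of an object with division endomorphism ring generates the identity. -/
theorem exists_sum_eq_id {C : Type*} [Category C] [Abelian C] {L : C} (hL : ∀ ψ : L ⟶ L, ψ = 0 ∨ IsIso ψ) {r : ℕ}
    (a : (⨁ fun _ : Fin r => L) ⟶ ⨁ fun _ : Fin r => L) (ha : a ≠ 0) :
    ∃ (x y : Fin r → ((⨁ fun _ : Fin r => L) ⟶ ⨁ fun _ : Fin r => L)), ∑ q, x q ≫ a ≫ y q = 𝟙 _ := by
  classical
  obtain ⟨s, t, hst⟩ : ∃ s t, biproduct.ι (fun _ : Fin r => L) s ≫ a ≫ biproduct.π (fun _ : Fin r => L) t ≠ 0 := by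
    by_contra h
    push_neg at h
    refine ha (biproduct.hom_ext' _ _ fun s => biproduct.hom_ext _ _ fun t => ?_)
    rw [comp_zero, zero_comp, Category.assoc, h]
  haveI := (hL _).resolve_left hst
  let u := biproduct.ι (fun _ : Fin r => L) s ≫ a ≫ biproduct.π (fun _ : Fin r => L) t
  refine ⟨fun q => biproduct.π (fun _ : Fin r => L) q ≫ biproduct.ι (fun _ : Fin r => L) s,
    fun q => biproduct.π (fun _ : Fin r => L) t ≫ inv u ≫ biproduct.ι (fun _ : Fin r => L) q, ?_⟩
  rw [← biproduct.total]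
  refine Finset.sum_congr rfl fun q _ => ?_
  calc _ = biproduct.π (fun _ : Fin r => L) q ≫ (u ≫ inv u) ≫ biproduct.ι (fun _ : Fin r => L) q := by
          simp only [u, Category.assoc]
    _ = _ := by rw [IsIso.hom_inv_id, Category.id_comp]

/-- The same for an isomorphic object. -/
theorem exists_sum_eq_id_of_iso {C : Type*} [Category C] [Abelian C] {L P : C} (hL : ∀ ψ : L ⟶ L, ψ = 0 ∨ IsIso ψ)
    {r : ℕ} (e : P ≅ ∐ fun _ : Fin r => L) (a : P ⟶ P) (ha : a ≠ 0) :
    ∃ (x y : Fin r → (P ⟶ P)), ∑ q, x q ≫ a ≫ y q = 𝟙 P := by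
  let e' := e ≪≫ (biproduct.isoCoproduct fun _ : Fin r => L).symm
  obtain ⟨x, y, h⟩ := exists_sum_eq_id hL (e'.inv ≫ a ≫ e'.hom) fun h0 => ha <| by
    rw [← cancel_epi e'.inv, ← cancel_mono e'.hom, comp_zero, zero_comp, Category.assoc, h0]
  refine ⟨fun q => e'.hom ≫ x q ≫ e'.inv, fun q => e'.hom ≫ y q ≫ e'.inv, ?_⟩
  calc _ = e'.hom ≫ (∑ q, x q ≫ (e'.inv ≫ a ≫ e'.hom) ≫ y q) ≫ e'.inv := by
          simp only [Preadditive.comp_sum, Preadditive.sum_comp, Category.assoc]
    _ = _ := by rw [h, Category.id_comp, Iso.hom_inv_id]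

variable {k : Type u} [Field k] {K : Type u} [Field K] [Algebra k K] {X X' : Scheme.{u}}
  [X.Over (Spec (CommRingCat.of k))] [X'.Over (Spec (CommRingCat.of K))] [IsProper (X ↘ Spec (CommRingCat.of k))]
  (g : X' ⟶ X)
  (sq : IsPullback g (X' ↘ Spec (CommRingCat.of K)) (X ↘ Spec (CommRingCat.of k))
    (Spec.map (CommRingCat.ofHom (algebraMap k K))))

include sq in
/-- A nonzero endomorphism of a rank-one-isotypical module generates the identity as a two-sided ideal. -/
theorem exists_sum_smul_eq_id {E : X.Modules} (hE : Coh.IsCoh E) {L : X'.Modules}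
    (hL : ∀ ψ : L ⟶ L, ψ = 0 ∨ IsIso ψ) {r : ℕ} (e : (Scheme.Modules.pullback g).obj E ≅ ∐ fun _ : Fin r => L)
    (f : E ⟶ E) (hf : f ≠ 0) :
    ∃ (ι : Type u) (_ : Fintype ι) (a b : ι → (E ⟶ E)), ∑ i, a i ≫ f ≫ b i = 𝟙 E := by
  classical
  haveI : IsLocallyNoetherian X := LocallyOfFiniteType.isLocallyNoetherian (X ↘ Spec (CommRingCat.of k))
  haveI : CompactSpace X := QuasiCompact.compactSpace_of_compactSpace (X ↘ Spec (CommRingCat.of k))
  obtain ⟨φ, hφ⟩ : ∃ φ : K →ₗ[k] k, φ 1 = 1 := by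
    obtain ⟨φ, hφ⟩ := (Algebra.linearMap k K).exists_leftInverse_of_injective
      (LinearMap.ker_eq_bot.2 (algebraMap k K).injective)
    exact ⟨φ, by simpa using LinearMap.congr_fun hφ 1⟩
  obtain ⟨C, -, -, -, hC⟩ := exists_coeff (F := E) g sq hE.1 φ
  have hne : (Scheme.Modules.pullback g).map f ≠ 0 := fun h => hf <| by
    have h1 := hC 1 f
    rwa [one_smul, h, map_zero, hφ, one_smul, eq_comm] at h1
  obtain ⟨x, y, hxy⟩ := exists_sum_eq_id_of_iso hL e _ hne
  choose S α hα using fun q => exists_expansion g sq hE hE.1 (x q)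
  choose T β hβ using fun q => exists_expansion g sq hE hE.1 (y q)
  let ι := (Σ q : Fin r, {b // b ∈ S q} × {c // c ∈ T q})
  refine ⟨ι, inferInstance, fun i => φ ((i.2.2 : K) * i.2.1) • α i.1 i.2.1, fun i => β i.1 i.2.2, ?_⟩
  have h2 := congrArg C hxy
  rw [show (𝟙 ((Scheme.Modules.pullback g).obj E)) = (1 : K) • (Scheme.Modules.pullback g).map (𝟙 E) by
    rw [one_smul, CategoryTheory.Functor.map_id], hC, hφ, one_smul] at h2
  rw [← h2, map_sum]
  simp only [ι, Fintype.sum_sigma, Fintype.sum_prod_type]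
  refine Finset.sum_congr rfl fun q _ => ?_
  rw [hα q, hβ q]
  simp only [Preadditive.sum_comp, Preadditive.comp_sum, Linear.smul_comp, Linear.comp_smul, Finset.smul_sum,
    smul_smul, ← CategoryTheory.Functor.map_comp, map_sum, hC]
  rw [Finset.sum_comm]
  conv_rhs => rw [← Finset.sum_coe_sort (T q)]
  refine Finset.sum_congr rfl fun c _ => ?_
  conv_rhs => rw [← Finset.sum_coe_sort (S q)]

include sq in
/-- The endomorphisms of a rank-one-isotypical module form a simple ring. -/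
theorem isSimpleRing_end {E : X.Modules} (hE : Coh.IsCoh E) (hE0 : ¬ IsZero E) {L : X'.Modules}
    (hL : ∀ ψ : L ⟶ L, ψ = 0 ∨ IsIso ψ) {r : ℕ} (e : (Scheme.Modules.pullback g).obj E ≅ ∐ fun _ : Fin r => L) :
    IsSimpleRing (End E) := by
  haveI : Nontrivial (End E) := ⟨⟨1, 0, fun h => hE0 ((IsZero.iff_id_eq_zero E).2 h)⟩⟩
  refine .of_eq_bot_or_eq_top fun I => ?_
  by_cases h : ∃ f : End E, f ∈ I ∧ f ≠ 0
  · obtain ⟨f, hfI, hf⟩ := h
    right
    obtain ⟨ι, _, a, b, hab⟩ := exists_sum_smul_eq_id g sq hE hL e f hf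
    refine (TwoSidedIdeal.one_mem_iff I).1 ?_
    rw [show (1 : End E) = ∑ i, End.of (b i) * f * End.of (a i) from hab.symm]
    exact sum_mem fun i _ => I.mul_mem_right _ _ (I.mul_mem_left _ _ hfI)
  · push_neg at h
    left
    exact eq_bot_iff.2 fun f hf => (TwoSidedIdeal.mem_bot _).2 (h f hf)

include sq in
/-- Nonzero endomorphisms of an indecomposable rank-one-isotypical module are invertible. -/
theorem isIso_of_indec {E : X.Modules} (hE : Coh.IsCoh E) (hEi : Indec E) {L : X'.Modules}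
    (hL : ∀ ψ : L ⟶ L, ψ = 0 ∨ IsIso ψ) {r : ℕ} (e : (Scheme.Modules.pullback g).obj E ≅ ∐ fun _ : Fin r => L)
    (f : E ⟶ E) (hf : f ≠ 0) : IsIso f := by
  haveI := finite_end (k := k) hE
  haveI : Nontrivial (End E) := ⟨⟨1, 0, fun h => hEi.1 ((IsZero.iff_id_eq_zero E).2 h)⟩⟩
  obtain ⟨ι, _, a, b, hab⟩ := exists_sum_smul_eq_id g sq hE hL e f hf
  obtain ⟨i, -, hu⟩ := exists_isUnit_of_sum k hEi Finset.univ (fun i => End.of (b i) * End.of f * End.of (a i))
    (by rw [show (∑ i, End.of (b i) * End.of f * End.of (a i)) = 1 from hab]; exact isUnit_one)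
  have key : ∀ {x y : End E}, IsUnit (x * y) → IsUnit x ∧ IsUnit y := by
    intro x y h
    obtain ⟨w, hw⟩ := h
    have hx : IsUnit x := (isUnit_or_isNilpotent k hEi x).resolve_right fun ⟨n, hn⟩ => by
      have h1 : x * (y * ↑w⁻¹) = 1 := by rw [← mul_assoc, ← hw, Units.mul_inv]
      have h2 : ∀ m, x ^ m * (y * ↑w⁻¹) ^ m = 1 := fun m => by
        induction m with
        | zero => simp
        | succ m ih => rw [pow_succ, pow_succ', mul_assoc, ← mul_assoc x, h1, one_mul, ih]
      have h3 := h2 n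
      rw [hn, zero_mul] at h3
      exact hEi.1 ((IsZero.iff_id_eq_zero E).2 h3.symm)
    obtain ⟨v, rfl⟩ := hx
    exact ⟨v.isUnit, ⟨v⁻¹ * w, by rw [Units.val_mul, hw, ← mul_assoc, Units.inv_mul, one_mul]⟩⟩
  exact (isUnit_iff_isIso _).1 (key (key hu).1).2

/-- Invertible modules on integral proper schemes over algebraically closed fields have division endomorphism rings. -/
theorem end_invertible_eq_zero_or_isIso {K : Type u} [Field K] [IsAlgClosed K] {Z : Scheme.{u}}
    (q : Z ⟶ Spec (CommRingCat.of K)) [IsProper q] [IsIntegral Z] {L : Z.Modules} (hL : PicF.IsInvertible L)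
    (ψ : L ⟶ L) : ψ = 0 ∨ IsIso ψ := by
  refine DualGeneric.end_eq_zero_or_isIso ?_ hL ψ
  let φ : K →+* Γ(Z, ⊤) := q.appTop.hom.comp (Scheme.ΓSpecIso (CommRingCat.of K)).inv.hom
  have h : Function.Bijective φ := (PerfPush.bijective_appTop_of_algClosed q).comp
    (Scheme.ΓSpecIso (CommRingCat.of K)).symm.commRingCatIsoToRingEquiv.bijective
  exact (RingEquiv.ofBijective φ h).symm.toMulEquiv.isField (Field.toIsField K)

end Groth.Agent.KrullSch
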