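import Groth.Agent.KrullSch.EndBrauer
import Groth.Agent.KrullSch.TwistDual
import Groth.Agent.KrullSch.SBTypes
import Groth.Agent.Brauer.Period
import Groth.Agent.S14204
import Mathlib

/-! Endomorphisms of tensor products of isotypical modules on Severi–Brauer schemes. -/

set_option autoImplicit false
set_option backward.isDefEq.respectTransparency false
set_option backward.isDefEq.respectTransparency.types false
set_option linter.style.haveILetI false

universe u

open CategoryTheory CategoryTheory.Limits AlgebraicGeometry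
open Groth.Agent.QC (res app_res)
open Groth.Agent.Brauer (pw pwSucc pwOne pwZero)
open scoped TensorProduct

attribute [local instance] CategoryTheory.Abelian.hasFiniteBiproducts

noncomputable section

namespace Groth.Agent.KrullSch

open W7Cech

section Map

variable {Y : Scheme.{u}}

/-- The bilinear map of a morphism of second factors. -/
def tmapRBil (M : Y.Modules) {N N' : Y.Modules} (ψ : N ⟶ N') (U : Y.Opens) :
    Γ(M, U) →ₗ[Γ(Y, U)] Γ(N, U) →ₗ[Γ(Y, U)] Γ(CohB1.tensorMod M N', U) :=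
  LinearMap.mk₂ Γ(Y, U) (fun m n => TMul.tm m (ψ.app U n))
    (fun a b n => TMul.tm_add _ _ _) (fun r a n => TMul.smul_tm _ _ _)
    (fun m a b => by rw [map_add, TMul.add_tm])
    fun r m a => by rw [Scheme.Modules.Hom.app_smul, TMul.tm_smul]

theorem tmapRBil_res (M : Y.Modules) {N N' : Y.Modules} (ψ : N ⟶ N') {V U : Y.Opens} (h : V ≤ U) (m : Γ(M, U))
    (n : Γ(N, U)) :
    res (CohB1.tensorMod M N') h (tmapRBil M ψ U m n) = tmapRBil M ψ V (res M h m) (res N h n) := by
  change res _ h (TMul.tm m (ψ.app U n)) = TMul.tm (res M h m) (ψ.app V (res N h n))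
  rw [TMul.res_tm, app_res]

/-- Functoriality of the tensor product in the second variable. -/
def tmapR (M : Y.Modules) {N N' : Y.Modules} (ψ : N ⟶ N') : CohB1.tensorMod M N ⟶ CohB1.tensorMod M N' :=
  TMul.lift (tmapRBil M ψ) fun h m n => tmapRBil_res M ψ h m n

theorem tmapR_tm (M : Y.Modules) {N N' : Y.Modules} (ψ : N ⟶ N') {U : Y.Opens} (m : Γ(M, U)) (n : Γ(N, U)) :
    (tmapR M ψ).app U (TMul.tm m n) = TMul.tm m (ψ.app U n) :=
  TMul.lift_tm (tmapRBil M ψ) (fun h m n => tmapRBil_res M ψ h m n) m n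

variable {k : Type u} [Field k] [Y.Over (Spec (CommRingCat.of k))]

theorem tmap_smul (c : k) {M M' : Y.Modules} (φ : M ⟶ M') (N : Y.Modules) :
    CohFinite.tmap (c • φ) N = c • CohFinite.tmap φ N :=
  TMul.hom_ext fun U m n => by
    rw [CohFinite.tmap_tm, hom_smul_app, TMul.smul_tm, hom_smul_app, CohFinite.tmap_tm]

theorem tmapR_smul (c : k) (M : Y.Modules) {N N' : Y.Modules} (ψ : N ⟶ N') :
    tmapR M (c • ψ) = c • tmapR M ψ :=
  TMul.hom_ext fun U m n => by
    rw [tmapR_tm, hom_smul_app, TMul.tm_smul, hom_smul_app, tmapR_tm]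

variable (k) in
/-- Endomorphisms of the first factor. -/
def endTensL (M N : Y.Modules) : End M →ₐ[k] End (CohB1.tensorMod M N) where
  toFun φ := CohFinite.tmap φ N
  map_one' := CohFinite.tmap_id M N
  map_mul' a b := CohFinite.tmap_comp b a N
  map_zero' := CohFinite.tmap_zero N
  map_add' a b := CohFinite.tmap_add a b N
  commutes' c := by
    show CohFinite.tmap (c • 𝟙 M) N = c • 𝟙 _
    rw [tmap_smul, CohFinite.tmap_id]

variable (k) in
/-- Endomorphisms of the second factor. -/
def endTensR (M N : Y.Modules) : End N →ₐ[k] End (CohB1.tensorMod M N) where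
  toFun ψ := tmapR M ψ
  map_one' := TMul.hom_ext fun U m n => tmapR_tm M (𝟙 N) m n
  map_mul' a b := TMul.hom_ext fun U m n => by
    show (tmapR M (b ≫ a)).app U (TMul.tm m n) = (tmapR M a).app U ((tmapR M b).app U (TMul.tm m n))
    rw [tmapR_tm, tmapR_tm, tmapR_tm]
    rfl
  map_zero' := TMul.hom_ext fun U m n => by
    refine (tmapR_tm M (0 : N ⟶ N) m n).trans ?_
    show TMul.tm m (0 : Γ(N, U)) = 0
    simpa using TMul.tm_smul (0 : Γ(Y, U)) m n
  map_add' a b := TMul.hom_ext fun U m n => by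
    refine (tmapR_tm M _ m n).trans ?_
    show TMul.tm m (a.app U n + b.app U n) = (tmapR M a).app U (TMul.tm m n) + (tmapR M b).app U (TMul.tm m n)
    rw [tmapR_tm, tmapR_tm, TMul.add_tm]
  commutes' c := by
    show tmapR M (c • 𝟙 N) = c • 𝟙 _
    rw [tmapR_smul]
    exact congrArg (c • ·) (TMul.hom_ext fun U m n => tmapR_tm M (𝟙 N) m n)

variable (k) in
/-- Endomorphisms of both factors. -/
def endTens (M N : Y.Modules) : End M ⊗[k] End N →ₐ[k] End (CohB1.tensorMod M N) :=
  Algebra.TensorProduct.lift (endTensL k M N) (endTensR k M N) fun a b => TMul.hom_ext fun U m n => by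
    show (CohFinite.tmap a N).app U ((tmapR M b).app U (TMul.tm m n)) =
      (tmapR M b).app U ((CohFinite.tmap a N).app U (TMul.tm m n))
    rw [tmapR_tm, CohFinite.tmap_tm, CohFinite.tmap_tm, tmapR_tm]

end Map

variable {k : Type u} [Field k] {X : Scheme.{u}} {f : X ⟶ Spec (CommRingCat.of k)} [IsProper f] {n : ℕ}
  {K : Type u} [Field K] [Algebra k K] [IsAlgClosed K] (e : BrSev.Splitting f K n)

/-- The dimension of the endomorphisms of a module of twisting type. -/
theorem finrank_end_twPow [X.Over (Spec (CommRingCat.of k))]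
    (hXf : (X ↘ Spec (CommRingCat.of k)) = f) {E : X.Modules} (hE : FlatMod.IsFinLocFree E) {j : ℤ} {r : ℕ}
    (h : BrSev.IsTwPow e j r E) : Module.finrank k (End E) = r * r := by
  haveI := BrSevSplit.isIntegral_projSpace (k := K) (n := n)
  haveI : Nonempty (BrSev.bc f K) := ⟨e.iso.inv (IsIntegral.nonempty (X := CohB1.ProjSpace n K)).some⟩
  haveI : IsIntegral (BrSev.bc f K) := isIntegral_of_isOpenImmersion e.iso.hom
  subst hXf
  letI : (BrSev.bc (X ↘ Spec (CommRingCat.of k)) K).Over (Spec (CommRingCat.of K)) :=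
    ⟨BrSev.bcTo (X ↘ Spec (CommRingCat.of k)) K⟩
  haveI : IsProper (BrSev.bc (X ↘ Spec (CommRingCat.of k)) K ↘ Spec (CommRingCat.of K)) :=
    inferInstanceAs (IsProper (pullback.snd (X ↘ Spec (CommRingCat.of k))
      (Spec.map (CommRingCat.ofHom (algebraMap k K)))))
  haveI : IsLocallyNoetherian (BrSev.bc (X ↘ Spec (CommRingCat.of k)) K) :=
    LocallyOfFiniteType.isLocallyNoetherian (BrSev.bc (X ↘ Spec (CommRingCat.of k)) K ↘ Spec (CommRingCat.of K))
  haveI : IsLocallyNoetherian X := LocallyOfFiniteType.isLocallyNoetherian (X ↘ Spec (CommRingCat.of k))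
  obtain ⟨a⟩ := h
  exact finrank_end_of_type (BrSev.proj (X ↘ Spec (CommRingCat.of k)) K) (IsPullback.of_hasPullback _ _)
    (K0Coh.isCoh_of_isFinLocFree hE) (L := e.twist j)
    (K0Coh.isCoh_of_isFinLocFree (ResDesc.isFinLocFree_of_isInvertible (isInvertible_twist e j)))
    (fun h0 => (indec_twist e j).1 ((IsZero.iff_id_eq_zero _).2 h0))
    (end_invertible_eq_zero_or_isIso (pullback.snd _ _) (isInvertible_twist e j)) a

/-- Positive tensor powers of an algebra are realised as endomorphisms. -/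
theorem exists_pw_end [Algebra.IsAlgebraic k K] [X.Over (Spec (CommRingCat.of k))]
    (hXf : (X ↘ Spec (CommRingCat.of k)) = f) {T : Type u} [Ring T] [Algebra k T] (hT : Brauer.IsCSA k T) {d : ℕ}
    (hd : 0 < d) {V : X.Modules} (hV : FlatMod.IsFinLocFree V) (hVt : BrSev.IsTwPow e 1 d V)
    (θ : T ≃ₐ[k] End V) :
    ∀ j : ℕ, ∃ V' : X.Modules, FlatMod.IsFinLocFree V' ∧ BrSev.IsTwPow e ((j + 1 : ℕ) : ℤ) (d ^ (j + 1)) V' ∧
      Nonempty (pw k T (j + 1) ≃ₐ[k] End V')
  | 0 => ⟨V, hV, by simpa using hVt, ⟨(pwOne k T).trans θ⟩⟩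
  | j + 1 => by
    obtain ⟨V', hV', hV't, ⟨θ'⟩⟩ := exists_pw_end hXf hT hd hV hVt θ j
    have hVT := ResDesc.isFinLocFree_tensorMod hV' hV
    have ht : BrSev.IsTwPow e ((j + 1 + 1 : ℕ) : ℤ) (d ^ (j + 1 + 1)) (CohB1.tensorMod V' V) := by
      have h := Groth.Agent.S14204.result k f n K e _ 1 _ d V' V hV't hVt
      rwa [← pow_succ, show ((j + 1 : ℕ) : ℤ) + 1 = ((j + 1 + 1 : ℕ) : ℤ) by push_cast; ring] at h
    let Φ : pw k T (j + 1 + 1) →ₐ[k] End (CohB1.tensorMod V' V) :=
      ((endTens k V' V).comp (Algebra.TensorProduct.congr θ' θ).toAlgHom).comp (pwSucc k T (j + 1)).toAlgHom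
    have hS := hT.pw (j + 1 + 1)
    haveI := hS.simple
    haveI := hS.finite
    haveI := hS.nontrivial
    haveI : Nontrivial (End (CohB1.tensorMod V' V)) := Module.nontrivial_of_finrank_pos (R := k) (by
      rw [finrank_end_twPow e hXf hVT ht]
      exact Nat.mul_pos (pow_pos hd _) (pow_pos hd _))
    have hinj : Function.Injective Φ := RingHom.injective Φ.toRingHom
    have hfr : Module.finrank k (pw k T (j + 1 + 1)) = Module.finrank k (End (CohB1.tensorMod V' V)) := by
      rw [finrank_end_twPow e hXf hVT ht, Brauer.finrank_pw, θ.toLinearEquiv.finrank_eq,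
        finrank_end_twPow e hXf hV hVt, mul_pow]
    haveI : Module.Finite k (End (CohB1.tensorMod V' V)) := Module.finite_of_finrank_pos (by
      rw [← hfr]
      exact hS.finrank_pos)
    exact ⟨_, hVT, ht, ⟨AlgEquiv.ofBijective Φ
      ⟨hinj, (LinearMap.injective_iff_surjective_of_finrank_eq_finrank hfr (f := Φ.toLinearMap)).1 hinj⟩⟩⟩

end Groth.Agent.KrullSch
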