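import Groth.Agent.FieldAmple.Basic
import Groth.Agent.DerPerf.Local
import Groth.Prelude.Def_W4c1astiltbs12AS
import Mathlib

/-! Locally free modules on a base change come from a finite Galois level. -/

set_option autoImplicit false
set_option backward.isDefEq.respectTransparency false
set_option backward.isDefEq.respectTransparency.types false
set_option linter.style.haveILetI false

universe u

open CategoryTheory CategoryTheory.Limits AlgebraicGeometry Opposite

noncomputable section

namespace Groth.Agent.KrullSch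

variable {k : Type u} [Field k] {X : Scheme.{u}} (p : X ⟶ Spec (CommRingCat.of k))

/-- The transition map between base changes. -/
def levelMap (L K : Type u) [CommRing L] [CommRing K] [Algebra k L] [Algebra k K] [Algebra L K] [IsScalarTower k L K] :
    W4bk4gw11416.baseChange p K ⟶ W4bk4gw11416.baseChange p L :=
  pullback.lift (W4c1astiltbs12.proj p K)
    (W4bk4gw11416.baseChangeTo p K ≫ Spec.map (CommRingCat.ofHom (algebraMap L K))) (by
      rw [Category.assoc, ← Spec.map_comp, ← CommRingCat.ofHom_comp, ← IsScalarTower.algebraMap_eq]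
      exact pullback.condition)

section

variable (L K : Type u) [CommRing L] [CommRing K] [Algebra k L] [Algebra k K] [Algebra L K] [IsScalarTower k L K]

theorem levelMap_proj : levelMap p L K ≫ W4c1astiltbs12.proj p L = W4c1astiltbs12.proj p K :=
  pullback.lift_fst _ _ _

theorem levelMap_to : levelMap p L K ≫ W4bk4gw11416.baseChangeTo p L =
    W4bk4gw11416.baseChangeTo p K ≫ Spec.map (CommRingCat.ofHom (algebraMap L K)) :=
  pullback.lift_snd _ _ _

theorem isPullback_levelMap : IsPullback (levelMap p L K) (W4bk4gw11416.baseChangeTo p K)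
    (W4bk4gw11416.baseChangeTo p L) (Spec.map (CommRingCat.ofHom (algebraMap L K))) := by
  refine IsPullback.of_right ?_ (levelMap_to p L K) (IsPullback.of_hasPullback _ _)
  rw [levelMap_proj, ← Spec.map_comp, ← CommRingCat.ofHom_comp, ← IsScalarTower.algebraMap_eq]
  exact IsPullback.of_hasPullback _ _

end

section

variable (L : Type u) [Field L] [Algebra k L] (σ : L ≃ₐ[k] L)

theorem galAct_proj : W4c1astiltbs12.galAct p L σ ≫ W4c1astiltbs12.proj p L = W4c1astiltbs12.proj p L :=
  (pullback.lift_fst _ _ _).trans (Category.comp_id _)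

theorem galAct_to : W4c1astiltbs12.galAct p L σ ≫ W4bk4gw11416.baseChangeTo p L =
    W4bk4gw11416.baseChangeTo p L ≫ Spec.map (CommRingCat.ofHom (σ : L →+* L)) :=
  pullback.lift_snd _ _ _

theorem isPullback_galAct : IsPullback (W4c1astiltbs12.galAct p L σ) (W4bk4gw11416.baseChangeTo p L)
    (W4bk4gw11416.baseChangeTo p L) (Spec.map (CommRingCat.ofHom (σ : L →+* L))) := by
  refine IsPullback.of_right ?_ (galAct_to p L σ) (IsPullback.of_hasPullback _ _)
  rw [galAct_proj, ← Spec.map_comp, show CommRingCat.ofHom (algebraMap k L) ≫ CommRingCat.ofHom (σ : L →+* L) =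
    CommRingCat.ofHom (algebraMap k L) from by ext x; exact σ.commutes x]
  exact IsPullback.of_hasPullback _ _

/-- Conjugations commute with the transition maps. -/
theorem galAct_levelMap (K : Type u) [Field K] [Algebra k K] [Algebra L K] [IsScalarTower k L K] (τ : K ≃ₐ[k] K)
    (h : ∀ x : L, τ (algebraMap L K x) = algebraMap L K (σ x)) :
    W4c1astiltbs12.galAct p K τ ≫ levelMap p L K = levelMap p L K ≫ W4c1astiltbs12.galAct p L σ := by
  apply pullback.hom_ext
  · show (_ ≫ levelMap p L K) ≫ W4c1astiltbs12.proj p L = (_ ≫ _) ≫ W4c1astiltbs12.proj p L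
    rw [Category.assoc, Category.assoc, levelMap_proj, galAct_proj, galAct_proj, levelMap_proj]
  · show (_ ≫ levelMap p L K) ≫ W4bk4gw11416.baseChangeTo p L = (_ ≫ _) ≫ W4bk4gw11416.baseChangeTo p L
    rw [Category.assoc, Category.assoc, levelMap_to, galAct_to, reassoc_of% (galAct_to p K τ),
      reassoc_of% (levelMap_to p L K), ← Spec.map_comp, ← Spec.map_comp]
    congr 2
    ext x
    exact h x

end

/-- A finite locally free module on the base change to an algebraic Galois extension comes from a finite Galois
level. -/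
theorem exists_galois_level [CompactSpace X] [QuasiSeparatedSpace X] (K : Type u) [Field K] [Algebra k K] [IsGalois k K]
    (W : (W4bk4gw11416.baseChange p K).Modules) (hW : FlatMod.IsFinLocFree W) :
    ∃ (L : IntermediateField k K) (_ : FiniteDimensional k L) (_ : IsGalois k L)
      (WL : (W4bk4gw11416.baseChange p L).Modules), FlatMod.IsFinLocFree WL ∧
      Nonempty ((Scheme.Modules.pullback (levelMap p L K)).obj WL ≅ W) := by
  letI : X.Over (Spec (CommRingCat.of k)) := ⟨p⟩
  haveI hfst : ∀ B, IsAffineHom (pullback.fst (X ↘ Spec (CommRingCat.of k)) (FieldAmple.toK k K B)) := fun B =>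
    MorphismProperty.pullback_fst (P := @IsAffineHom) _ _ (isAffineHom_of_isAffine _)
  haveI : ∀ B, CompactSpace ((FieldAmple.bcDiagram k K X).obj B) := fun B =>
    haveI := hfst B.unop
    QuasiCompact.compactSpace_of_compactSpace (pullback.fst (X ↘ Spec (CommRingCat.of k)) (FieldAmple.toK k K B.unop))
  haveI : ∀ B, QuasiSeparatedSpace ((FieldAmple.bcDiagram k K X).obj B) := fun B =>
    haveI := hfst B.unop
    quasiSeparatedSpace_of_quasiSeparated (pullback.fst (X ↘ Spec (CommRingCat.of k)) (FieldAmple.toK k K B.unop))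
  let W' : (FieldAmple.bcCone k K X).pt.Modules := W
  haveI : Coh.IsQCoh W' := LocFree.isQCoh_of_isFinLocFree hW
  have hfp : CohB1.IsFP W' := LocFree.isFP_of_isFinLocFree hW
  let D := FieldAmple.bcDiagram k K X
  let c := FieldAmple.bcCone k K X
  have hc : IsLimit c := FieldAmple.bcIsLimit k K X
  obtain ⟨i, -, G, hG, hGfp, ⟨e⟩⟩ := ModDesc.exists_descend
    (i₀ := op (⟨⊥, Subalgebra.fg_bot⟩ : FieldAmple.FgAlg k K)) hc hfp
  haveI := hG
  obtain ⟨j, φ, hj⟩ := ModDesc.exists_isFinLocFree_stage D c hc hGfp
    (fun y => let ⟨U, m, hy, ⟨ψ⟩⟩ := hW y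
      ⟨U, m, hy, ⟨(Scheme.Modules.restrictFunctor U.ι).mapIso e ≪≫ ψ⟩⟩)
  obtain ⟨s, hs⟩ := j.unop.2
  let F : IntermediateField k K := IntermediateField.adjoin k (s : Set K)
  haveI : FiniteDimensional k F :=
    IntermediateField.finiteDimensional_adjoin fun x _ => Algebra.IsIntegral.isIntegral x
  let L : IntermediateField k K := IntermediateField.normalClosure k F K
  have hFL : F ≤ L := IntermediateField.le_normalClosure F
  have hle : ∀ b : j.unop.1, (b : K) ∈ L := fun b => hFL (Algebra.adjoin_le
    (S := F.toSubalgebra) (IntermediateField.subset_adjoin k (s : Set K)) (by rw [hs]; exact b.2))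
  haveI : FiniteDimensional k L := inferInstance
  haveI : IsGalois k L := inferInstance
  let incl : j.unop.1 →+* L :=
    { toFun := fun b => ⟨b.1, hle b⟩
      map_one' := rfl
      map_mul' := fun _ _ => rfl
      map_zero' := rfl
      map_add' := fun _ _ => rfl }
  let r : W4bk4gw11416.baseChange p L ⟶ D.obj j := pullback.lift (W4c1astiltbs12.proj p L)
    (W4bk4gw11416.baseChangeTo p L ≫ Spec.map (CommRingCat.ofHom incl)) (by
      rw [Category.assoc, FieldAmple.toK, ← Spec.map_comp]
      exact pullback.condition)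
  have hr : levelMap p L K ≫ r = c.π.app j := by
    apply pullback.hom_ext
    · show (levelMap p L K ≫ r) ≫ pullback.fst _ _ = FieldAmple.bcProj k K X j.unop ≫ pullback.fst _ _
      rw [Category.assoc, pullback.lift_fst, levelMap_proj, FieldAmple.bcProj, pullback.lift_fst]
      rfl
    · show (levelMap p L K ≫ r) ≫ pullback.snd _ _ = FieldAmple.bcProj k K X j.unop ≫ pullback.snd _ _
      rw [Category.assoc, pullback.lift_snd, reassoc_of% (levelMap_to p L K), FieldAmple.bcProj, pullback.lift_snd,
        ← Spec.map_comp]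
      rfl
  refine ⟨L, inferInstance, inferInstance,
    (Scheme.Modules.pullback r).obj ((Scheme.Modules.pullback (D.map φ)).obj G),
    DerPerf.isFinLocFree_pullback r hj, ⟨?_⟩⟩
  exact (ModDesc.trIso (levelMap p L K) r hr).app _ ≪≫
    (ModDesc.trIso (c.π.app j) (D.map φ) (c.w φ)).app G ≪≫ e

end Groth.Agent.KrullSch
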