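import Groth.Agent.KrullSch.SplitSelf
import Groth.Agent.KrullSch.Level
import Mathlib

/-! A Severi–Brauer scheme split by an algebraically closed algebraic extension is split by a finite one. -/

set_option autoImplicit false
set_option backward.isDefEq.respectTransparency false
set_option backward.isDefEq.respectTransparency.types false
set_option linter.style.haveILetI false

universe u

open CategoryTheory CategoryTheory.Limits AlgebraicGeometry

noncomputable section

namespace Groth.Agent.KrullSch

variable {k : Type u} [Field k] {X : Scheme.{u}} (p : X ⟶ Spec (CommRingCat.of k))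

/-- A finite locally free module on a base change to an algebraic extension comes from a finite level. -/
theorem exists_finite_level [CompactSpace X] [QuasiSeparatedSpace X] (K : Type u) [Field K] [Algebra k K]
    [Algebra.IsAlgebraic k K] (W : (W4bk4gw11416.baseChange p K).Modules) (hW : FlatMod.IsFinLocFree W) :
    ∃ (L : IntermediateField k K) (_ : FiniteDimensional k L)
      (WL : (W4bk4gw11416.baseChange p L).Modules), FlatMod.IsFinLocFree WL ∧
      Nonempty ((Scheme.Modules.pullback (levelMap p L K)).obj WL ≅ W) := by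
  letI : X.Over (Spec (CommRingCat.of k)) := ⟨p⟩
  haveI hfst : ∀ B, IsAffineHom (pullback.fst (X ↘ Spec (CommRingCat.of k)) (FieldAmple.toK k K B)) := fun B =>
    MorphismProperty.pullback_fst (P := @IsAffineHom) _ _ (isAffineHom_of_isAffine _)
  haveI : ∀ B, CompactSpace ((FieldAmple.bcDiagram k K X).obj B) := fun B =>
    haveI := hfst B.unop
    QuasiCompact.compactSpace_of_compactSpace (pullback.fst (X ↘ Spec (CommRingCat.of k)) (FieldAmple.toK k K B.unop))
  haveI : ∀ B, QuasiSeparatedSpace ((FieldAmple.bcDiagram k K X).obj B) := fun B =>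
    haveI := hfst B.unop
    quasiSeparatedSpace_of_quasiSeparated (pullback.fst (X ↘ Spec (CommRingCat.of k)) (FieldAmple.toK k K B.unop))
  let W' : (FieldAmple.bcCone k K X).pt.Modules := W
  haveI : Coh.IsQCoh W' := LocFree.isQCoh_of_isFinLocFree hW
  have hfp : CohB1.IsFP W' := LocFree.isFP_of_isFinLocFree hW
  let D := FieldAmple.bcDiagram k K X
  let c := FieldAmple.bcCone k K X
  have hc : IsLimit c := FieldAmple.bcIsLimit k K X
  obtain ⟨i, -, G, hG, hGfp, ⟨e⟩⟩ := ModDesc.exists_descend
    (i₀ := Opposite.op (⟨⊥, Subalgebra.fg_bot⟩ : FieldAmple.FgAlg k K)) hc hfp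
  haveI := hG
  obtain ⟨j, φ, hj⟩ := ModDesc.exists_isFinLocFree_stage D c hc hGfp
    (fun y => let ⟨U, m, hy, ⟨ψ⟩⟩ := hW y
      ⟨U, m, hy, ⟨(Scheme.Modules.restrictFunctor U.ι).mapIso e ≪≫ ψ⟩⟩)
  obtain ⟨s, hs⟩ := j.unop.2
  let L : IntermediateField k K := IntermediateField.adjoin k (s : Set K)
  haveI : FiniteDimensional k L :=
    IntermediateField.finiteDimensional_adjoin fun x _ => Algebra.IsIntegral.isIntegral x
  have hle : ∀ b : j.unop.1, (b : K) ∈ L := fun b => Algebra.adjoin_le
    (S := L.toSubalgebra) (IntermediateField.subset_adjoin k (s : Set K)) (by rw [hs]; exact b.2)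
  let incl : j.unop.1 →+* L :=
    { toFun := fun b => ⟨b.1, hle b⟩
      map_one' := rfl
      map_mul' := fun _ _ => rfl
      map_zero' := rfl
      map_add' := fun _ _ => rfl }
  let r : W4bk4gw11416.baseChange p L ⟶ D.obj j := pullback.lift (W4c1astiltbs12.proj p L)
    (W4bk4gw11416.baseChangeTo p L ≫ Spec.map (CommRingCat.ofHom incl)) (by
      rw [Category.assoc, FieldAmple.toK, ← Spec.map_comp]
      exact pullback.condition)
  have hr : levelMap p L K ≫ r = c.π.app j := by
    apply pullback.hom_ext
    · show (levelMap p L K ≫ r) ≫ pullback.fst _ _ = FieldAmple.bcProj k K X j.unop ≫ pullback.fst _ _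
      rw [Category.assoc, pullback.lift_fst, levelMap_proj, FieldAmple.bcProj, pullback.lift_fst]
      rfl
    · show (levelMap p L K ≫ r) ≫ pullback.snd _ _ = FieldAmple.bcProj k K X j.unop ≫ pullback.snd _ _
      rw [Category.assoc, pullback.lift_snd, reassoc_of% (levelMap_to p L K), FieldAmple.bcProj, pullback.lift_snd,
        ← Spec.map_comp]
      rfl
  refine ⟨L, inferInstance,
    (Scheme.Modules.pullback r).obj ((Scheme.Modules.pullback (D.map φ)).obj G),
    DerPerf.isFinLocFree_pullback r hj, ⟨?_⟩⟩
  exact (ModDesc.trIso (levelMap p L K) r hr).app _ ≪≫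
    (ModDesc.trIso (c.π.app j) (D.map φ) (c.w φ)).app G ≪≫ e

variable {f : X ⟶ Spec (CommRingCat.of k)} {n : ℕ} {K : Type u} [Field K] [Algebra k K]

/-- The power with one summand. -/
def powOneIso {Y : Scheme.{u}} (N : Y.Modules) : BrSev.pow N 1 ≅ N where
  hom := Sigma.desc fun _ => 𝟙 _
  inv := Sigma.ι (fun _ : Fin 1 => N) 0
  hom_inv_id := Sigma.hom_ext _ _ fun i => by
    rw [Sigma.ι_desc_assoc, Category.id_comp, Category.comp_id, Subsingleton.elim i 0]
  inv_hom_id := Sigma.ι_desc _ _

/-- A splitting, seen from an intermediate level. -/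
def levelSplitting (L : Type u) [Field L] [Algebra k L] [Algebra L K] [IsScalarTower k L K]
    (e : BrSev.Splitting f K n) : BrSev.Splitting (BrSev.bcTo f L) K n where
  iso := (isPullback_levelMap f L K).isoPullback.symm ≪≫ e.iso
  comm := by
    rw [Iso.trans_hom, Category.assoc, e.comm]
    exact (isPullback_levelMap f L K).isoPullback_inv_snd

/-- Some finite extension splits. -/
theorem exists_finite_splitting [IsProper f] [IsAlgClosed K] [Algebra.IsAlgebraic k K] (e : BrSev.Splitting f K n) :
    ∃ (L : IntermediateField k K) (_ : FiniteDimensional k L), Nonempty (BrSev.Splitting f L n) := by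
  haveI : CompactSpace X := QuasiCompact.compactSpace_of_compactSpace f
  haveI : QuasiSeparatedSpace X := quasiSeparatedSpace_of_quasiSeparated f
  obtain ⟨L, hL, WL, hWL, ⟨a⟩⟩ := exists_finite_level f K (e.twist 1)
    (ResDesc.isFinLocFree_of_isInvertible (isInvertible_twist e 1))
  haveI := hL
  haveI : IsProper (BrSev.bcTo f L) :=
    inferInstanceAs (IsProper (pullback.snd f (Spec.map (CommRingCat.ofHom (algebraMap k L)))))
  haveI : Algebra.IsAlgebraic L K := Algebra.IsAlgebraic.tower_top (K := k) L
  let sq := isPullback_levelMap f L K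
  let eL := levelSplitting L e
  have ht : BrSev.IsTwPow eL 1 1 WL :=
    ⟨(Scheme.Modules.pullbackCongr sq.isoPullback_inv_fst.symm).app WL ≪≫
      ((Scheme.Modules.pullbackComp sq.isoPullback.inv (levelMap f L K)).app WL).symm ≪≫
      (Scheme.Modules.pullback sq.isoPullback.inv).mapIso a ≪≫
      (Scheme.Modules.pullbackComp sq.isoPullback.inv e.iso.hom).app _ ≪≫ (powOneIso _).symm⟩
  obtain ⟨s⟩ := nonempty_splitting_self eL (isInvertible_of_twPow_one eL hWL ht) ht
  haveI : IsIso (Spec.map (CommRingCat.ofHom (algebraMap L L))) := by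
    rw [Algebra.algebraMap_self, CommRingCat.ofHom_id, Spec.map_id]
    infer_instance
  haveI : IsIso (BrSev.proj (BrSev.bcTo f L) L) := (IsPullback.of_hasPullback _ _).isIso_fst_of_isIso
  refine ⟨L, hL, ⟨⟨(asIso (BrSev.proj (BrSev.bcTo f L) L)).symm ≪≫ s.iso, ?_⟩⟩⟩
  rw [Iso.trans_hom, Category.assoc, s.comm, Iso.symm_hom, Iso.inv_comp_eq, asIso_hom]
  refine (Category.comp_id _).symm.trans ((congrArg (_ ≫ ·) ?_).trans pullback.condition.symm)
  rw [Algebra.algebraMap_self, CommRingCat.ofHom_id, Spec.map_id]

end Groth.Agent.KrullSch
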