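import Groth.Agent.KrullSch.BaseChange
import Groth.Agent.ModDesc.BaseChange
import Groth.Agent.GalDesc.Basic
import Groth.Agent.Devissage.Power
import Groth.Agent.P1Split.Line
import Groth.Agent.QC.Localisation
import Mathlib

/-! The base change of a direct image along a finite Galois extension of the ground field. -/

set_option autoImplicit false
set_option backward.isDefEq.respectTransparency false
set_option backward.isDefEq.respectTransparency.types false
set_option linter.style.haveILetI false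

universe u

open CategoryTheory CategoryTheory.Limits AlgebraicGeometry TopologicalSpace Opposite
open Groth.Agent.W7Cech
open Groth.Agent.QC (res resO res_smul app_res res_res res_self resO_resO)

attribute [local instance] CategoryTheory.Abelian.hasFiniteBiproducts

namespace Groth.Agent.KrullSch

theorem bijective_res_eq {Y : Scheme.{u}} (M : Y.Modules) {U V : Y.Opens} (h : V ≤ U) (h' : U ≤ V) :
    Function.Bijective (res M h) := by
  obtain rfl : U = V := le_antisymm h' h
  exact ⟨fun a b hab => by simpa [res_self] using hab, fun b => ⟨b, res_self M _ b⟩⟩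

/-- Sections pull back bijectively along an isomorphic extension of the base. -/
theorem bijective_pullSect {A B : Type u} [CommRing A] [CommRing B] [Algebra A B] {Y Y' : Scheme.{u}}
    [Y.Over (Spec (CommRingCat.of A))] [Y'.Over (Spec (CommRingCat.of B))] (g : Y' ⟶ Y)
    (sq : IsPullback g (Y' ↘ Spec (CommRingCat.of B)) (Y ↘ Spec (CommRingCat.of A))
      (Spec.map (CommRingCat.ofHom (algebraMap A B))))
    (hb : Function.Bijective (algebraMap A B)) {M : Y.Modules} (hM : Coh.IsQCoh M) {V : Y.Opens}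
    (hV : IsAffineOpen V) : Function.Bijective (OmegaSh.pullSect g M V) := by
  let N : ModuleCat.{u} B := (secA B (g ⁻¹ᵁ V)).obj ((Scheme.Modules.pullback g).obj M)
  letI : Module A N := Module.compHom N (algebraMap A B)
  haveI : IsScalarTower A B N := IsScalarTower.of_algebraMap_smul fun _ _ => rfl
  have h := isBaseChange_pullSec A B g sq hM hV
  let ι : ((secA A V).obj M : Type u) → TensorProduct A B ((secA A V).obj M : Type u) := fun s => (1 : B) ⊗ₜ[A] s
  have hι : Function.Bijective ι := by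
    let e := (TensorProduct.congr (LinearEquiv.ofBijective (Algebra.linearMap A B) hb)
      (LinearEquiv.refl A ((secA A V).obj M : Type u)))
    have h2 : ι = e ∘ (TensorProduct.lid A ((secA A V).obj M : Type u)).symm := by
      funext s
      show _ = e ((1 : A) ⊗ₜ[A] s)
      rw [TensorProduct.congr_tmul]
      show (1 : B) ⊗ₜ[A] s = Algebra.linearMap A B 1 ⊗ₜ[A] s
      rw [Algebra.linearMap_apply, map_one]
    rw [h2]
    exact e.bijective.comp (LinearEquiv.bijective _)
  have h3 : (fun s => (OmegaSh.pullSect g M V s : N)) = h.equiv ∘ ι := by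
    funext s
    show _ = h.equiv ((1 : B) ⊗ₜ[A] (show (secA A V).obj M from s))
    rw [h.equiv_tmul, one_smul]
    rfl
  show Function.Bijective (fun s => (OmegaSh.pullSect g M V s : N))
  rw [h3]
  exact h.equiv.bijective.comp hι

section Biprod

variable {Y : Scheme.{u}}

theorem sum_app {M N : Y.Modules} {ι : Type*} (T : Finset ι) (f : ι → (M ⟶ N)) (U : Y.Opens) (x : Γ(M, U)) :
    (∑ i ∈ T, f i).app U x = ∑ i ∈ T, (f i).app U x := by
  classical
  induction T using Finset.induction_on with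
  | empty => rw [Finset.sum_empty, Finset.sum_empty, Scheme.Modules.Hom.zero_app]; rfl
  | insert a T ha ih => rw [Finset.sum_insert ha, Finset.sum_insert ha, Scheme.Modules.Hom.add_app, ← ih]; rfl

theorem app_bijective_of_components {d : ℕ} (N : Fin d → Y.Modules) {M : Y.Modules} (Ψ : M ⟶ ⨁ N) (U : Y.Opens)
    (h : Function.Bijective fun (x : Γ(M, U)) i => (Ψ ≫ biproduct.π N i).app U x) :
    Function.Bijective (Ψ.app U) := by
  classical
  have hid : ∀ z : Γ((⨁ N : Y.Modules), U), z = ∑ i, (biproduct.ι N i).app U ((biproduct.π N i).app U z) := fun z => by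
    have h' := congrArg (fun φ : (⨁ N) ⟶ ⨁ N => φ.app U z) (biproduct.total (f := N))
    simp only [sum_app, Scheme.Modules.Hom.comp_app] at h'
    exact h'.symm
  refine ⟨fun x y hxy => h.1 (funext fun i => ?_), fun z => ?_⟩
  · show (biproduct.π N i).app U (Ψ.app U x) = (biproduct.π N i).app U (Ψ.app U y)
    rw [hxy]
  · obtain ⟨x, hx⟩ := h.2 fun i => (biproduct.π N i).app U z
    refine ⟨x, ?_⟩
    rw [hid (Ψ.app U x), hid z]
    exact Finset.sum_congr rfl fun i _ => congrArg _ (congrFun hx i)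

end Biprod

variable {k : Type u} [Field k] {L : Type u} [Field L] [Algebra k L] [FiniteDimensional k L] [IsGalois k L]
  {X X' : Scheme.{u}} [X.Over (Spec (CommRingCat.of k))] [X'.Over (Spec (CommRingCat.of L))] (g : X' ⟶ X)
  (sq : IsPullback g (X' ↘ Spec (CommRingCat.of L)) (X ↘ Spec (CommRingCat.of k))
    (Spec.map (CommRingCat.ofHom (algebraMap k L))))

include sq in
/-- The pullback of the direct image is the sum of the conjugates. -/
theorem nonempty_pullback_pushforward_iso (s : (L ≃ₐ[k] L) → (X' ⟶ X'))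
    (hs : ∀ σ : L ≃ₐ[k] L, IsPullback (s σ) (X' ↘ Spec (CommRingCat.of L)) (X' ↘ Spec (CommRingCat.of L))
      (Spec.map (CommRingCat.ofHom (σ : L →+* L))))
    (hsg : ∀ σ, s σ ≫ g = g) {M : X'.Modules} (hM : Coh.IsQCoh M) :
    ∃ (d : ℕ) (e : Fin d ≃ (L ≃ₐ[k] L)),
      Nonempty ((Scheme.Modules.pullback g).obj ((Scheme.Modules.pushforward g).obj M) ≅
        ⨁ fun i => (Scheme.Modules.pullback (s (e i))).obj M) := by
  classical
  haveI := isAffineHom_bc k L g sq
  obtain ⟨ιb, hιb, a, b, hab⟩ := GalDesc.exists_delta k L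
  letI := hιb
  let N := (Scheme.Modules.pushforward g).obj M
  have hN : Coh.IsQCoh N := by
    haveI : M.IsQuasicoherent := hM
    exact QC.isQCoh_pushforward g
  have hle : ∀ (σ : L ≃ₐ[k] L) (V : X.Opens), g ⁻¹ᵁ V ≤ s σ ⁻¹ᵁ (g ⁻¹ᵁ V) := fun σ V => by
    rw [← Scheme.Hom.comp_preimage, hsg]
  have hge : ∀ (σ : L ≃ₐ[k] L) (V : X.Opens), s σ ⁻¹ᵁ (g ⁻¹ᵁ V) ≤ g ⁻¹ᵁ V := fun σ V => by
    rw [← Scheme.Hom.comp_preimage, hsg]
  let ρ : ∀ (σ : L ≃ₐ[k] L) (V : X.Opens), Γ(M, g ⁻¹ᵁ V) →+ Γ((Scheme.Modules.pullback (s σ)).obj M, g ⁻¹ᵁ V) :=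
    fun σ V => ModDesc.pullSectLE (s σ) M (g ⁻¹ᵁ V) (g ⁻¹ᵁ V) (hle σ V)
  have hρb : ∀ σ (V : X.affineOpens), Function.Bijective (ρ σ V.1) := by
    intro σ V
    have h1 := @bijective_pullSect L L _ _ (σ : L →+* L).toAlgebra X' X' _ _ (s σ) (hs σ) σ.bijective M hM
      (g ⁻¹ᵁ V.1) (V.2.preimage g)
    exact (bijective_res_eq _ (hle σ V.1) (hge σ V.1)).comp h1
  have hρs : ∀ σ (V : X.Opens) (c : L) (m : Γ(M, g ⁻¹ᵁ V)),
      ρ σ V (secRing L (g ⁻¹ᵁ V) c • m) = secRing L (g ⁻¹ᵁ V) (σ c) • ρ σ V m := by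
    intro σ V c m
    show res _ _ (OmegaSh.pullSect (s σ) M _ _) = _ • res _ _ (OmegaSh.pullSect (s σ) M _ _)
    rw [OmegaSh.pullSect_smul, res_smul]
    have h1 := @secRing_comm L L _ _ (σ : L →+* L).toAlgebra X' X' _ _ (s σ) (hs σ) (g ⁻¹ᵁ V) c
    rw [show ((s σ).app (g ⁻¹ᵁ V)) (secRing L (g ⁻¹ᵁ V) c) = secRing L (s σ ⁻¹ᵁ (g ⁻¹ᵁ V)) (σ c) from h1,
      resO_secRing]
  have hρl : ∀ σ (V : X.Opens) (r : Γ(X, V)) (m : Γ(M, g ⁻¹ᵁ V)),
      ρ σ V ((g.app V).hom r • m) = (g.app V).hom r • ρ σ V m := by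
    intro σ V r m
    refine (ModDesc.pullSectLE_smul (s σ) M _ _ (hle σ V) _ m).trans (congrArg (· • ρ σ V m) ?_)
    have h1 : g.app V ≫ (s σ).appLE (g ⁻¹ᵁ V) (g ⁻¹ᵁ V) (hle σ V) = g.app V := by
      simp only [g.app_eq_appLE, Scheme.Hom.appLE_comp_appLE, hsg]
    exact congr($(h1).hom r)
  have hγ : ∀ σ : L ≃ₐ[k] L, ∃ γ : N ⟶ (Scheme.Modules.pushforward g).obj ((Scheme.Modules.pullback (s σ)).obj M),
      ∀ (V : X.affineOpens) (m : Γ(M, g ⁻¹ᵁ V.1)), γ.app V.1 m = ρ σ V.1 m := fun σ => by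
    obtain ⟨γ, hγ⟩ := KosExt.exists_hom_affine N ((Scheme.Modules.pushforward g).obj ((Scheme.Modules.pullback (s σ)).obj M))
      (fun V =>
        { toFun := fun m => ρ σ V.1 m
          map_add' := fun m m' => map_add (ρ σ V.1) m m'
          map_smul' := fun r m => hρl σ V.1 r m })
      (fun U V h m => ModDesc.res_pullSectLE (s σ) M (g.preimage_mono h) (g.preimage_mono h) (hle σ U.1) (hle σ V.1) m)
    exact ⟨γ, fun V m => hγ V m⟩
  choose γ hγ using hγ
  let d := Fintype.card (L ≃ₐ[k] L)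
  let e : Fin d ≃ (L ≃ₐ[k] L) := (Fintype.equivFin _).symm
  let adj := Scheme.Modules.pullbackPushforwardAdjunction g
  let Φ : ∀ σ, (Scheme.Modules.pullback g).obj N ⟶ (Scheme.Modules.pullback (s σ)).obj M :=
    fun σ => (adj.homEquiv _ _).symm (γ σ)
  have hΦ : ∀ σ (V : X.affineOpens) (m : Γ(M, g ⁻¹ᵁ V.1)),
      (Φ σ).app (g ⁻¹ᵁ V.1) (OmegaSh.pullSect g N V.1 m) = ρ σ V.1 m := by
    intro σ V m
    rw [← hγ σ V m]
    have h1 : adj.unit.app N ≫ (Scheme.Modules.pushforward g).map (Φ σ) = γ σ := by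
      exact (Adjunction.homEquiv_unit (adj := adj) N _ (Φ σ)).symm.trans (Equiv.apply_symm_apply _ _)
    exact congr($(h1).app V.1 m)
  let Ψ : (Scheme.Modules.pullback g).obj N ⟶ ⨁ fun i => (Scheme.Modules.pullback (s (e i))).obj M :=
    biproduct.lift fun i => Φ (e i)
  refine ⟨d, e, ⟨@asIso _ _ _ _ Ψ ?_⟩⟩
  refine P1Split.isIso_of_cover (QC.isQCoh_pullback g hN) (Devissage.isQCoh_biproduct _ fun i => QC.isQCoh_pullback _ hM)
    Ψ (fun V : X.affineOpens => g ⁻¹ᵁ V.1) (fun V => V.2.preimage g) (fun x => ?_) fun V => ?_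
  · obtain ⟨U, hU, -⟩ := KosExt.exists_affine_le (O := (⊤ : X.Opens)) (x := g x) trivial
    exact ⟨U, hU⟩
  refine app_bijective_of_components _ Ψ _ ?_
  let W := g ⁻¹ᵁ V.1
  let P : Γ(M, W) →+ Γ((Scheme.Modules.pullback g).obj N, W) := (OmegaSh.pullSect g N V.1).hom
  have hΦb : ∀ σ (c : L) (m : Γ(M, W)), (Φ σ).app W (secRing L W c • P m) = ρ σ V.1 (secRing L W (σ.symm c) • m) := by
    intro σ c m
    rw [Scheme.Modules.Hom.app_smul, hρs, AlgEquiv.apply_symm_apply]
    exact congrArg (_ • ·) (hΦ σ V m)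
  let F : Γ((Scheme.Modules.pullback g).obj N, W) → ∀ σ : L ≃ₐ[k] L, Γ((Scheme.Modules.pullback (s σ)).obj M, W) :=
    fun z σ => (Φ σ).app W z
  have hFz : ∀ z i, (Ψ ≫ biproduct.π _ i).app W z = F z (e i) := fun z i => by rw [biproduct.lift_π]
  let ρi : ∀ σ, Γ((Scheme.Modules.pullback (s σ)).obj M, W) → Γ(M, W) := fun σ => Function.surjInv (hρb σ V).2
  have hρi : ∀ σ y, ρ σ V.1 (ρi σ y) = y := fun σ => Function.surjInv_eq (hρb σ V).2
  let G : (∀ σ : L ≃ₐ[k] L, Γ((Scheme.Modules.pullback (s σ)).obj M, W)) → Γ((Scheme.Modules.pullback g).obj N, W) :=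
    fun y => ∑ j, secRing L W (a j) • P (∑ τ, secRing L W (τ.symm (b j)) • ρi τ (y τ))
  have hFG : ∀ y, F (G y) = y := by
    intro y
    funext σ
    show (Φ σ).app W _ = _
    rw [map_sum]
    calc ∑ j, (Φ σ).app W (secRing L W (a j) • P (∑ τ, secRing L W (τ.symm (b j)) • ρi τ (y τ)))
        = ∑ j, ρ σ V.1 (∑ τ, secRing L W (σ.symm (a j) * τ.symm (b j)) • ρi τ (y τ)) := by
          refine Finset.sum_congr rfl fun j _ => ?_
          rw [hΦb, Finset.smul_sum]
          simp only [map_mul, mul_smul]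
      _ = ρ σ V.1 (∑ τ, secRing L W (∑ j, σ.symm (a j) * τ.symm (b j)) • ρi τ (y τ)) := by
          rw [← map_sum, Finset.sum_comm]
          simp only [map_sum, Finset.sum_smul]
      _ = y σ := by
          have hc : ∀ τ : L ≃ₐ[k] L, ∑ j, σ.symm (a j) * τ.symm (b j) = if τ = σ then 1 else 0 := by
            intro τ
            have h2 := congrArg σ.symm (hab (σ * τ⁻¹))
            have h3 : ∀ x, (σ * τ⁻¹) x = σ (τ.symm x) := fun x => rfl
            simp only [map_sum, map_mul, h3, AlgEquiv.symm_apply_apply] at h2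
            rw [h2]
            by_cases hτ : τ = σ
            · subst hτ; simp
            · have : σ * τ⁻¹ ≠ 1 := fun h => hτ (mul_inv_eq_one.1 h).symm
              simp [hτ, this]
          rw [Finset.sum_eq_single σ (fun τ _ hτ => by rw [hc, if_neg hτ, map_zero, zero_smul])
            (fun h => absurd (Finset.mem_univ σ) h), hc, if_pos rfl, map_one, one_smul, hρi]
  have hGadd : ∀ y y', G (y + y') = G y + G y' := by
    intro y y'
    have hi : ∀ τ, ρi τ (y τ + y' τ) = ρi τ (y τ) + ρi τ (y' τ) := fun τ =>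
      (hρb τ V).1 (by rw [map_add, hρi, hρi, hρi])
    simp only [G, Pi.add_apply, hi, smul_add, Finset.sum_add_distrib, map_add]
  have hGF : ∀ z, G (F z) = z := by
    refine gen_induction g sq hN V ?_ (fun z z' h h' => ?_) fun c (m : Γ(M, W)) => ?_
    · have h0 : ∀ τ, ρi τ 0 = 0 := fun τ => (hρb τ V).1 (by rw [hρi, map_zero])
      simp only [G, F, map_zero, h0, smul_zero, Finset.sum_const_zero]
    · rw [show F (z + z') = F z + F z' from funext fun σ => map_add ((Φ σ).app W).hom z z', hGadd, h, h']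
    have hi : ∀ τ, ρi τ (F (secRing L W c • P m) τ) = secRing L W (τ.symm c) • m := fun τ =>
      (hρb τ V).1 (by rw [hρi]; exact hΦb τ c m)
    show G (F (secRing L W c • P m)) = secRing L W c • P m
    simp only [G, hi, ← mul_smul, ← map_mul, ← Finset.sum_smul, ← map_sum]
    have htr : ∀ x : L, ∑ τ : L ≃ₐ[k] L, τ.symm x = algebraMap k L (Algebra.trace k L x) := fun x => by
      rw [trace_eq_sum_automorphisms]
      exact Equiv.sum_comp (Equiv.inv (L ≃ₐ[k] L)) fun τ => τ x
    simp only [← map_mul, htr]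
    have hk : ∀ (r : k), P (secRing L W (algebraMap k L r) • m) = secRing L W (algebraMap k L r) • P m := by
      intro r
      rw [← secRing_comm k L g sq V.1 r]
      exact OmegaSh.pullSect_smul g N V.1 (secRing k V.1 r) m
    simp only [hk, ← mul_smul, ← map_mul, ← Finset.sum_smul, ← map_sum]
    congr 2
    simp only [← htr, Finset.mul_sum, map_mul]
    rw [Finset.sum_comm]
    have hc : ∀ τ : L ≃ₐ[k] L, ∑ j, a j * (τ.symm (b j) * τ.symm c) = if τ = 1 then c else 0 := fun τ => by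
      simp only [← mul_assoc, ← Finset.sum_mul]
      rw [show (∑ j, a j * τ.symm (b j)) = _ from hab τ⁻¹]
      by_cases hτ : τ = 1
      · subst hτ; simp; rfl
      · simp [hτ]
    simp only [hc, Finset.sum_ite_eq', Finset.mem_univ, if_true]
  have hbij : Function.Bijective F := ⟨Function.LeftInverse.injective hGF, Function.RightInverse.surjective hFG⟩
  have : (fun (z : Γ((Scheme.Modules.pullback g).obj N, W)) i => (Ψ ≫ biproduct.π _ i).app W z) =
      (Equiv.piCongrLeft' (fun σ => Γ((Scheme.Modules.pullback (s σ)).obj M, W)) e.symm) ∘ F := by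
    funext z i
    exact hFz z i
  rw [this]
  exact (Equiv.bijective _).comp hbij

end Groth.Agent.KrullSch
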