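import Groth.Agent.KrullSch.Descent
import Groth.Agent.LocFree.Summand
import Groth.Agent.DQCoh.PerfCrit
import Groth.Agent.K0Coh.Basic
import Groth.Agent.ResDesc.ResProp
import Groth.Agent.QC.Coherent
import Groth.Agent.Devissage.Power
import Mathlib

/-! Modules of a given type after extension of the ground field. -/

set_option autoImplicit false
set_option backward.isDefEq.respectTransparency false
set_option backward.isDefEq.respectTransparency.types false
set_option linter.style.haveILetI false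

universe u

open CategoryTheory CategoryTheory.Limits AlgebraicGeometry TopologicalSpace Opposite

attribute [local instance] CategoryTheory.Abelian.hasFiniteBiproducts

namespace Groth.Agent.KrullSch

/-- A direct summand of a finite locally free module is finite locally free. -/
theorem isFinLocFree_retract {Y : Scheme.{u}} {M E : Y.Modules} (hE : FlatMod.IsFinLocFree E) (i : M ⟶ E)
    (r : E ⟶ M) (h : i ≫ r = 𝟙 M) : FlatMod.IsFinLocFree M := by
  refine DQCoh.isFinLocFree_of_local fun x => ?_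
  obtain ⟨U, n, hx, ⟨e⟩⟩ := hE x
  refine ⟨U, U.ι, inferInstance, ⟨x, hx⟩, rfl, LocFree.isFinLocFree_of_retract _ n
    ((Scheme.Modules.restrictFunctor U.ι).map i ≫ e.hom) (e.inv ≫ (Scheme.Modules.restrictFunctor U.ι).map r) ?_⟩
  rw [Category.assoc, e.hom_inv_id_assoc, ← Functor.map_comp, h, CategoryTheory.Functor.map_id]

variable {k : Type u} [Field k] {K : Type u} [Field K] [Algebra k K] [Algebra.IsAlgebraic k K] {X X' : Scheme.{u}}
  [X.Over (Spec (CommRingCat.of k))] [X'.Over (Spec (CommRingCat.of K))] [IsProper (X ↘ Spec (CommRingCat.of k))]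
  (g : X' ⟶ X)
  (sq : IsPullback g (X' ↘ Spec (CommRingCat.of K)) (X ↘ Spec (CommRingCat.of k))
    (Spec.map (CommRingCat.ofHom (algebraMap k K))))

include sq in
theorem isZero_of_isZero_pullback {E : X.Modules} (hE : Coh.IsCoh E)
    (h : IsZero ((Scheme.Modules.pullback g).obj E)) : IsZero E := by
  haveI : IsLocallyNoetherian X := LocallyOfFiniteType.isLocallyNoetherian (X ↘ Spec (CommRingCat.of k))
  obtain ⟨Z, hZ⟩ : ∃ Z : X.Modules, IsZero Z := HasZeroObject.zero
  haveI : (Scheme.Modules.pullback g).PreservesZeroMorphisms := inferInstance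
  obtain ⟨e⟩ := nonempty_iso_of_iso_pullback g sq hE (K0Coh.isCoh_of_isZero hZ)
    (h.iso ((Scheme.Modules.pullback g).map_isZero hZ))
  exact hZ.of_iso e

/-- The pullback of a power. -/
noncomputable def pullPowIso (E : X.Modules) (n : ℕ) :
    (Scheme.Modules.pullback g).obj (∐ fun _ : Fin n => E) ≅ ∐ fun _ : Fin n => (Scheme.Modules.pullback g).obj E :=
  haveI : PreservesColimitsOfSize.{0, 0} (Scheme.Modules.pullback g) :=
    (Scheme.Modules.pullbackPushforwardAdjunction g).leftAdjoint_preservesColimits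
  PreservesCoproduct.iso (Scheme.Modules.pullback g) (fun _ : Fin n => E)

/-- Rearranging iterated powers. -/
noncomputable def powSwap {C : Type*} [Category C] [HasFiniteCoproducts C] (W : C) (r s : ℕ) :
    (∐ fun _ : Fin s => ∐ fun _ : Fin r => W) ≅ ∐ fun _ : Fin r => ∐ fun _ : Fin s => W where
  hom := Sigma.desc fun j => Sigma.desc fun i => Sigma.ι (fun _ : Fin s => W) j ≫ Sigma.ι (fun _ : Fin r => ∐ fun _ : Fin s => W) i
  inv := Sigma.desc fun i => Sigma.desc fun j => Sigma.ι (fun _ : Fin r => W) i ≫ Sigma.ι (fun _ : Fin s => ∐ fun _ : Fin r => W) j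
  hom_inv_id := Sigma.hom_ext _ _ fun j => Sigma.hom_ext _ _ fun i => by simp
  inv_hom_id := Sigma.hom_ext _ _ fun i => Sigma.hom_ext _ _ fun j => by simp

include sq in
/-- Indecomposable modules of the same type are isomorphic. -/
theorem nonempty_iso_of_same_type {E E' : X.Modules} (hE : Coh.IsCoh E) (hE' : Coh.IsCoh E')
    (hEi : Indec E) (hE'i : Indec E') (W : X'.Modules) (r s : ℕ)
    (eE : (Scheme.Modules.pullback g).obj E ≅ ∐ fun _ : Fin r => W)
    (eE' : (Scheme.Modules.pullback g).obj E' ≅ ∐ fun _ : Fin s => W) : Nonempty (E ≅ E') := by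
  haveI : IsLocallyNoetherian X := LocallyOfFiniteType.isLocallyNoetherian (X ↘ Spec (CommRingCat.of k))
  have hz : ∀ {A : X.Modules} {n : ℕ}, Coh.IsCoh A → Indec A →
      ((Scheme.Modules.pullback g).obj A ≅ ∐ fun _ : Fin n => W) → 0 < n := by
    intro A n hA hAi e
    rcases Nat.eq_zero_or_pos n with rfl | h
    · refine absurd (isZero_of_isZero_pullback g sq hA (IsZero.of_iso ?_ e)) hAi.1
      exact (isZero_biproduct_of_isEmpty fun _ : Fin 0 => W).of_iso (biproduct.isoCoproduct _).symm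
    · exact h
  have hr := hz hE hEi eE
  have hs := hz hE' hE'i eE'
  have hcoh : ∀ {A : X.Modules} (n : ℕ), Coh.IsCoh A → Coh.IsCoh (∐ fun _ : Fin n => A) := fun n hA =>
    DCohShriek.isCoh_iso (biproduct.isoCoproduct _) (Devissage.isCoh_biproduct _ fun _ => hA)
  obtain ⟨θ⟩ := nonempty_iso_of_iso_pullback g sq (hcoh s hE) (hcoh r hE')
    (pullPowIso g E s ≪≫ Sigma.mapIso (fun _ => eE) ≪≫ powSwap W r s ≪≫ (Sigma.mapIso fun _ => eE'.symm) ≪≫
      (pullPowIso g E' r).symm)
  haveI := finite_end (k := k) hE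
  obtain ⟨e, he⟩ := exists_equiv k _ (fun _ : Fin s => E) (fun _ : Fin r => E') rfl (fun _ => hEi) (fun _ => hE'i)
    (fun _ => inferInstance) (biproduct.isoCoproduct _ ≪≫ θ ≪≫ (biproduct.isoCoproduct _).symm)
  exact he ⟨0, hs⟩

include sq in
/-- An isotypical module is a power of an indecomposable one. -/
theorem exists_iso_pow_indec [IsProper (X' ↘ Spec (CommRingCat.of K))] {E : X.Modules}
    (hE : FlatMod.IsFinLocFree E) (hE0 : ¬ IsZero E) (L : X'.Modules) (hL : Coh.IsCoh L) (hLi : Indec L) (r : ℕ)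
    (e : (Scheme.Modules.pullback g).obj E ≅ ∐ fun _ : Fin r => L) :
    ∃ (G : X.Modules) (n : ℕ), FlatMod.IsFinLocFree G ∧ Indec G ∧ Nonempty (E ≅ ∐ fun _ : Fin n => G) ∧
      ∃ t, Nonempty ((Scheme.Modules.pullback g).obj G ≅ ∐ fun _ : Fin t => L) := by
  classical
  haveI : IsLocallyNoetherian X := LocallyOfFiniteType.isLocallyNoetherian (X ↘ Spec (CommRingCat.of k))
  haveI : IsLocallyNoetherian X' := LocallyOfFiniteType.isLocallyNoetherian (X' ↘ Spec (CommRingCat.of K))
  have hEc : Coh.IsCoh E := K0Coh.isCoh_of_isFinLocFree hE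
  haveI := finite_end (k := k) hEc
  obtain ⟨n, Gs, hGs, ⟨a⟩⟩ := exists_decomposition k _ E le_rfl
  have hn : 0 < n := by
    rcases Nat.eq_zero_or_pos n with rfl | h
    · exact absurd ((isZero_biproduct_of_isEmpty Gs).of_iso a) hE0
    · exact h
  have hlf : ∀ i, FlatMod.IsFinLocFree (Gs i) := fun i =>
    isFinLocFree_retract hE (biproduct.ι Gs i ≫ a.inv) (a.hom ≫ biproduct.π Gs i) (by simp)
  have hGc : ∀ i, Coh.IsCoh (Gs i) := fun i => K0Coh.isCoh_of_isFinLocFree (hlf i)
  haveI : ∀ i, Module.Finite K (End ((Scheme.Modules.pullback g).obj (Gs i))) := fun i =>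
    finite_end (k := K) (QC.isCoh_pullback g (hGc i))
  haveI : PreservesColimitsOfSize.{0, 0} (Scheme.Modules.pullback g) :=
    (Scheme.Modules.pullbackPushforwardAdjunction g).leftAdjoint_preservesColimits
  choose m Hs hHs hb using fun i => exists_decomposition K _ ((Scheme.Modules.pullback g).obj (Gs i)) le_rfl
  let b := fun i => (hb i).some
  have big : (⨁ fun p : Σ i, Fin (m i) => Hs p.1 p.2) ≅ ⨁ fun _ : Fin r => L :=
    (biproductBiproductIso (fun i => Fin (m i)) Hs).symm ≪≫ (biproduct.mapIso fun i => (b i).symm) ≪≫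
      biproduct.isoCoproduct _ ≪≫ (PreservesCoproduct.iso (Scheme.Modules.pullback g) Gs).symm ≪≫
      (Scheme.Modules.pullback g).mapIso ((biproduct.isoCoproduct Gs).symm ≪≫ a.symm) ≪≫ e ≪≫
      (biproduct.isoCoproduct _).symm
  have hfin : ∀ p : Σ i, Fin (m i), Module.Finite K (End (Hs p.1 p.2)) := fun p =>
    finite_end_retract K (X := (Scheme.Modules.pullback g).obj (Gs p.1))
      (biproduct.ι (Hs p.1) p.2 ≫ (b p.1).inv) ((b p.1).hom ≫ biproduct.π (Hs p.1) p.2) (by simp)
  obtain ⟨eq, heq⟩ := exists_equiv K _ (fun p : Σ i, Fin (m i) => Hs p.1 p.2) (fun _ : Fin r => L) rfl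
    (fun p => hHs p.1 p.2) (fun _ => hLi) hfin big
  have htype : ∀ i, Nonempty ((Scheme.Modules.pullback g).obj (Gs i) ≅ ∐ fun _ : Fin (m i) => L) := fun i =>
    ⟨b i ≪≫ biproduct.mapIso (fun j => (heq ⟨i, j⟩).some) ≪≫ biproduct.isoCoproduct _⟩
  have hiso : ∀ i, Nonempty (Gs i ≅ Gs ⟨0, hn⟩) := fun i =>
    nonempty_iso_of_same_type g sq (hGc i) (hGc _) (hGs i) (hGs _) L _ _ (htype i).some (htype _).some
  exact ⟨Gs ⟨0, hn⟩, n, hlf _, hGs _,
    ⟨a ≪≫ biproduct.mapIso (fun i => (hiso i).some) ≪≫ biproduct.isoCoproduct _⟩, _, htype _⟩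

end Groth.Agent.KrullSch
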