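import Groth.Agent.KrullSch.Level
import Groth.Agent.KrullSch.GalPush
import Groth.Agent.KrullSch.Isotypical
import Groth.Agent.ResDesc.Main
import Mathlib

/-! Galois invariant locally free modules are multiples of descended ones. -/

set_option autoImplicit false
set_option backward.isDefEq.respectTransparency false
set_option backward.isDefEq.respectTransparency.types false
set_option linter.style.haveILetI false

universe u

open CategoryTheory CategoryTheory.Limits AlgebraicGeometry Opposite

attribute [local instance] CategoryTheory.Abelian.hasFiniteBiproducts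

noncomputable section

namespace Groth.Agent.KrullSch

open W4c1astiltbs12

variable {k : Type u} [Field k] {X : Scheme.{u}} (p : X ⟶ Spec (CommRingCat.of k)) [IsProper p]

/-- A Galois invariant finite locally free module has a multiple which descends. -/
theorem exists_pow_descends (K : Type u) [Field K] [Algebra k K] [IsGalois k K]
    (W : (W4bk4gw11416.baseChange p K).Modules) (hW : FlatMod.IsFinLocFree W)
    (hinv : ∀ σ : K ≃ₐ[k] K, Nonempty ((Scheme.Modules.pullback (galAct p K σ)).obj W ≅ W)) :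
    ∃ (N : X.Modules) (d : ℕ), 0 < d ∧ FlatMod.IsFinLocFree N ∧ Nonempty (bcMod p K N ≅ pow W d) := by
  haveI : CompactSpace X := QuasiCompact.compactSpace_of_compactSpace p
  haveI : QuasiSeparatedSpace X := quasiSeparatedSpace_of_quasiSeparated p
  obtain ⟨L, hLf, hLg, WL, hWL, ⟨a⟩⟩ := exists_galois_level p K W hW
  haveI := hLf
  haveI := hLg
  letI : X.Over (Spec (CommRingCat.of k)) := ⟨p⟩
  letI : (W4bk4gw11416.baseChange p L).Over (Spec (CommRingCat.of L)) := ⟨W4bk4gw11416.baseChangeTo p L⟩
  letI : (W4bk4gw11416.baseChange p K).Over (Spec (CommRingCat.of K)) := ⟨W4bk4gw11416.baseChangeTo p K⟩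
  haveI : IsProper ((W4bk4gw11416.baseChange p L) ↘ Spec (CommRingCat.of L)) :=
    inferInstanceAs (IsProper (Limits.pullback.snd p (Spec.map (CommRingCat.ofHom (algebraMap k L)))))
  haveI : IsLocallyNoetherian (W4bk4gw11416.baseChange p L) :=
    LocallyOfFiniteType.isLocallyNoetherian ((W4bk4gw11416.baseChange p L) ↘ Spec (CommRingCat.of L))
  let g := proj p L
  let q := levelMap p L K
  have hWLc : Coh.IsCoh WL := K0Coh.isCoh_of_isFinLocFree hWL
  have hσ : ∀ σ : L ≃ₐ[k] L, Nonempty ((Scheme.Modules.pullback (galAct p L σ)).obj WL ≅ WL) := by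
    intro σ
    let τ : K ≃ₐ[k] K := σ.liftNormal K
    obtain ⟨b⟩ := hinv τ
    have hc := galAct_levelMap p L σ K τ fun x => σ.liftNormal_commutes K x
    exact nonempty_iso_of_iso_pullback (k := L) (K := K) q (isPullback_levelMap p L K) (QC.isCoh_pullback _ hWLc) hWLc
      ((Scheme.Modules.pullbackComp q (galAct p L σ)).app WL ≪≫ (Scheme.Modules.pullbackCongr hc.symm).app WL ≪≫
        ((Scheme.Modules.pullbackComp (galAct p K τ) q).app WL).symm ≪≫
        (Scheme.Modules.pullback (galAct p K τ)).mapIso a ≪≫ b ≪≫ a.symm)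
  obtain ⟨d, e, ⟨θ⟩⟩ := nonempty_pullback_pushforward_iso (k := k) (L := L) g (IsPullback.of_hasPullback _ _) (galAct p L)
    (isPullback_galAct p L) (galAct_proj p L) hWLc.1
  haveI : IsFinite (Spec.map (CommRingCat.ofHom (algebraMap k L))) :=
    (IsFinite.SpecMap_iff _).2 (RingHom.finite_algebraMap.2 inferInstance)
  haveI : Flat (Spec.map (CommRingCat.ofHom (algebraMap k L))) :=
    (HasRingHomProperty.Spec_iff (P := @Flat)).2 (RingHom.flat_algebraMap_iff.2 inferInstance)
  haveI : LocallyOfFinitePresentation (Spec.map (CommRingCat.ofHom (algebraMap k L))) :=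
    (HasRingHomProperty.Spec_iff (P := @LocallyOfFinitePresentation)).2
      (RingHom.finitePresentation_algebraMap.2 (Algebra.FinitePresentation.of_finiteType.1 inferInstance))
  haveI : IsFinite g := MorphismProperty.pullback_fst (P := @IsFinite) _ _ inferInstance
  haveI : Flat g := MorphismProperty.pullback_fst (P := @Flat) _ _ inferInstance
  haveI : LocallyOfFinitePresentation g :=
    MorphismProperty.pullback_fst (P := @LocallyOfFinitePresentation) _ _ inferInstance
  refine ⟨(Scheme.Modules.pushforward g).obj WL, d, Fin.pos_iff_nonempty.2 ⟨e.symm 1⟩, ResDesc.isFinLocFree_push g hWL, ⟨?_⟩⟩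
  haveI : PreservesColimitsOfSize.{0, 0} (Scheme.Modules.pullback q) :=
    (Scheme.Modules.pullbackPushforwardAdjunction q).leftAdjoint_preservesColimits
  exact (Scheme.Modules.pullbackCongr (levelMap_proj p L K).symm).app _ ≪≫
    ((Scheme.Modules.pullbackComp q g).app _).symm ≪≫
    (Scheme.Modules.pullback q).mapIso (θ ≪≫ (biproduct.mapIso fun i => (hσ (e i)).some) ≪≫ biproduct.isoCoproduct _) ≪≫
    pullPowIso q WL d ≪≫ Sigma.mapIso fun _ => a

/-- A Galois invariant indecomposable module is the type of an indecomposable module. -/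
theorem exists_indec_descends (K : Type u) [Field K] [Algebra k K] [IsGalois k K]
    (W : (W4bk4gw11416.baseChange p K).Modules) (hW : FlatMod.IsFinLocFree W) (hWi : Indec W)
    (hinv : ∀ σ : K ≃ₐ[k] K, Nonempty ((Scheme.Modules.pullback (galAct p K σ)).obj W ≅ W)) :
    ∃ (M : X.Modules) (r : ℕ), FlatMod.IsFinLocFree M ∧ Indec M ∧ 0 < r ∧ Nonempty (bcMod p K M ≅ pow W r) := by
  letI : X.Over (Spec (CommRingCat.of k)) := ⟨p⟩
  haveI : IsProper (X ↘ Spec (CommRingCat.of k)) := inferInstanceAs (IsProper p)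
  letI : (W4bk4gw11416.baseChange p K).Over (Spec (CommRingCat.of K)) := ⟨W4bk4gw11416.baseChangeTo p K⟩
  haveI : IsProper ((W4bk4gw11416.baseChange p K) ↘ Spec (CommRingCat.of K)) :=
    inferInstanceAs (IsProper (Limits.pullback.snd p (Spec.map (CommRingCat.ofHom (algebraMap k K)))))
  haveI : IsLocallyNoetherian (W4bk4gw11416.baseChange p K) :=
    LocallyOfFiniteType.isLocallyNoetherian ((W4bk4gw11416.baseChange p K) ↘ Spec (CommRingCat.of K))
  obtain ⟨N, d, hd, hN, ⟨e⟩⟩ := exists_pow_descends p K W hW hinv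
  have hzero : ∀ {r : ℕ}, 0 < r → ¬ IsZero (pow W r) := fun {r} hr h =>
    hWi.1 ((IsZero.iff_id_eq_zero W).2 (by
      let i0 : Fin r := ⟨0, hr⟩
      have hs : Sigma.ι (fun _ : Fin r => W) i0 ≫ Sigma.desc (fun _ : Fin r => 𝟙 W) = 𝟙 W := Sigma.ι_desc _ _
      rw [← hs, h.eq_of_tgt (Sigma.ι (fun _ : Fin r => W) i0) 0, zero_comp]))
  have hN0 : ¬ IsZero N := fun h => hzero hd (IsZero.of_iso ((Scheme.Modules.pullback (proj p K)).map_isZero h) e.symm)
  obtain ⟨M, n, hM, hMi, -, t, ⟨et⟩⟩ := exists_iso_pow_indec (k := k) (K := K) (proj p K) (IsPullback.of_hasPullback _ _) hN hN0 W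
    (K0Coh.isCoh_of_isFinLocFree hW) hWi d e
  refine ⟨M, t, hM, hMi, ?_, ⟨et⟩⟩
  rcases Nat.eq_zero_or_pos t with rfl | h
  · haveI : IsLocallyNoetherian X := LocallyOfFiniteType.isLocallyNoetherian p
    refine absurd (isZero_of_isZero_pullback (proj p K) (IsPullback.of_hasPullback _ _) (K0Coh.isCoh_of_isFinLocFree hM)
      (IsZero.of_iso ?_ et)) hMi.1
    exact (isZero_biproduct_of_isEmpty fun _ : Fin 0 => W).of_iso (biproduct.isoCoproduct _).symm
  · exact h

end Groth.Agent.KrullSch
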