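import Groth.Agent.KrullSch.UnivAlg
import Groth.Agent.KrullSch.BaseChange
import Groth.Agent.PBundle.TopPower
import Groth.Agent.QC.SubSheaf
import Groth.Agent.QC.Closure
import Groth.Agent.LocFree.Basic
import Mathlib

/-! The universal quotient bundle of a Severi–Brauer scheme. -/

set_option autoImplicit false
set_option backward.isDefEq.respectTransparency false
set_option backward.isDefEq.respectTransparency.types false
set_option linter.style.haveILetI false
set_option maxHeartbeats 1000000

universe u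

open CategoryTheory CategoryTheory.Limits AlgebraicGeometry TopologicalSpace
open scoped TensorProduct
open Module
open Groth.Agent.QC (res resO res_res resO_resO res_self res_smul app_res)
open Groth.Agent.GrassRep (inc inc_tmul inc_mem_map)

noncomputable section

namespace Groth.Agent.KrullSch

namespace Univ

variable {k : Type u} [Field k] {A : Type u} [Ring A] [Algebra k A] {c : ℕ} {X : Scheme.{u}}
  [X.Over (Spec (CommRingCat.of k))] (b : BrSev.SBStr k A c (X ↘ Spec (CommRingCat.of k)))
  {m : ℕ} (β : Basis (Fin m) k A)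

/-- Coordinates of sections of the free module. -/
def crd (O : X.Opens) : Γ(FlatMod.freeMod X m, O) ≃ₗ[Γ(X, O)] (Fin m → Γ(X, O)) :=
  ((PBundle.isFrame_bv X m).equiv le_top).symm

theorem crd_res {O' O : X.Opens} (h : O' ≤ O) (s : Γ(FlatMod.freeMod X m, O)) :
    crd O' (res (FlatMod.freeMod X m) h s) = fun i => resO X h (crd O s i) :=
  funext fun i => PBundle.coords_res (PBundle.isFrame_bv X m) h le_top s i

theorem crd_bv (O : X.Opens) (i : Fin m) :
    crd O (res (FlatMod.freeMod X m) le_top (PBundle.bv X i)) = Pi.single i 1 := by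
  classical
  funext j
  rw [crd, TMul.IsFrame.equiv_symm_res, Pi.single_apply]
  simp [eq_comm]

/-- The annihilator of the point on an affine open. -/
abbrev ann (V : X.affineOpens) : Submodule Γ(X, V.1) (Fin m → Γ(X, V.1)) :=
  perp β (idl b (𝟙 X) V).1.toSubmodule

theorem resO_mem_ann {V' V : X.affineOpens} (h : V'.1 ≤ V.1) {η : Fin m → Γ(X, V.1)} (hη : η ∈ ann b β V) :
    (fun i => resO X h (η i)) ∈ ann b β V' := by
  show _ ∈ perp β _
  rw [idl_res b (𝟙 X) h]
  exact map_mem_perp β _ (resAlg (k := k) h) hη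

/-- The sections orthogonal to the universal left ideal. -/
def sub : QC.Sub (FlatMod.freeMod X m) where
  obj O :=
    { carrier := {s | ∀ (V : X.affineOpens) (h : V.1 ≤ O), crd V.1 (res (FlatMod.freeMod X m) h s) ∈ ann b β V}
      zero_mem' := fun V h => by rw [map_zero, map_zero]; exact zero_mem _
      add_mem' := fun {s t} hs ht V h => by rw [map_add, map_add]; exact add_mem (hs V h) (ht V h)
      smul_mem' := fun r s hs V h => by rw [res_smul, map_smul]; exact Submodule.smul_mem _ _ (hs V h) }
  res_mem {O' O} h {s} hs V hV := by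
    rw [res_res]
    exact hs V (hV.trans h)
  local' {O} s hs V hV x hx := by
    refine TopCat.Presheaf.section_ext X.sheaf V.1 _ _ fun t ht => ?_
    obtain ⟨W, hW, htW, hsW⟩ := hs t (hV ht)
    obtain ⟨V', htV', hle⟩ := KosExt.exists_affine_le (O := W ⊓ V.1) ⟨htW, ht⟩
    have hV'V : V'.1 ≤ V.1 := hle.trans inf_le_right
    have h1 := hsW V' (hle.trans inf_le_left)
    rw [res_res] at h1
    have h2 : inc (resAlg (k := k) hV'V) x ∈ (idl b (𝟙 X) V').1.toSubmodule := by
      rw [idl_res b (𝟙 X) hV'V]
      exact inc_mem_map _ _ hx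
    have h3 := h1 _ h2
    have h4 : crd V'.1 (res (FlatMod.freeMod X m) ((hle.trans inf_le_left).trans hW) s) =
        fun i => resAlg (k := k) hV'V (crd V.1 (res (FlatMod.freeMod X m) hV s) i) := by
      rw [show (fun i => resAlg (k := k) hV'V (crd V.1 (res (FlatMod.freeMod X m) hV s) i)) =
        fun i => resO X hV'V (crd V.1 (res (FlatMod.freeMod X m) hV s) i) from rfl, ← crd_res, res_res]
    rw [h4, pairB_inc] at h3
    have h5 := congrArg (X.presheaf.germ V'.1 t htV') h3
    rw [map_zero] at h5
    rw [map_zero]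
    refine Eq.trans ?_ h5
    exact (TopCat.Presheaf.germ_res_apply X.presheaf (homOfLE hV'V) t htV' _).symm

theorem mem_sub_affine (V : X.affineOpens) (s : Γ(FlatMod.freeMod X m, V.1)) :
    s ∈ (sub b β).obj V.1 ↔ crd V.1 s ∈ ann b β V :=
  ⟨fun h => by simpa [res_self] using h V le_rfl, fun h V' hle => by rw [crd_res]; exact resO_mem_ann b β hle h⟩

theorem isQCoh_sub : Coh.IsQCoh (sub b β).toModules := by
  refine QC.isQCoh_iff_isLoc.2 fun U => ⟨fun f t => ?_, fun f s hs => ?_⟩
  · let D : X.affineOpens := ⟨X.basicOpen f, U.2.basicOpen f⟩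
    have hD : D.1 ≤ U.1 := X.basicOpen_le f
    have ht := (mem_sub_affine b β D _).1 (show (sub b β).obj D.1 from t).2
    change _ ∈ perp β _ at ht
    rw [idl_res b (𝟙 X) hD] at ht
    have ht' := perp_map_le_span β _ (resAlg (k := k) hD) ht
    suffices key : ∀ η ∈ Submodule.span Γ(X, D.1)
        ((fun (η : Fin m → Γ(X, U.1)) i => resAlg (k := k) hD (η i)) ''
          (perp β (idl b (𝟙 X) U).1.toSubmodule : Set (Fin m → Γ(X, U.1)))),
        ∃ (n : ℕ) (η' : Fin m → Γ(X, U.1)), η' ∈ ann b β U ∧
          ∀ i, resO X hD (η' i) = resO X hD f ^ n * η i by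
      obtain ⟨n, η', hη', he⟩ := key _ ht'
      refine ⟨n, ⟨(crd U.1).symm η', (mem_sub_affine b β U _).2 (by rw [LinearEquiv.apply_symm_apply]; exact hη')⟩,
        Subtype.ext ((crd D.1).injective ?_)⟩
      show crd D.1 (res (FlatMod.freeMod X m) hD ((crd U.1).symm η')) = crd D.1 (resO X hD f ^ n • _)
      rw [crd_res, LinearEquiv.apply_symm_apply, map_smul]
      funext i
      exact he i
    intro η hη
    induction hη using Submodule.span_induction with
    | mem η hη => obtain ⟨η, h, rfl⟩ := hη; exact ⟨0, η, h, fun i => by rw [pow_zero, one_mul]; rfl⟩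
    | zero => exact ⟨0, 0, zero_mem _, fun i => by simp⟩
    | add η₁ η₂ _ _ h₁ h₂ =>
      obtain ⟨n₁, a₁, ha₁, e₁⟩ := h₁
      obtain ⟨n₂, a₂, ha₂, e₂⟩ := h₂
      refine ⟨n₁ + n₂, f ^ n₂ • a₁ + f ^ n₁ • a₂, add_mem (Submodule.smul_mem _ _ ha₁) (Submodule.smul_mem _ _ ha₂),
        fun i => ?_⟩
      simp only [Pi.add_apply, Pi.smul_apply, smul_eq_mul, map_add, map_mul, map_pow, e₁, e₂]
      ring
    | smul r η _ h =>
      obtain ⟨n, a, ha, e⟩ := h
      haveI := U.2.isLocalization_basicOpen f
      obtain ⟨p, a', e'⟩ := IsLocalization.Away.surj f r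
      refine ⟨p + n, a' • a, Submodule.smul_mem _ _ ha, fun i => ?_⟩
      have e'' : r * resO X hD f ^ p = resO X hD a' := e'
      simp only [Pi.smul_apply, smul_eq_mul, map_mul, e, ← e'']
      ring
  · obtain ⟨n, hn⟩ := ((QC.isQCoh_iff_isLoc.1 (LocFree.isQCoh_freeMod X m)) U).exists_pow_smul_eq_zero f
      (show (sub b β).obj U.1 from s).1 (congrArg Subtype.val hs)
    exact ⟨n, Subtype.ext hn⟩

/-- The universal quotient. -/
def quot : X.Modules := cokernel (sub b β).ι

/-- The projection to the universal quotient. -/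
def proj : FlatMod.freeMod X m ⟶ quot b β := cokernel.π (sub b β).ι

theorem isQCoh_quot : Coh.IsQCoh (quot b β) :=
  QC.isQCoh_cokernel (isQCoh_sub b β) (LocFree.isQCoh_freeMod X m) _

instance : Epi (proj b β) := inferInstanceAs (Epi (cokernel.π _))

theorem proj_surjective (V : X.affineOpens) : Function.Surjective ((proj b β).app V.1) :=
  QC.app_surjective_of_epi V.2 (LocFree.isQCoh_freeMod X m) (isQCoh_quot b β) (proj b β)

theorem proj_eq_zero (V : X.affineOpens) (s : Γ(FlatMod.freeMod X m, V.1)) :
    (proj b β).app V.1 s = 0 ↔ crd V.1 s ∈ ann b β V := by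
  rw [← mem_sub_affine b β, ← QC.Sub.range_ι_app]
  refine ⟨fun h => ?_, ?_⟩
  · obtain ⟨z, rfl⟩ := PBundle.exists_kernel_sect (proj b β) s h
    refine ⟨(Abelian.monoLift (sub b β).ι (kernel.ι (proj b β)) (kernel.condition _)).app V.1 z, ?_⟩
    exact congrArg (fun ψ : kernel (proj b β) ⟶ FlatMod.freeMod X m => ψ.app V.1 z)
      (Abelian.monoLift_comp (sub b β).ι (kernel.ι (proj b β)) (kernel.condition _))
  · rintro ⟨z, rfl⟩
    exact congrArg (fun ψ : (sub b β).toModules ⟶ quot b β => ψ.app V.1 z) (cokernel.condition (sub b β).ι)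

/-- The images of coordinates on an affine open. -/
def toQuot (V : X.affineOpens) : (Fin m → Γ(X, V.1)) →ₗ[Γ(X, V.1)] Γ(quot b β, V.1) :=
  ({ toFun := fun s => (proj b β).app V.1 s
     map_add' := map_add _
     map_smul' := Scheme.Modules.Hom.app_smul (proj b β) } :
    Γ(FlatMod.freeMod X m, V.1) →ₗ[Γ(X, V.1)] Γ(quot b β, V.1)).comp (crd V.1).symm.toLinearMap

theorem toQuot_surjective (V : X.affineOpens) : Function.Surjective (toQuot b β V) :=
  (proj_surjective b β V).comp (crd V.1).symm.surjective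

theorem ker_toQuot (V : X.affineOpens) : LinearMap.ker (toQuot b β V) = ann b β V := by
  ext η
  rw [LinearMap.mem_ker]
  show (proj b β).app V.1 ((crd V.1).symm η) = 0 ↔ _
  rw [proj_eq_zero, LinearEquiv.apply_symm_apply]

/-- The sections of the universal quotient on an affine open. -/
def sectEquiv (V : X.affineOpens) : ((Fin m → Γ(X, V.1)) ⧸ ann b β V) ≃ₗ[Γ(X, V.1)] Γ(quot b β, V.1) :=
  (Submodule.quotEquivOfEq _ _ (ker_toQuot b β V).symm).trans
    ((toQuot b β V).quotKerEquivOfSurjective (toQuot_surjective b β V))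

theorem isFinLocFree_quot : FlatMod.IsFinLocFree (quot b β) := by
  refine LocFree.isFinLocFree_of_affine_projective (isQCoh_quot b β) fun x => ?_
  obtain ⟨U, hxU, -⟩ := KosExt.exists_affine_le (X := X) (O := ⊤) (x := x) trivial
  haveI := perp_projective β (idl b (𝟙 X) U).1
  haveI : Module.Projective Γ(X, U.1) Γ(quot b β, U.1) := Module.Projective.of_equiv (sectEquiv b β U)
  haveI : Module.Finite Γ(X, U.1) Γ(quot b β, U.1) := Module.Finite.equiv (sectEquiv b β U)
  exact ⟨U.1, U.2, hxU, Module.finitePresentation_of_projective _ _, inferInstance⟩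

/-- The transpose of a left multiplication. -/
def tr {R : Type u} [CommRing R] [Algebra k R] (a : A) : (Fin m → R) →ₗ[R] (Fin m → R) :=
  LinearMap.pi fun j => (pairB (R := R) β).flip ((1 : R) ⊗ₜ[k] (a * β j))

theorem pairB_tr {R : Type u} [CommRing R] [Algebra k R] (a : A) (η : Fin m → R) (x : R ⊗[k] A) :
    pairB β (tr β a η) x = pairB β η (((1 : R) ⊗ₜ[k] a) * x) := by
  conv_rhs => rw [← sum_repr_base β x]
  rw [pairB_apply, Finset.mul_sum, map_sum]
  refine Finset.sum_congr rfl fun j _ => ?_
  rw [mul_smul_comm, map_smul, Algebra.TensorProduct.tmul_mul_tmul, one_mul, smul_eq_mul, mul_comm]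
  rfl

theorem tr_mul {R : Type u} [CommRing R] [Algebra k R] (a a' : A) (η : Fin m → R) :
    tr β (a * a') η = tr β a' (tr β a η) := funext fun j => by
  show pairB β η ((1 : R) ⊗ₜ[k] (a * a' * β j)) = pairB β (tr β a η) ((1 : R) ⊗ₜ[k] (a' * β j))
  rw [pairB_tr, Algebra.TensorProduct.tmul_mul_tmul, one_mul, mul_assoc]

/-- The transpose of left multiplication on the free module. -/
theorem exists_trHom (a : A) : ∃ φ : FlatMod.freeMod X m ⟶ FlatMod.freeMod X m,
    ∀ (U : X.affineOpens) (s : Γ(FlatMod.freeMod X m, U.1)), crd U.1 (φ.app U.1 s) = tr β a (crd U.1 s) := by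
  obtain ⟨φ, hφ⟩ := KosExt.exists_hom_affine (FlatMod.freeMod X m) (FlatMod.freeMod X m)
    (fun U => ((crd U.1).symm.toLinearMap.comp (tr β a)).comp (crd U.1).toLinearMap) (fun U V h s => by
      apply (crd V.1).injective
      show crd V.1 (res _ h ((crd U.1).symm (tr β a (crd U.1 s)))) =
        crd V.1 ((crd V.1).symm (tr β a (crd V.1 (res _ h s))))
      rw [crd_res, LinearEquiv.apply_symm_apply, LinearEquiv.apply_symm_apply, crd_res]
      funext j
      show resAlg (k := k) h (pairB β (crd U.1 s) ((1 : Γ(X, U.1)) ⊗ₜ[k] (a * β j))) =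
        pairB β (fun i => resAlg (k := k) h (crd U.1 s i)) ((1 : Γ(X, V.1)) ⊗ₜ[k] (a * β j))
      rw [← pairB_inc, inc_tmul, map_one])
  exact ⟨φ, fun U s => by rw [hφ]; exact LinearEquiv.apply_symm_apply _ _⟩

/-- The action on the free module. -/
def trHom (a : A) : FlatMod.freeMod X m ⟶ FlatMod.freeMod X m := (exists_trHom β a).choose

theorem trHom_spec (a : A) (U : X.affineOpens) (s : Γ(FlatMod.freeMod X m, U.1)) :
    crd U.1 ((trHom β a).app U.1 s) = tr β a (crd U.1 s) := (exists_trHom β a).choose_spec U s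

/-- The action on the universal quotient. -/
def act (a : A) : quot b β ⟶ quot b β :=
  cokernel.desc (sub b β).ι (trHom β a ≫ proj b β) (KosExt.hom_ext_affine fun U s => by
    show (proj b β).app U.1 ((trHom β a).app U.1 ((sub b β).ι.app U.1 s)) = 0
    rw [proj_eq_zero, trHom_spec]
    intro x hx
    rw [pairB_tr]
    exact (mem_sub_affine b β U _).1 (show (sub b β).obj U.1 from s).2 _ ((idl b (𝟙 X) U).2 _ _ hx))

theorem proj_act (a : A) : proj b β ≫ act b β a = trHom β a ≫ proj b β := cokernel.π_desc _ _ _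

theorem hom_ext_crd {φ ψ : FlatMod.freeMod X m ⟶ FlatMod.freeMod X m}
    (h : ∀ (U : X.affineOpens) s, crd U.1 (φ.app U.1 s) = crd U.1 (ψ.app U.1 s)) : φ = ψ :=
  KosExt.hom_ext_affine fun U s => (crd U.1).injective (h U s)

/-- The opposite algebra acts on the universal quotient. -/
def actHom : Aᵐᵒᵖ →ₐ[k] End (quot b β) :=
  have h1 : trHom β (1 : A) = 𝟙 (FlatMod.freeMod X m) := hom_ext_crd fun U s => by
    rw [trHom_spec]
    funext j
    show pairB β (crd U.1 s) ((1 : Γ(X, U.1)) ⊗ₜ[k] (1 * β j)) = _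
    rw [one_mul, pairB_basis]
    rfl
  have hmul : ∀ a a' : A, trHom β (a * a') = trHom β a ≫ trHom β a' := fun a a' =>
    hom_ext_crd (X := X) fun U s => by
      rw [trHom_spec, tr_mul, ← trHom_spec β a U s, ← trHom_spec β a' U]
      rfl
  have hadd : ∀ a a' : A, trHom β (a + a') = trHom β a + trHom β a' := fun a a' =>
    hom_ext_crd (X := X) fun U s => by
      show crd U.1 ((trHom β (a + a')).app U.1 s) = crd U.1 ((trHom β a).app U.1 s + (trHom β a').app U.1 s)
      rw [map_add, trHom_spec, trHom_spec, trHom_spec]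
      funext j
      show pairB β (crd U.1 s) ((1 : Γ(X, U.1)) ⊗ₜ[k] ((a + a') * β j)) = _
      rw [add_mul, TensorProduct.tmul_add, map_add]
      rfl
  have hsmul : ∀ (r : k), trHom β (algebraMap k A r) = r • 𝟙 (FlatMod.freeMod X m) := fun r =>
    hom_ext_crd (X := X) fun U s => by
      rw [trHom_spec, hom_smul_app, map_smul]
      funext j
      show pairB β (crd U.1 s) ((1 : Γ(X, U.1)) ⊗ₜ[k] (algebraMap k A r * β j)) = W7Cech.secRing k U.1 r * crd U.1 s j
      rw [← Algebra.smul_def, TensorProduct.tmul_smul, ← algebraMap_smul Γ(X, U.1) r, map_smul, pairB_basis]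
      rfl
  { toFun := fun a => act b β a.unop
    map_one' := by
      show act b β 1 = 𝟙 _
      rw [← cancel_epi (proj b β), proj_act, h1, Category.id_comp, Category.comp_id]
    map_mul' := fun a a' => by
      show act b β (a'.unop * a.unop) = act b β a'.unop ≫ act b β a.unop
      rw [← cancel_epi (proj b β), proj_act, hmul, ← Category.assoc (proj b β), proj_act, Category.assoc,
        Category.assoc, proj_act]
    map_zero' := by
      show act b β 0 = 0
      have h0 : trHom (X := X) β (0 : A) = 0 := add_eq_left.1 ((hadd 0 0).symm.trans (congrArg _ (add_zero 0)))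
      rw [← cancel_epi (proj b β), proj_act, h0, zero_comp, comp_zero]
    map_add' := fun a a' => by
      show act b β (a.unop + a'.unop) = act b β a.unop + act b β a'.unop
      rw [← cancel_epi (proj b β), proj_act, hadd, Preadditive.add_comp, Preadditive.comp_add, proj_act, proj_act]
    commutes' := fun r => by
      show act b β (algebraMap k A r) = r • 𝟙 _
      rw [← cancel_epi (proj b β), proj_act, hsmul, Linear.smul_comp, Category.id_comp, Linear.comp_smul,
        Category.comp_id] }

/-- The generating sections. -/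
def gens (i : Fin m) : Γ(quot b β, ⊤) := (proj b β).app ⊤ (PBundle.bv X i)

end Univ

end Groth.Agent.KrullSch
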