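import Groth.Agent.KrullSch.SatModule
import Groth.Agent.KrullSch.UnivQuot
import Groth.Agent.RegBlow.Main
import Groth.Agent.W7Strat.Frame
import Groth.Agent.CSALib.Separable
import Mathlib

/-! A locally free module over an algebra split by the function field. -/

set_option autoImplicit false
set_option backward.isDefEq.respectTransparency false
set_option backward.isDefEq.respectTransparency.types false
set_option linter.style.haveILetI false
set_option maxHeartbeats 1000000

universe u

open CategoryTheory CategoryTheory.Limits AlgebraicGeometry TopologicalSpace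
open scoped TensorProduct nonZeroDivisors
open Groth.Agent.QC (res resO res_smul res_res res_self app_res resO_resO)
open Groth.Agent.W7Cech (secRing)

attribute [local instance] Curv2.stalkAlgebra

noncomputable section

namespace Groth.Agent.KrullSch

open Univ (crd crd_res)

namespace Lat

variable {k : Type u} [Field k] {X : Scheme.{u}} [X.Over (Spec (CommRingCat.of k))] [IsIntegral X] {N : ℕ}

theorem generic_mem (O : X.Opens) [Nonempty O] : genericPoint X ∈ O :=
  (((genericPoint_spec X).mem_open_set_iff O.isOpen).mpr (by simpa using ‹Nonempty O›))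

/-- Values at the generic point. -/
def ev (O : X.Opens) (h : genericPoint X ∈ O) : Γ(X, O) →+* X.functionField :=
  (X.presheaf.germ O (genericPoint X) h).hom

theorem ev_res {O' O : X.Opens} (hle : O' ≤ O) (h : genericPoint X ∈ O') (a : Γ(X, O)) :
    ev O' h (resO X hle a) = ev O (hle h) a :=
  X.presheaf.germ_res_apply _ _ _ _

/-- The coordinates of a section at the generic point. -/
def gen (O : X.Opens) (h : genericPoint X ∈ O) (s : Γ(FlatMod.freeMod X N, O)) : Fin N → X.functionField :=
  fun i => ev O h (crd O s i)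

theorem gen_res {O' O : X.Opens} (hle : O' ≤ O) (h : genericPoint X ∈ O') (s : Γ(FlatMod.freeMod X N, O)) :
    gen O' h (res (FlatMod.freeMod X N) hle s) = gen O (hle h) s := funext fun i => by
  show ev O' h (crd O' _ i) = _
  rw [crd_res, ev_res hle h]
  rfl

variable (J : Submodule X.functionField (Fin N → X.functionField))

/-- The sections lying in a subspace at the generic point. -/
def sub : QC.Sub (FlatMod.freeMod X N) where
  obj O :=
    { carrier := {s | ∀ h : genericPoint X ∈ O, gen O h s ∈ J}
      zero_mem' := fun h => by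
        convert J.zero_mem using 1
        funext i
        simp [gen]
      add_mem' := fun {s t} hs ht h => by
        convert J.add_mem (hs h) (ht h) using 1
        funext i
        simp [gen]
      smul_mem' := fun r s hs h => by
        convert J.smul_mem (ev O h r) (hs h) using 1
        funext i
        simp [gen] }
  res_mem {O' O} hle {s} hs h := by
    rw [gen_res]
    exact hs (hle h)
  local' {O} s hs h := by
    obtain ⟨W, hW, hxW, hsW⟩ := hs _ h
    have := hsW hxW
    rwa [gen_res] at this

theorem mem_sub {O : X.Opens} (h : genericPoint X ∈ O) {s : Γ(FlatMod.freeMod X N, O)} :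
    s ∈ (sub J).obj O ↔ gen O h s ∈ J := ⟨fun hs => hs h, fun hs _ => hs⟩

theorem isQCoh_sub : Coh.IsQCoh (sub J).toModules := by
  refine QC.isQCoh_iff_isLoc.2 fun U => ⟨fun f t => ?_, fun f s hs => ?_⟩
  · have hD : X.basicOpen f ≤ U.1 := X.basicOpen_le f
    obtain ⟨n, s, hs⟩ := (QC.isQCoh_iff_isLoc.1 (LocFree.isQCoh_freeMod X N) U).exists_extend f
      (show (sub J).obj (X.basicOpen f) from t).1
    by_cases hη : genericPoint X ∈ X.basicOpen f
    · refine ⟨n, ⟨s, (mem_sub J (hD hη)).2 ?_⟩, Subtype.ext hs⟩
      rw [← gen_res hD hη, hs]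
      convert J.smul_mem (ev _ hη (resO X hD f ^ n)) ((show (sub J).obj (X.basicOpen f) from t).2 hη) using 1
      funext i
      simp [gen]
    · refine ⟨0, 0, Subtype.ext ((crd (X.basicOpen f)).injective (funext fun i => ?_))⟩
      refine TopCat.Presheaf.section_ext X.sheaf _ _ _ fun y hy => ?_
      exact absurd (((genericPoint_spec X).mem_open_set_iff (X.basicOpen f).isOpen).mpr ⟨y, by simpa using hy⟩) hη
  · obtain ⟨n, hn⟩ := ((QC.isQCoh_iff_isLoc.1 (LocFree.isQCoh_freeMod X N)) U).exists_pow_smul_eq_zero f
      (show (sub J).obj U.1 from s).1 (congrArg Subtype.val hs)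
    exact ⟨n, Subtype.ext hn⟩

/-- Sections over an affine open. -/
theorem exists_sections_equiv (U : X.affineOpens) [Nonempty U.1] :
    letI : Algebra Γ(X, U.1) X.functionField := (ev U.1 (generic_mem U.1)).toAlgebra
    ∃ φ : Γ((sub J).toModules, U.1) ≃ₗ[Γ(X, U.1)] sat Γ(X, U.1) J,
      ∀ s, (φ s).1 = crd U.1 (show (sub J).obj U.1 from s).1 := by
  letI : Algebra Γ(X, U.1) X.functionField := (ev U.1 (generic_mem U.1)).toAlgebra
  exact ⟨{ toFun := fun s => ⟨crd U.1 (show (sub J).obj U.1 from s).1,
            mem_sat.2 ((show (sub J).obj U.1 from s).2 _)⟩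
           map_add' := fun s t => Subtype.ext (map_add (crd U.1) _ _)
           map_smul' := fun r s => Subtype.ext (map_smul (crd U.1) r _)
           invFun := fun v => (⟨(crd U.1).symm v.1, (mem_sub J (generic_mem U.1)).2 (by
             show (fun i => ev U.1 _ (crd U.1 ((crd U.1).symm v.1) i)) ∈ J
             rw [LinearEquiv.apply_symm_apply]
             exact mem_sat.1 v.2)⟩ : (sub J).obj U.1)
           left_inv := fun s => Subtype.ext ((crd U.1).symm_apply_apply _)
           right_inv := fun v => Subtype.ext ((crd U.1).apply_symm_apply _) }, fun s => rfl⟩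

theorem ev_secRing (O : X.Opens) (h : genericPoint X ∈ O) (c : k) :
    ev O h (secRing k O c) = algebraMap k X.functionField c :=
  (X.presheaf.germ_res_apply _ _ _ _).trans rfl

variable {B : Type u} [Ring B] [Algebra k B] (ρ : B →ₐ[k] Matrix (Fin N) (Fin N) k)
  (hJ : ∀ b, ∀ v ∈ J, ((ρ b).map (algebraMap k X.functionField)).mulVec v ∈ J)

theorem isScalarTower_ev (U : X.Opens) (h : genericPoint X ∈ U) :
    letI : Algebra Γ(X, U) X.functionField := (ev U h).toAlgebra
    IsScalarTower k Γ(X, U) X.functionField := by
  letI : Algebra Γ(X, U) X.functionField := (ev U h).toAlgebra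
  exact IsScalarTower.of_algebraMap_eq fun c => (ev_secRing U h c).symm

variable [IsLocallyNoetherian X] (hreg : ∀ x : X, IsRegularLocalRing (X.presheaf.stalk x))
  (L : Type u) [Field L] [Algebra k L] [Module.Finite k L] [Algebra.IsSeparable k L]
  {r : ℕ} (e : L ⊗[k] B ≃ₐ[L] Matrix (Fin r) (Fin r) L) (hr : 0 < r)
  (hdim : Module.finrank X.functionField J = r)

include hJ hreg e hr hdim in
theorem isFinLocFree_sub : FlatMod.IsFinLocFree (sub J).toModules := by
  refine LocFree.isFinLocFree_of_affine_projective (isQCoh_sub J) fun x => ?_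
  obtain ⟨U, hU, hxU, -⟩ := exists_isAffineOpen_mem_and_subset (x := x) (U := (⊤ : X.Opens)) trivial
  haveI : Nonempty U := ⟨⟨x, hxU⟩⟩
  letI : Algebra Γ(X, U) X.functionField := (ev U (generic_mem U)).toAlgebra
  haveI : IsFractionRing Γ(X, U) X.functionField := functionField_isFractionRing_of_isAffineOpen X U hU
  haveI : IsScalarTower k Γ(X, U) X.functionField := isScalarTower_ev U (generic_mem U)
  haveI := RegBlow.isRegularRing_sections hreg ⟨U, hU⟩
  haveI := projective_sat (R := Γ(X, U)) J ρ hJ L e hr hdim
  obtain ⟨φ, -⟩ := exists_sections_equiv J ⟨U, hU⟩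
  haveI : Module.Finite Γ(X, U) Γ((sub J).toModules, U) := Module.Finite.equiv φ.symm
  haveI : Module.Projective Γ(X, U) Γ((sub J).toModules, U) := Module.Projective.of_equiv φ.symm
  exact ⟨U, hU, hxU, Module.finitePresentation_of_projective _ _, inferInstance⟩

include hJ hreg e hr hdim in
theorem isFinLocFreeOfRank_sub : FlatMod.IsFinLocFreeOfRank r (sub J).toModules := by
  have hE := isFinLocFree_sub J ρ hJ hreg L e hr hdim
  refine W7Strat.isFinLocFreeOfRank_of_frames fun x => ?_
  obtain ⟨W, m, a, hxW, ha⟩ := TMul.exists_isFrame hE x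
  obtain ⟨U, hU, hxU, hUW⟩ := exists_isAffineOpen_mem_and_subset hxW
  haveI : Nonempty U := ⟨⟨x, hxU⟩⟩
  letI : Algebra Γ(X, U) X.functionField := (ev U (generic_mem U)).toAlgebra
  haveI : IsFractionRing Γ(X, U) X.functionField := functionField_isFractionRing_of_isAffineOpen X U hU
  obtain ⟨φ, -⟩ := exists_sections_equiv J ⟨U, hU⟩
  obtain ⟨ι, hι⟩ := exists_sat_iso (R := Γ(X, U)) J
  haveI := hι
  let c : (Fin m → X.functionField) ≃ₗ[X.functionField] J :=
    (TensorProduct.piScalarRight Γ(X, U) X.functionField X.functionField (Fin m)).symm ≪≫ₗ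
      TensorProduct.AlgebraTensorModule.congr (LinearEquiv.refl _ _) ((ha.equiv hUW).trans φ) ≪≫ₗ
      (IsLocalizedModule.isBaseChange (Γ(X, U))⁰ X.functionField ι).equiv
  obtain rfl : m = r := by
    rw [← hdim, ← c.finrank_eq, Module.finrank_fin_fun]
  exact ⟨W, a, hxW, ha⟩

include hJ in
theorem exists_act (b : B) : ∃ φ : (sub J).toModules ⟶ (sub J).toModules,
    ∀ (U : X.affineOpens) s, crd U.1 (show (sub J).obj U.1 from φ.app U.1 s).1 =
      ((ρ b).map (secRing k U.1)).mulVec (crd U.1 (show (sub J).obj U.1 from s).1) := by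
  let g : ∀ U : X.affineOpens, Γ((sub J).toModules, U.1) →ₗ[Γ(X, U.1)] Γ((sub J).toModules, U.1) := fun U =>
    { toFun := fun s => (⟨(crd U.1).symm (((ρ b).map (secRing k U.1)).mulVec (crd U.1 (show (sub J).obj U.1 from s).1)),
        fun h => by
          convert hJ b _ ((show (sub J).obj U.1 from s).2 h) using 1
          funext i
          show ev U.1 h (crd U.1 ((crd U.1).symm _) i) = _
          rw [LinearEquiv.apply_symm_apply, RingHom.map_mulVec]
          congr 1
          ext a c
          exact ev_secRing U.1 h _⟩ : (sub J).obj U.1)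
      map_add' := fun s t => Subtype.ext (by
        show (crd U.1).symm (Matrix.mulVec _ (crd U.1 (_ + _))) = (crd U.1).symm _ + (crd U.1).symm _
        rw [map_add, Matrix.mulVec_add, map_add])
      map_smul' := fun r s => Subtype.ext (by
        show (crd U.1).symm (Matrix.mulVec _ (crd U.1 (r • _))) = r • (crd U.1).symm _
        rw [map_smul, Matrix.mulVec_smul, map_smul]) }
  obtain ⟨φ, hφ⟩ := KosExt.exists_hom_affine (sub J).toModules (sub J).toModules g (fun U V h s => Subtype.ext (by
    show res (FlatMod.freeMod X N) h ((crd U.1).symm _) = (crd V.1).symm _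
    apply (crd V.1).injective
    rw [LinearEquiv.apply_symm_apply, crd_res, LinearEquiv.apply_symm_apply]
    show _ = Matrix.mulVec _ (crd V.1 (res (FlatMod.freeMod X N) h _))
    rw [crd_res]
    funext i
    rw [RingHom.map_mulVec]
    congr 1
    ext a c
    exact W7Cech.resO_secRing k h _))
  exact ⟨φ, fun U s => by rw [hφ]; exact LinearEquiv.apply_symm_apply _ _⟩

include hJ in
/-- The algebra acts. -/
theorem exists_action : Nonempty (B →ₐ[k] End (sub J).toModules) := by
  choose φ hφ using exists_act J ρ hJ
  have ext' : ∀ {a b : (sub J).toModules ⟶ (sub J).toModules},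
      (∀ (U : X.affineOpens) s, crd U.1 (show (sub J).obj U.1 from a.app U.1 s).1 =
        crd U.1 (show (sub J).obj U.1 from b.app U.1 s).1) → a = b := fun {a b} h =>
    KosExt.hom_ext_affine fun U s => Subtype.ext ((crd U.1).injective (h U s))
  refine ⟨{ toFun := φ, map_one' := ?_, map_mul' := fun a b => ?_, map_zero' := ?_, map_add' := fun a b => ?_,
            commutes' := fun c => ?_ }⟩
  · refine ext' fun U s => ?_
    rw [hφ, map_one, Matrix.map_one _ (map_zero _) (map_one _), Matrix.one_mulVec]
    rfl
  · refine ext' fun U s => ?_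
    show _ = crd U.1 (show (sub J).obj U.1 from (φ a).app U.1 ((φ b).app U.1 s)).1
    rw [hφ, hφ, hφ, map_mul, Matrix.map_mul, Matrix.mulVec_mulVec]
  · refine ext' fun U s => ?_
    rw [hφ, map_zero, Matrix.map_zero _ (map_zero _), Matrix.zero_mulVec]
    exact (map_zero (crd U.1)).symm
  · refine ext' fun U s => ?_
    rw [hφ, map_add, Matrix.map_add _ (map_add _), Matrix.add_mulVec, ← hφ, ← hφ, ← map_add]
    rfl
  · refine ext' fun U s => ?_
    show _ = crd U.1 (show (sub J).obj U.1 from (c • 𝟙 (sub J).toModules).app U.1 s).1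
    rw [hφ, AlgHom.commutes, hom_smul_app, Matrix.algebraMap_eq_diagonal, Matrix.diagonal_map (map_zero _)]
    show _ = crd U.1 (secRing k U.1 c • (show (sub J).obj U.1 from s).1)
    rw [map_smul]
    funext i
    rw [Matrix.mulVec_diagonal]
    rfl

end Lat

/-- An algebra split by the function field of a regular integral scheme acts on a bundle of small rank. -/
theorem exists_bundle_of_splits {k : Type u} [Field k] {X : Scheme.{u}} [X.Over (Spec (CommRingCat.of k))] [IsIntegral X]
    [IsLocallyNoetherian X] (hreg : ∀ x : X, IsRegularLocalRing (X.presheaf.stalk x)) {B : Type u} [Ring B] [Algebra k B]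
    [Algebra.IsCentral k B] [IsSimpleRing B] [FiniteDimensional k B] (h : Curves.Splits k B X.functionField) :
    ∃ (E : X.Modules) (r : ℕ), 0 < r ∧ Module.finrank k B = r * r ∧ FlatMod.IsFinLocFreeOfRank r E ∧
      Nonempty (B →ₐ[k] End E) := by
  classical
  obtain ⟨r, hr, ⟨φ⟩⟩ := h
  have hB : Module.finrank k B = r * r := by
    have := φ.toLinearEquiv.finrank_eq
    rwa [Module.finrank_baseChange, Module.finrank_matrix, Fintype.card_fin, Module.finrank_self, mul_one] at this
  obtain ⟨L, hL, s, hs, ⟨e⟩⟩ := CSALib.exists_separable_splitting (k := k) B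
  haveI := hL
  obtain rfl : s = r := by
    have := e.toLinearEquiv.finrank_eq
    rw [Module.finrank_baseChange, Module.finrank_matrix, Fintype.card_fin, Module.finrank_self, mul_one, hB] at this
    exact (Nat.mul_self_inj.1 this).symm
  let β := Module.finBasis k B
  let ρ := Algebra.leftMulMatrix β
  let γ := (β.baseChange X.functionField).equivFun
  let i₀ : Fin s := ⟨0, Nat.pos_of_ne_zero hr⟩
  let col : (Fin s → X.functionField) →ₗ[X.functionField] Matrix (Fin s) (Fin s) X.functionField :=
    { toFun := fun v => Matrix.of fun i j => if j = i₀ then v i else 0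
      map_add' := fun v w => by ext i j; by_cases h : j = i₀ <;> simp [h]
      map_smul' := fun c v => by ext i j; by_cases h : j = i₀ <;> simp [h] }
  let T : (Fin s → X.functionField) →ₗ[X.functionField] (Fin (Module.finrank k B) → X.functionField) :=
    γ.toLinearMap ∘ₗ φ.symm.toLinearMap ∘ₗ col
  let J := LinearMap.range T
  have hinj : Function.Injective T := fun v w hvw => by
    have h1 : col v = col w := φ.symm.injective (γ.injective hvw)
    funext i
    simpa [col] using congrFun (congrFun h1 i) i₀
  have hdim : Module.finrank X.functionField J = s := by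
    rw [LinearMap.finrank_range_of_inj hinj, Module.finrank_fin_fun]
  have hmul : ∀ (b : B) (z : X.functionField ⊗[k] B),
      γ ((1 ⊗ₜ[k] b) * z) = ((ρ b).map (algebraMap k X.functionField)).mulVec (γ z) := by
    intro b z
    induction z using TensorProduct.induction_on with
    | zero => simp
    | add z w hz hw => rw [mul_add, map_add, map_add, hz, hw, Matrix.mulVec_add]
    | tmul c x =>
      funext i
      rw [Algebra.TensorProduct.tmul_mul_tmul, one_mul]
      simp only [γ, Module.Basis.equivFun_apply, Module.Basis.baseChange_repr_tmul, Matrix.mulVec, dotProduct,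
        Matrix.map_apply]
      have h1 := congrFun (Algebra.leftMulMatrix_mulVec_repr β b x) i
      rw [← h1, Matrix.mulVec, dotProduct, Finset.sum_smul]
      refine Finset.sum_congr rfl fun j _ => ?_
      rw [mul_smul, Algebra.smul_def]
  have hJ : ∀ b, ∀ v ∈ J, ((ρ b).map (algebraMap k X.functionField)).mulVec v ∈ J := by
    rintro b _ ⟨v, rfl⟩
    refine ⟨(φ (1 ⊗ₜ[k] b)).mulVec v, ?_⟩
    show γ (φ.symm (col _)) = _
    refine Eq.trans ?_ (hmul b (φ.symm (col v)))
    congr 1
    apply φ.injective
    rw [map_mul, AlgEquiv.apply_symm_apply, AlgEquiv.apply_symm_apply]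
    ext i j
    simp only [col, LinearMap.coe_mk, AddHom.coe_mk, Matrix.of_apply, Matrix.mul_apply, Matrix.mulVec, dotProduct]
    by_cases h : j = i₀
    · simp [h]
    · simp [h]
  obtain ⟨act⟩ := Lat.exists_action J ρ hJ
  exact ⟨_, s, Nat.pos_of_ne_zero hr, hB,
    Lat.isFinLocFreeOfRank_sub J ρ hJ hreg L e (Nat.pos_of_ne_zero hr) hdim, ⟨act⟩⟩

end Groth.Agent.KrullSch
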