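import Groth.Agent.KrullSch.GalDescent
import Groth.Agent.KrullSch.TwistDual
import Mathlib

/-! Modules splitting into invariant invertible modules. -/

set_option autoImplicit false
set_option backward.isDefEq.respectTransparency false
set_option backward.isDefEq.respectTransparency.types false
set_option linter.style.haveILetI false

universe u

open CategoryTheory CategoryTheory.Limits AlgebraicGeometry Opposite

attribute [local instance] CategoryTheory.Abelian.hasFiniteBiproducts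

noncomputable section

namespace Groth.Agent.KrullSch

/-- Pullback of a finite biproduct. -/
def pullBiIso {X Y : Scheme.{u}} (g : X ⟶ Y) {ι : Type} [Fintype ι] (F : ι → Y.Modules) :
    (Scheme.Modules.pullback g).obj (⨁ F) ≅ ⨁ fun i => (Scheme.Modules.pullback g).obj (F i) :=
  haveI : PreservesColimitsOfSize.{0, 0} (Scheme.Modules.pullback g) :=
    (Scheme.Modules.pullbackPushforwardAdjunction g).leftAdjoint_preservesColimits
  (Scheme.Modules.pullback g).mapIso (biproduct.isoCoproduct F) ≪≫ PreservesCoproduct.iso _ F ≪≫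
    (biproduct.isoCoproduct _).symm

/-- An invertible module on a connected scheme is indecomposable. -/
theorem indec_invertible {Z : Scheme.{u}} [ConnectedSpace Z] {L : Z.Modules} (hL : PicF.IsInvertible L) : Indec L := by
  haveI : Nontrivial Γ(Z, ⊤) := by
    haveI : Nonempty ↥(⊤ : Z.Opens) := ⟨⟨Classical.arbitrary Z, trivial⟩⟩
    infer_instance
  refine ⟨fun h => ?_, fun A B ⟨θ⟩ => ?_⟩
  · obtain ⟨y⟩ : Nonempty Z := inferInstance
    obtain ⟨U, s, hy, hs⟩ := TMul.exists_isGen hL y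
    have hs0 : Subsingleton Γ(L, U) := by
      have h1 : IsZero ((Scheme.Modules.toPresheaf Z).obj L) := Functor.map_isZero _ h
      exact AddCommGrpCat.subsingleton_of_isZero (h1.obj _)
    have h01 : (0 : Γ(Z, U)) = 1 := (hs U le_rfl).1 (Subsingleton.elim _ _)
    haveI : Nonempty U := ⟨⟨y, hy⟩⟩
    exact zero_ne_one h01
  obtain ⟨L', hL', ⟨u⟩⟩ := SymAlg.exists_inverse hL
  let ψ : L ⟶ L := θ.hom ≫ biprod.fst ≫ biprod.inl ≫ θ.inv
  have hψ : ψ ≫ ψ = ψ := by simp [ψ]
  let a : Coh.structureModule Z ⟶ Coh.structureModule Z := u.inv ≫ CohFinite.tmap ψ L' ≫ u.hom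
  have ha : a ≫ a = a := by
    simp only [a, Category.assoc, Iso.hom_inv_id_assoc]
    rw [← Category.assoc (CohFinite.tmap ψ L'), ← CohFinite.tmap_comp, hψ]
  have hv : IsIdempotentElem (show Γ(Z, ⊤) from TMul.val a ⊤) := by
    have h := DualGeneric.val_comp_unit a a
    rw [ha] at h
    exact h.symm
  have hz : a = 0 → ψ = 0 := fun h => by
    refine LinRes.eq_zero_of_tmap hL' ψ ?_
    rw [← cancel_epi u.inv, ← cancel_mono u.hom]
    simpa [a] using h
  rcases DualGeneric.eq_zero_or_one_of_idempotent hv with h | h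
  · left
    have h0 := congrArg (fun z => biprod.inl ≫ θ.inv ≫ z ≫ θ.hom ≫ biprod.fst) (hz (TMul.hom_ext_val h))
    simp [ψ] at h0
    exact (IsZero.iff_id_eq_zero A).2 h0
  · right
    have h1 : a = 𝟙 _ := TMul.hom_ext_val (h.trans rfl)
    have hψ1 : 𝟙 L - ψ = 0 := by
      refine LinRes.eq_zero_of_tmap hL' _ ?_
      have h2 : CohFinite.tmap ψ L' = 𝟙 _ := by
        rw [← cancel_epi u.inv, ← cancel_mono u.hom]
        simpa [a] using h1
      rw [← add_zero (CohFinite.tmap (𝟙 L - ψ) L'), ← sub_self (CohFinite.tmap ψ L'), ← add_sub_assoc,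
        ← CohFinite.tmap_add, sub_add_cancel, CohFinite.tmap_id, h2, sub_self]
    have h0 := congrArg (fun z => biprod.inr ≫ θ.inv ≫ z ≫ θ.hom ≫ biprod.snd) (sub_eq_zero.1 hψ1)
    simp [ψ] at h0
    exact (IsZero.iff_id_eq_zero B).2 h0

variable {k : Type u} [Field k] {X : Scheme.{u}} (p : X ⟶ Spec (CommRingCat.of k)) [IsProper p]

/-- An indecomposable module splitting into invertible modules which are types of descended modules is isotypical. -/
theorem exists_type_of_split (K : Type u) [Field K] [Algebra k K] [Algebra.IsAlgebraic k K] {n : ℕ}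
    (Ls : Fin n → (W4bk4gw11416.baseChange p K).Modules) (hLi : ∀ i, Indec (Ls i))
    (hd : ∀ i, ∃ (M : X.Modules) (r : ℕ), FlatMod.IsFinLocFree M ∧ Indec M ∧ 0 < r ∧
      Nonempty (W4c1astiltbs12.bcMod p K M ≅ W4c1astiltbs12.pow (Ls i) r))
    (E : X.Modules) (hE : FlatMod.IsFinLocFree E) (hEi : Indec E)
    (e : W4c1astiltbs12.bcMod p K E ≅ ∐ Ls) :
    ∃ (i : Fin n) (r : ℕ), 0 < r ∧ Nonempty (W4c1astiltbs12.bcMod p K E ≅ W4c1astiltbs12.pow (Ls i) r) := by
  classical
  letI : X.Over (Spec (CommRingCat.of k)) := ⟨p⟩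
  haveI : IsProper (X ↘ Spec (CommRingCat.of k)) := inferInstanceAs (IsProper p)
  haveI : IsLocallyNoetherian X := LocallyOfFiniteType.isLocallyNoetherian p
  haveI : CompactSpace X := QuasiCompact.compactSpace_of_compactSpace p
  letI : (W4bk4gw11416.baseChange p K).Over (Spec (CommRingCat.of K)) := ⟨W4bk4gw11416.baseChangeTo p K⟩
  let g := W4c1astiltbs12.proj p K
  choose M r hM hMi hr hb using hd
  let R := ∏ i, r i
  have hR : 0 < R := Finset.prod_pos fun i _ => hr i
  let s : Fin n → ℕ := fun i => R / r i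
  have hsr : ∀ i, s i * r i = R := fun i => Nat.div_mul_cancel (Finset.dvd_prod_of_mem r (Finset.mem_univ i))
  have hEc := K0Coh.isCoh_of_isFinLocFree hE
  let lhs : (Scheme.Modules.pullback g).obj (⨁ fun _ : Fin R => E) ≅ ⨁ fun q : Σ _ : Fin R, Fin n => Ls q.2 :=
    pullBiIso g _ ≪≫ biproduct.mapIso (fun _ => e ≪≫ (biproduct.isoCoproduct Ls).symm) ≪≫
      biproductBiproductIso (fun _ : Fin R => Fin n) (fun _ i => Ls i)
  let rhs : (Scheme.Modules.pullback g).obj (⨁ fun q : Σ i, Fin (s i) => M q.1) ≅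
      ⨁ fun q : Σ q : Σ i, Fin (s i), Fin (r q.1) => Ls q.1.1 :=
    pullBiIso g _ ≪≫ biproduct.mapIso (fun q => (hb q.1).some ≪≫ (biproduct.isoCoproduct _).symm) ≪≫
      biproductBiproductIso (fun q : Σ i, Fin (s i) => Fin (r q.1)) (fun q _ => Ls q.1)
  let ε : (Σ _ : Fin R, Fin n) ≃ Σ q : Σ i, Fin (s i), Fin (r q.1) :=
    (Equiv.sigmaEquivProd (Fin R) (Fin n)).trans ((Equiv.prodComm _ _).trans ((Equiv.sigmaEquivProd (Fin n) (Fin R)).symm.trans
      ((Equiv.sigmaCongrRight fun i => (finCongr (hsr i).symm).trans (finProdFinEquiv.symm.trans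
        (Equiv.sigmaEquivProd (Fin (s i)) (Fin (r i))).symm)).trans
        (Equiv.sigmaAssoc fun i (_ : Fin (s i)) => Fin (r i)).symm)))
  let mid : (⨁ fun q : Σ _ : Fin R, Fin n => Ls q.2) ≅ ⨁ fun q : Σ q : Σ i, Fin (s i), Fin (r q.1) => Ls q.1.1 :=
    biproduct.whiskerEquiv (f := fun q : Σ _ : Fin R, Fin n => Ls q.2)
      (g := fun q : Σ q : Σ i, Fin (s i), Fin (r q.1) => Ls q.1.1) ε fun _ => Iso.refl _
  have hcoh : ∀ q : Σ i, Fin (s i), Coh.IsCoh (M q.1) := fun q => K0Coh.isCoh_of_isFinLocFree (hM q.1)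
  obtain ⟨θ⟩ := nonempty_iso_of_iso_pullback (k := k) (K := K) g (IsPullback.of_hasPullback _ _)
    (Devissage.isCoh_biproduct _ fun _ => hEc) (Devissage.isCoh_biproduct _ hcoh) (lhs ≪≫ mid ≪≫ rhs.symm)
  haveI := finite_end (k := k) hEc
  obtain ⟨q, hq⟩ := exists_equiv k _ (fun _ : Fin R => E) (fun q : Σ i, Fin (s i) => M q.1) rfl
    (fun _ => hEi) (fun q => hMi q.1) (fun _ => inferInstance) θ
  exact ⟨(q ⟨0, hR⟩).1, r _, hr _, ⟨(Scheme.Modules.pullback g).mapIso (hq ⟨0, hR⟩).some ≪≫ (hb _).some⟩⟩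

end Groth.Agent.KrullSch
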