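import Groth.Agent.KrullSch.GenLattice
import Groth.Agent.KrullSch.UnivTwist
import Groth.Agent.CurveRR.Zero
import Groth.Agent.ZeroSch.Basic
import Groth.Agent.Nagata.Bundles
import Mathlib

/-! A bundle with the action of an algebra of the same degree becomes a power of a twist. -/

set_option autoImplicit false
set_option backward.isDefEq.respectTransparency false
set_option backward.isDefEq.respectTransparency.types false
set_option linter.style.haveILetI false
set_option maxHeartbeats 1000000

universe u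

open CategoryTheory CategoryTheory.Limits AlgebraicGeometry TopologicalSpace
open scoped TensorProduct

attribute [local instance] CategoryTheory.Abelian.hasFiniteBiproducts

noncomputable section

namespace Groth.Agent.KrullSch

/-- Matrix units on an object split it into equal summands. -/
theorem exists_units_decomp {C : Type*} [Category C] [Abelian C] {T : C} {r : ℕ} (ε : Fin r → Fin r → (T ⟶ T))
    (i₀ : Fin r) (h1 : ∀ i j l, ε i j ≫ ε j l = ε i l) (h0 : ∀ i j j' l, j ≠ j' → ε i j ≫ ε j' l = 0)
    (hsum : ∑ i, ε i i = 𝟙 T) :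
    ∃ (P : C) (ι : P ⟶ T) (π : T ⟶ P), ι ≫ π = 𝟙 P ∧ Nonempty (T ≅ ⨁ fun _ : Fin r => P) := by
  classical
  let P := Abelian.image (ε i₀ i₀)
  let π := Abelian.factorThruImage (ε i₀ i₀)
  let ι := Abelian.image.ι (ε i₀ i₀)
  have hπι : π ≫ ι = ε i₀ i₀ := Abelian.image.fac _
  have hιπ : ι ≫ π = 𝟙 P := by
    rw [← cancel_epi π, ← cancel_mono ι, Category.assoc, Category.assoc, hπι, ← Category.assoc, hπι, h1,
      Category.comp_id, hπι]
  have hbe : ι ≫ ε i₀ i₀ = ι := (congrArg (ι ≫ ·) hπι).symm.trans (by rw [← Category.assoc, hιπ, Category.id_comp])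
  let φ : T ⟶ ⨁ fun _ : Fin r => P := biproduct.lift fun i => ε i i₀ ≫ π
  let ψ : (⨁ fun _ : Fin r => P) ⟶ T := biproduct.desc fun i => ι ≫ ε i₀ i
  refine ⟨P, ι, π, hιπ, ⟨⟨φ, ψ, ?_, ?_⟩⟩⟩
  · rw [biproduct.lift_desc]
    simp only [Category.assoc, reassoc_of% hπι]
    simp only [reassoc_of% h1, h1, hsum]
  · refine biproduct.hom_ext' _ _ fun i => biproduct.hom_ext _ _ fun j => ?_
    rw [biproduct.ι_desc_assoc, Category.assoc, biproduct.lift_π, Category.comp_id]
    by_cases h : i = j
    · subst h
      rw [biproduct.ι_π_self, Category.assoc, reassoc_of% h1, ← Category.assoc, hbe, hιπ]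
    · rw [biproduct.ι_π_ne _ h, Category.assoc, reassoc_of% (h0 i₀ i j i₀ h), zero_comp, comp_zero]

/-- Summands of a decomposition into equal parts of total rank the number of parts are invertible. -/
theorem isInvertible_of_pow_rank {Y : Scheme.{u}} {T P : Y.Modules} {r : ℕ}
    (hT : FlatMod.IsFinLocFreeOfRank r T) (hP : FlatMod.IsFinLocFree P) (θ : T ≅ ⨁ fun _ : Fin r => P) (hr : 0 < r) :
    PicF.IsInvertible P := by
  classical
  refine ZeroSch.isInvertible_of_rankOne (W7Strat.isFinLocFreeOfRank_of_frames fun y => ?_)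
  obtain ⟨U₁, m, a, hy₁, ha⟩ := TMul.exists_isFrame hP y
  obtain ⟨U₂, b, hy₂, hb⟩ := CurveRR.exists_frame hT y
  let V := U₁ ⊓ U₂
  haveI : Nonempty V := ⟨⟨y, hy₁, hy₂⟩⟩
  haveI : Nontrivial Γ(Y, V) := inferInstance
  have hsplit : Function.Bijective fun (x : Γ((⨁ fun _ : Fin r => P : Y.Modules), V)) i =>
      (biproduct.π (fun _ : Fin r => P) i).app V x := by
    refine ⟨fun x z h => ?_, fun w => ⟨∑ i, (biproduct.ι (fun _ : Fin r => P) i).app V (w i), funext fun j => ?_⟩⟩
    · have hid : ∀ x, x = ∑ i, (biproduct.ι (fun _ : Fin r => P) i).app V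
          ((biproduct.π (fun _ : Fin r => P) i).app V x) := fun x => by
        have h' := congrArg (fun φ : (⨁ fun _ : Fin r => P) ⟶ ⨁ fun _ : Fin r => P => φ.app V x)
          (biproduct.total (f := fun _ : Fin r => P))
        simp only [sum_app, Scheme.Modules.Hom.comp_app] at h'
        exact h'.symm
      rw [hid x, hid z]
      exact Finset.sum_congr rfl fun i _ => congrArg _ (congrFun h i)
    · show (biproduct.π (fun _ : Fin r => P) j).app V _ = w j
      rw [map_sum, Finset.sum_eq_single j]
      · show ((biproduct.ι (fun _ : Fin r => P) j ≫ biproduct.π (fun _ : Fin r => P) j).app V) (w j) = w j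
        rw [biproduct.ι_π_self]
        rfl
      · intro i _ hi
        show ((biproduct.ι (fun _ : Fin r => P) i ≫ biproduct.π (fun _ : Fin r => P) j).app V) (w i) = 0
        rw [biproduct.ι_π_ne _ hi]
        rfl
      · exact fun h => absurd (Finset.mem_univ j) h
  let c₁ : Γ((⨁ fun _ : Fin r => P : Y.Modules), V) ≃ₗ[Γ(Y, V)] (Fin r → Γ(P, V)) :=
    LinearEquiv.ofBijective
      { toFun := fun x i => (biproduct.π (fun _ : Fin r => P) i).app V x
        map_add' := fun x z => funext fun i => map_add _ x z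
        map_smul' := fun c x => funext fun i => Scheme.Modules.Hom.app_smul _ _ _ } hsplit
  let c₂ : Γ(T, V) ≃ₗ[Γ(Y, V)] Γ((⨁ fun _ : Fin r => P : Y.Modules), V) :=
    LinearEquiv.ofBijective
      { toFun := fun x => θ.hom.app V x
        map_add' := fun x z => map_add _ x z
        map_smul' := fun c x => Scheme.Modules.Hom.app_smul _ _ _ }
      (ConcreteCategory.bijective_of_isIso (θ.hom.app V))
  let c := ((hb.equiv (inf_le_right : V ≤ U₂)).trans c₂).trans
    (c₁.trans (LinearEquiv.piCongrRight fun _ : Fin r => (ha.equiv (inf_le_left : V ≤ U₁)).symm))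
  obtain rfl : m = 1 := by
    have h := c.finrank_eq
    rw [Module.finrank_fin_fun, Module.finrank_pi_fintype, Finset.sum_const, Finset.card_univ, Fintype.card_fin,
      Module.finrank_fin_fun, smul_eq_mul] at h
    exact Nat.eq_of_mul_eq_mul_left hr (h.symm.trans (mul_one r).symm)
  exact ⟨U₁, a, hy₁, ha⟩

variable {k : Type u} [Field k] {X : Scheme.{u}} {f : X ⟶ Spec (CommRingCat.of k)} [IsProper f] {n : ℕ}
  {K : Type u} [Field K] [Algebra k K] [IsAlgClosed K] (e : BrSev.Splitting f K n)

/-- A bundle with the action of an algebra of the same degree has twisting type. -/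
theorem exists_isTwPow_of_action [Algebra.IsAlgebraic k K] {B : Type u} [Ring B] [Algebra k B]
    [Algebra.IsCentral k B] [IsSimpleRing B] [FiniteDimensional k B] {r : ℕ} (hr : 0 < r)
    (hB : Module.finrank k B = r * r) {E : X.Modules} (hE : FlatMod.IsFinLocFreeOfRank r E)
    (act : letI : X.Over (Spec (CommRingCat.of k)) := ⟨f⟩; B →ₐ[k] End E) :
    ∃ j : ℤ, BrSev.IsTwPow e j r E := by
  classical
  letI : X.Over (Spec (CommRingCat.of k)) := ⟨f⟩
  letI : (BrSev.bc f K).Over (Spec (CommRingCat.of K)) := ⟨BrSev.bcTo f K⟩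
  let g := BrSev.proj f K
  have sq : IsPullback g (BrSev.bc f K ↘ Spec (CommRingCat.of K)) (X ↘ Spec (CommRingCat.of k))
      (Spec.map (CommRingCat.ofHom (algebraMap k K))) := IsPullback.of_hasPullback _ _
  let T := (Scheme.Modules.pullback g).obj E
  obtain ⟨hKc, hKs, hKf⟩ := Brauer.IsCSA.baseChange (k := k) (T := B) ⟨inferInstance, inferInstance, inferInstance⟩ K
  haveI := hKs
  haveI := hKf
  obtain ⟨s, -, ⟨e₀⟩⟩ := IsSimpleRing.exists_algEquiv_matrix_of_isAlgClosed K (K ⊗[k] B)
  obtain rfl : s = r := by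
    have := e₀.toLinearEquiv.finrank_eq
    rw [Module.finrank_baseChange, Module.finrank_matrix, Fintype.card_fin, Module.finrank_self, mul_one, hB] at this
    exact (Nat.mul_self_inj.1 this).symm
  letI : Algebra k (End T) := ((algebraMap K (End T)).comp (algebraMap k K)).toAlgebra'
    fun c x => Algebra.commutes (algebraMap k K c) x
  haveI : IsScalarTower k K (End T) := IsScalarTower.of_algebraMap_eq fun _ => rfl
  let act₀ : B →ₐ[k] End T :=
    { toFun := fun b => End.of ((Scheme.Modules.pullback g).map (act b))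
      map_one' := by rw [map_one]; exact (Scheme.Modules.pullback g).map_id E
      map_mul' := fun a b => by rw [map_mul]; exact (Scheme.Modules.pullback g).map_comp _ _
      map_zero' := by rw [map_zero]; exact (Scheme.Modules.pullback g).map_zero _ _
      map_add' := fun a b => by rw [map_add]; exact (Scheme.Modules.pullback g).map_add
      commutes' := fun c => by
        rw [AlgHom.commutes, Algebra.algebraMap_eq_smul_one]
        show (Scheme.Modules.pullback g).map (c • 𝟙 E) = algebraMap k K c • 𝟙 T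
        rw [pullback_map_smul g sq, CategoryTheory.Functor.map_id] }
  let α : K ⊗[k] B →ₐ[K] End T :=
    Algebra.TensorProduct.lift (Algebra.ofId K _) act₀ fun l b => Algebra.commutes l (act₀ b)
  let ε : Fin s → Fin s → (T ⟶ T) := fun i j => α (e₀.symm (Matrix.single j i 1))
  have h1 : ∀ i j l, ε i j ≫ ε j l = ε i l := fun i j l => by
    show α (e₀.symm (Matrix.single l j 1)) * α (e₀.symm (Matrix.single j i 1)) = _
    rw [← map_mul, ← map_mul, Matrix.single_mul_single_same, one_mul]
  have h0 : ∀ i j j' l, j ≠ j' → ε i j ≫ ε j' l = 0 := fun i j j' l h => by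
    show α (e₀.symm (Matrix.single l j' 1)) * α (e₀.symm (Matrix.single j i 1)) = _
    rw [← map_mul, ← map_mul, Matrix.single_mul_single_of_ne _ _ _ _ (Ne.symm h), map_zero, map_zero]
  have hsum : ∑ i, ε i i = 𝟙 T := by
    show ∑ i, α (e₀.symm (Matrix.single i i 1)) = _
    rw [← map_sum, ← map_sum, Matrix.sum_single_eq_diagonal, Matrix.diagonal_one, map_one, map_one]
    rfl
  obtain ⟨P, ι, π, hιπ, ⟨θ⟩⟩ := exists_units_decomp ε ⟨0, hr⟩ h1 h0 hsum
  have hT : FlatMod.IsFinLocFreeOfRank s T := Nagata.isFinLocFreeOfRank_pullback g hE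
  have hP := isInvertible_of_pow_rank hT (isFinLocFree_retract (Nagata.isFinLocFree_of_rank' hT) ι π hιπ) θ hr
  obtain ⟨j, ⟨c⟩⟩ := exists_iso_twist e hP
  exact ⟨j, ⟨θ ≪≫ biproduct.isoCoproduct _ ≪≫ Sigma.mapIso fun _ => c⟩⟩

end Groth.Agent.KrullSch
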