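import Groth.Prelude.Def_BrSev2
import Groth.Agent.GrassRep.Sheaf
import Groth.Agent.OortTate.DualRank
import Groth.Agent.W7Exist.Rel
import Mathlib

/-! Left ideals with projective quotient and their annihilators in coordinates; points on affine opens. -/

set_option autoImplicit false
set_option backward.isDefEq.respectTransparency false
set_option backward.isDefEq.respectTransparency.types false
set_option linter.style.haveILetI false

universe u

open CategoryTheory CategoryTheory.Limits AlgebraicGeometry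
open scoped TensorProduct
open Module
open Groth.Agent.GrassRep (inc inc_tmul inc_mem_map map_eq_span)
open Groth.Agent.QC (resO)

noncomputable section

namespace Groth.Agent.KrullSch

section Alg

variable {k : Type u} [Field k] {M : Type u} [AddCommGroup M] [Module k M] {m : ℕ} (β : Basis (Fin m) k M)
  {R : Type u} [CommRing R] [Algebra k R] {S : Type u} [CommRing S] [Algebra k S] {c : ℕ}

/-- The pairing of a tuple with an element. -/
def pairB : (Fin m → R) →ₗ[R] (R ⊗[k] M) →ₗ[R] R :=
  LinearMap.mk₂ R (fun ξ x => ∑ i, ξ i * (β.baseChange R).repr x i)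
    (fun a a' x => by simp only [Pi.add_apply, add_mul, Finset.sum_add_distrib])
    (fun r a x => by simp only [Pi.smul_apply, smul_eq_mul, Finset.mul_sum, mul_assoc])
    (fun a x y => by simp only [map_add, Finsupp.add_apply, mul_add, Finset.sum_add_distrib])
    fun r a x => by simp only [map_smul, Finsupp.smul_apply, smul_eq_mul, Finset.mul_sum, mul_left_comm]

theorem pairB_apply (ξ : Fin m → R) (x : R ⊗[k] M) :
    pairB β ξ x = ∑ i, ξ i * (β.baseChange R).repr x i := rfl

theorem pairB_basis (ξ : Fin m → R) (j : Fin m) : pairB β ξ ((1 : R) ⊗ₜ[k] β j) = ξ j := by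
  classical
  rw [pairB_apply, ← Basis.baseChange_apply, Basis.repr_self]
  simp [Finsupp.single_apply]

theorem repr_inc (φ : R →ₐ[k] S) (x : R ⊗[k] M) (i : Fin m) :
    (β.baseChange S).repr (inc φ x) i = φ ((β.baseChange R).repr x i) := by
  induction x using TensorProduct.induction_on with
  | zero => simp
  | tmul r v => simp [inc_tmul, Basis.baseChange_repr_tmul, map_smul]
  | add x y hx hy => simp only [map_add, Finsupp.add_apply, hx, hy]

theorem pairB_inc (φ : R →ₐ[k] S) (ξ : Fin m → R) (x : R ⊗[k] M) :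
    pairB β (fun i => φ (ξ i)) (inc φ x) = φ (pairB β ξ x) := by
  simp only [pairB_apply, map_sum, map_mul, repr_inc]

theorem sum_repr_base (x : R ⊗[k] M) : ∑ i, (β.baseChange R).repr x i • ((1 : R) ⊗ₜ[k] β i) = x := by
  simpa [Basis.baseChange_apply] using (β.baseChange R).sum_repr x

/-- The annihilator of a submodule. -/
def perp (N : Submodule R (R ⊗[k] M)) : Submodule R (Fin m → R) where
  carrier := {ξ | ∀ x ∈ N, pairB β ξ x = 0}
  add_mem' {a a'} ha ha' x hx := by rw [map_add, LinearMap.add_apply, ha x hx, ha' x hx, add_zero]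
  zero_mem' x _ := by simp
  smul_mem' r a ha x hx := by rw [map_smul, LinearMap.smul_apply, ha x hx, smul_zero]

variable (N : Module.Grassmannian R (R ⊗[k] M) c)

/-- A splitting of the quotient, in coordinates. -/
theorem exists_proj : ∃ ξ : Fin m → Fin m → R, (∀ i, ξ i ∈ perp β N.toSubmodule) ∧
    ∀ x, x - ∑ i, pairB β (ξ i) x • ((1 : R) ⊗ₜ[k] β i) ∈ N.toSubmodule := by
  obtain ⟨s, hs⟩ := Module.projective_lifting_property N.toSubmodule.mkQ LinearMap.id N.toSubmodule.mkQ_surjective
  let P : R ⊗[k] M →ₗ[R] R ⊗[k] M := s.comp N.toSubmodule.mkQ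
  let ξ : Fin m → Fin m → R := fun i j => (β.baseChange R).repr (P ((1 : R) ⊗ₜ[k] β j)) i
  have hξ : ∀ i x, pairB β (ξ i) x = (β.baseChange R).repr (P x) i := fun i x => by
    conv_rhs => rw [← sum_repr_base β x]
    simp only [pairB_apply, map_sum, map_smul, Finsupp.coe_finsetSum, Finset.sum_apply, Finsupp.smul_apply,
      smul_eq_mul, ξ, mul_comm]
  refine ⟨ξ, fun i x hx => ?_, fun x => ?_⟩
  · rw [hξ]
    show (β.baseChange R).repr (s (N.toSubmodule.mkQ x)) i = 0
    rw [show N.toSubmodule.mkQ x = 0 from (Submodule.Quotient.mk_eq_zero _).2 hx, map_zero, map_zero,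
      Finsupp.zero_apply]
  · simp only [hξ, sum_repr_base]
    rw [← Submodule.Quotient.mk_eq_zero, ← Submodule.mkQ_apply, map_sub]
    exact sub_eq_zero.2 (LinearMap.congr_fun hs _).symm

variable {N}

theorem eq_sum_of_mem_perp {ξ : Fin m → Fin m → R}
    (h : ∀ x, x - ∑ i, pairB β (ξ i) x • ((1 : R) ⊗ₜ[k] β i) ∈ N.toSubmodule) {η : Fin m → R}
    (hη : η ∈ perp β N.toSubmodule) : η = ∑ i, η i • ξ i := by
  funext j
  have h1 := hη _ (h ((1 : R) ⊗ₜ[k] β j))
  rw [map_sub, sub_eq_zero, map_sum, pairB_basis] at h1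
  simp only [map_smul, pairB_basis, smul_eq_mul] at h1
  rw [h1, Finset.sum_apply]
  simp only [Pi.smul_apply, smul_eq_mul, mul_comm]

theorem mem_of_forall_pairB {x : R ⊗[k] M} (h : ∀ η ∈ perp β N.toSubmodule, pairB β η x = 0) :
    x ∈ N.toSubmodule := by
  obtain ⟨ξ, hξ, hx⟩ := exists_proj β N
  have h1 := hx x
  simpa only [fun i => h _ (hξ i), zero_smul, Finset.sum_const_zero, sub_zero] using h1

theorem perp_finite : Module.Finite R ((Fin m → R) ⧸ perp β N.toSubmodule) := inferInstance

variable (N)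

theorem perp_projective : Module.Projective R ((Fin m → R) ⧸ perp β N.toSubmodule) := by
  obtain ⟨ξ, hξ, hx⟩ := exists_proj β N
  let e : (Fin m → R) →ₗ[R] (Fin m → R) :=
    { toFun := fun η => ∑ i, η i • ξ i
      map_add' := fun a a' => by simp only [Pi.add_apply, add_smul, Finset.sum_add_distrib]
      map_smul' := fun r a => by simp only [Pi.smul_apply, smul_eq_mul, mul_smul, Finset.smul_sum, RingHom.id_apply] }
  let s : ((Fin m → R) ⧸ perp β N.toSubmodule) →ₗ[R] (Fin m → R) :=
    (perp β N.toSubmodule).liftQ (LinearMap.id - e) fun η hη => by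
      rw [LinearMap.mem_ker, LinearMap.sub_apply, LinearMap.id_apply, sub_eq_zero]
      exact eq_sum_of_mem_perp β hx hη
  refine Module.Projective.of_split s (perp β N.toSubmodule).mkQ (LinearMap.ext fun q => ?_)
  obtain ⟨η, rfl⟩ := (perp β N.toSubmodule).mkQ_surjective q
  show (perp β N.toSubmodule).mkQ (η - ∑ i, η i • ξ i) = _
  rw [map_sub, show (perp β N.toSubmodule).mkQ (∑ i, η i • ξ i) = 0 from
    (Submodule.Quotient.mk_eq_zero _).2 (Submodule.sum_mem _ fun i _ => Submodule.smul_mem _ _ (hξ i)), sub_zero]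
  rfl

/-- The annihilator is the dual of the quotient. -/
def perpEquiv : perp β N.toSubmodule ≃ₗ[R] Module.Dual R ((R ⊗[k] M) ⧸ N.toSubmodule) where
  toFun η := N.toSubmodule.liftQ (pairB β η.1) fun x hx => η.2 x hx
  map_add' a a' := Submodule.linearMap_qext _ (LinearMap.ext fun x => by simp)
  map_smul' r a := Submodule.linearMap_qext _ (LinearMap.ext fun x => by simp)
  invFun d := ⟨fun j => d (N.toSubmodule.mkQ ((1 : R) ⊗ₜ[k] β j)), fun x hx => by
    have h : d (N.toSubmodule.mkQ x) = 0 := by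
      rw [show N.toSubmodule.mkQ x = 0 from (Submodule.Quotient.mk_eq_zero _).2 hx, map_zero]
    rw [← sum_repr_base β x] at h
    simp only [map_sum, map_smul, smul_eq_mul] at h
    simpa only [pairB_apply, mul_comm] using h⟩
  left_inv η := Subtype.ext (funext fun j => pairB_basis β η.1 j)
  right_inv d := Submodule.linearMap_qext _ (LinearMap.ext fun x => by
    conv_rhs => rw [← sum_repr_base β x]
    simp [pairB_apply, mul_comm])

/-- The rank of the quotient by the annihilator. -/
theorem perp_rank (p : PrimeSpectrum R) :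
    Module.rankAtStalk (R := R) ((Fin m → R) ⧸ perp β N.toSubmodule) p + c = m := by
  haveI := perp_projective β N
  obtain ⟨s, hs⟩ := Module.projective_lifting_property (perp β N.toSubmodule).mkQ LinearMap.id
    (perp β N.toSubmodule).mkQ_surjective
  let π : (Fin m → R) →ₗ[R] perp β N.toSubmodule :=
    (LinearMap.id - s.comp (perp β N.toSubmodule).mkQ).codRestrict _ fun z => by
      rw [← Submodule.Quotient.mk_eq_zero, ← Submodule.mkQ_apply, LinearMap.sub_apply, map_sub]
      exact sub_eq_zero.2 (LinearMap.congr_fun hs _).symm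
  have hπ : π.comp (perp β N.toSubmodule).subtype = LinearMap.id := LinearMap.ext fun η => Subtype.ext (by
    show (η : Fin m → R) - s ((perp β N.toSubmodule).mkQ η) = η
    rw [show (perp β N.toSubmodule).mkQ (η : Fin m → R) = 0 from (Submodule.Quotient.mk_eq_zero _).2 η.2,
      map_zero, sub_zero])
  haveI : Module.Projective R (perp β N.toSubmodule) := Module.Projective.of_split _ π hπ
  haveI : Module.Finite R (perp β N.toSubmodule) :=
    Module.Finite.of_surjective π fun η => ⟨η, LinearMap.congr_fun hπ η⟩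
  let e : (Fin m → R) ≃ₗ[R] ((Fin m → R) ⧸ perp β N.toSubmodule) × perp β N.toSubmodule :=
    { (perp β N.toSubmodule).mkQ.prod π with
      invFun := fun z => s z.1 + (z.2 : Fin m → R)
      left_inv := fun z => add_sub_cancel _ _
      right_inv := fun z => by
        have h0 : (perp β N.toSubmodule).mkQ (z.2 : Fin m → R) = 0 := (Submodule.Quotient.mk_eq_zero _).2 z.2.2
        have hms : (perp β N.toSubmodule).mkQ (s z.1) = z.1 := LinearMap.congr_fun hs z.1
        refine Prod.ext ?_ (Subtype.ext ?_)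
        · show (perp β N.toSubmodule).mkQ (s z.1 + (z.2 : Fin m → R)) = z.1
          rw [map_add, h0, hms, add_zero]
        · show s z.1 + (z.2 : Fin m → R) - s ((perp β N.toSubmodule).mkQ (s z.1 + (z.2 : Fin m → R))) = z.2
          rw [map_add (perp β N.toSubmodule).mkQ, h0, hms, add_zero, add_sub_cancel_left] }
  haveI : Nontrivial R := p.nontrivial
  have h := congrFun (Module.rankAtStalk_eq_of_equiv e) p
  rw [Module.rankAtStalk_prod, Pi.add_apply, Module.rankAtStalk_eq_finrank_of_free, Module.finrank_pi,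
    Fintype.card_fin, Module.rankAtStalk_eq_of_equiv (perpEquiv β N), OortTate.rankAtStalk_dual,
    N.rankAtStalk_eq] at h
  simpa only [Pi.natCast_apply, Nat.cast_id] using h.symm

variable (φ : R →ₐ[k] S)

theorem map_mem_perp {η : Fin m → R} (h : η ∈ perp β N.toSubmodule) :
    (fun i => φ (η i)) ∈ perp β (Module.Grassmannian.map φ N).toSubmodule := fun x hx => by
  rw [map_eq_span] at hx
  induction hx using Submodule.span_induction with
  | mem z hz => obtain ⟨y, hy, rfl⟩ := hz; rw [pairB_inc, h y hy, map_zero]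
  | zero => simp
  | add a a' _ _ ha ha' => rw [map_add, ha, ha', add_zero]
  | smul r a _ ha => rw [map_smul, ha, smul_zero]

/-- Membership in a base change by base changed annihilators. -/
theorem mem_map_of_forall {x : S ⊗[k] M}
    (h : ∀ η ∈ perp β N.toSubmodule, pairB β (fun i => φ (η i)) x = 0) :
    x ∈ (Module.Grassmannian.map φ N).toSubmodule := by
  obtain ⟨ξ, hξ, hx⟩ := exists_proj β N
  suffices key : ∀ y : S ⊗[k] M, y - ∑ i, pairB β (fun j => φ (ξ i j)) y • ((1 : S) ⊗ₜ[k] β i) ∈
      (Module.Grassmannian.map φ N).toSubmodule by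
    have h1 := key x
    simpa only [fun i => h _ (hξ i), zero_smul, Finset.sum_const_zero, sub_zero] using h1
  intro y
  rw [← sum_repr_base β y]
  have hb : ∀ j, inc φ ((1 : R) ⊗ₜ[k] β j) = (1 : S) ⊗ₜ[k] β j := fun j => by rw [inc_tmul, map_one]
  have hlin : ∀ z, inc φ (z - ∑ i, pairB β (ξ i) z • ((1 : R) ⊗ₜ[k] β i)) =
      inc φ z - ∑ i, pairB β (fun j => φ (ξ i j)) (inc φ z) • ((1 : S) ⊗ₜ[k] β i) := fun z => by
    simp only [map_sub, map_sum, GrassRep.inc_smul, pairB_inc, hb]
  simp only [map_sum, map_smul, Finset.sum_smul, smul_assoc]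
  rw [Finset.sum_comm, ← Finset.sum_sub_distrib]
  refine Submodule.sum_mem _ fun j _ => ?_
  rw [← Finset.smul_sum]
  have h1 := inc_mem_map φ N (hx ((1 : R) ⊗ₜ[k] β j))
  rw [hlin, hb] at h1
  have h2 := Submodule.smul_mem _ ((β.baseChange S).repr y j) h1
  rw [smul_sub] at h2
  exact h2

theorem perp_map_le_span : perp β (Module.Grassmannian.map φ N).toSubmodule ≤
    Submodule.span S ((fun (η : Fin m → R) i => φ (η i)) '' (perp β N.toSubmodule : Set (Fin m → R))) := by
  obtain ⟨ξ, hξ, hx⟩ := exists_proj β N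
  intro η hη
  have h : η = ∑ i, η i • fun j => φ (ξ i j) := by
    funext j
    have hb : ∀ i, inc φ ((1 : R) ⊗ₜ[k] β i) = (1 : S) ⊗ₜ[k] β i := fun i => by rw [inc_tmul, map_one]
    have h1 := hη _ (inc_mem_map φ N (hx ((1 : R) ⊗ₜ[k] β j)))
    simp only [map_sub, map_sum, GrassRep.inc_smul, map_smul, hb, pairB_basis, smul_eq_mul] at h1
    rw [sub_eq_zero] at h1
    rw [h1, Finset.sum_apply]
    simp only [Pi.smul_apply, smul_eq_mul, mul_comm]
  rw [h]
  exact Submodule.sum_mem _ fun i _ => Submodule.smul_mem _ _ (Submodule.subset_span ⟨ξ i, hξ i, rfl⟩)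

end Alg

section Pts

variable {k : Type u} [Field k] {A : Type u} [Ring A] [Algebra k A] {c : ℕ} {X : Scheme.{u}}
  [X.Over (Spec (CommRingCat.of k))] (b : BrSev.SBStr k A c (X ↘ Spec (CommRingCat.of k)))
  {T T' : Scheme.{u}} [T.Over (Spec (CommRingCat.of k))] [T'.Over (Spec (CommRingCat.of k))]

/-- Functions on an open of a scheme over a field. -/
instance secAlgebra (W : T.Opens) : Algebra k Γ(T, W) := (W7Cech.secRing k W).toAlgebra

theorem algebraMap_sec (W : T.Opens) (a : k) : algebraMap k Γ(T, W) a = W7Cech.secRing k W a := rfl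

/-- Restriction as a map of algebras. -/
def resAlg {W' W : T.Opens} (h : W' ≤ W) : Γ(T, W) →ₐ[k] Γ(T, W') where
  toRingHom := resO T h
  commutes' a := W7Cech.resO_secRing k h a

/-- The functions pulled back along a morphism over the base. -/
def appAlg (v : T' ⟶ T) [v.IsOver (Spec (CommRingCat.of k))] {W : T.Opens} {W' : T'.Opens} (h : W' ≤ v ⁻¹ᵁ W) :
    Γ(T, W) →ₐ[k] Γ(T', W') where
  toRingHom := (v.appLE W W' h).hom
  commutes' a := by
    show (v.appLE W W' h).hom (W7Cech.secRing k W a) = W7Cech.secRing k W' a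
    have e := congrArg (fun q => Coh.toGlobal q a) (comp_over v (Spec (CommRingCat.of k)))
    exact (congrArg (fun z => z) (by
      show (v.appLE W W' h).hom (resO T le_top (Coh.toGlobal (T ↘ Spec (CommRingCat.of k)) a)) =
        resO T' le_top (Coh.toGlobal (T' ↘ Spec (CommRingCat.of k)) a)
      rw [← e]
      change ((T.presheaf.map (homOfLE le_top).op ≫ v.appLE W W' h).hom) _ = _
      rw [Scheme.Hom.map_appLE]
      rfl))

/-- The point on an affine open. -/
def ptOn (z : T ⟶ X) [z.IsOver (Spec (CommRingCat.of k))] (W : T.affineOpens) :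
    BrSev.Pts (X ↘ Spec (CommRingCat.of k)) Γ(T, W.1) :=
  ⟨W.2.fromSpec ≫ z, by rw [Category.assoc, comp_over]; exact W7Exist.fromSpec_over W.2⟩

/-- The left ideal of the point on an affine open. -/
def idl (z : T ⟶ X) [z.IsOver (Spec (CommRingCat.of k))] (W : T.affineOpens) : BrSev.SBSet k A c Γ(T, W.1) :=
  b.bij Γ(T, W.1) (ptOn z W)

theorem idl_res (z : T ⟶ X) [z.IsOver (Spec (CommRingCat.of k))] {W' W : T.affineOpens} (h : W'.1 ≤ W.1) :
    (idl b z W').1.toSubmodule = (Module.Grassmannian.map (resAlg h) (idl b z W).1).toSubmodule := by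
  refine Eq.trans ?_ (b.natural _ _ (resAlg h) (ptOn z W))
  refine congrArg (fun p => (b.bij Γ(T, W'.1) p).1.toSubmodule) (Subtype.ext ?_)
  show W'.2.fromSpec ≫ z = Spec.map (T.presheaf.map (homOfLE h).op) ≫ W.2.fromSpec ≫ z
  rw [← Category.assoc, IsAffineOpen.map_fromSpec]

theorem idl_appLE (z : T ⟶ X) [z.IsOver (Spec (CommRingCat.of k))] (v : T' ⟶ T)
    [v.IsOver (Spec (CommRingCat.of k))] (z' : T' ⟶ X) [z'.IsOver (Spec (CommRingCat.of k))] (hz : v ≫ z = z')
    (W : T.affineOpens) (W' : T'.affineOpens) (h : W'.1 ≤ v ⁻¹ᵁ W.1) :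
    (idl b z' W').1.toSubmodule = (Module.Grassmannian.map (appAlg v h) (idl b z W).1).toSubmodule := by
  refine Eq.trans ?_ (b.natural _ _ (appAlg v h) (ptOn z W))
  refine congrArg (fun p => (b.bij Γ(T', W'.1) p).1.toSubmodule) (Subtype.ext ?_)
  show W'.2.fromSpec ≫ z' = Spec.map (v.appLE W.1 W'.1 h) ≫ W.2.fromSpec ≫ z
  rw [← hz, IsAffineOpen.SpecMap_appLE_fromSpec_assoc]

theorem eq_of_idl_eq (z₁ z₂ : T ⟶ X) [z₁.IsOver (Spec (CommRingCat.of k))]
    [z₂.IsOver (Spec (CommRingCat.of k))] {ι : Type*} (W : ι → T.affineOpens) (hW : ∀ t, ∃ i, t ∈ (W i).1)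
    (h : ∀ i, (idl b z₁ (W i)).1.toSubmodule = (idl b z₂ (W i)).1.toSubmodule) : z₁ = z₂ := by
  refine Scheme.Cover.hom_ext (T.openCoverOfIsOpenCover (fun i => (W i).1) (TopologicalSpace.IsOpenCover.mk
    (top_unique fun t _ => TopologicalSpace.Opens.mem_iSup.2 (hW t)))) _ _ fun i => ?_
  have e : (W i).2.fromSpec ≫ z₁ = (W i).2.fromSpec ≫ z₂ :=
    congrArg Subtype.val ((b.bij _).injective (Subtype.ext (Module.Grassmannian.ext (h i))))
  show (W i).1.ι ≫ z₁ = (W i).1.ι ≫ z₂
  rw [← cancel_epi (W i).2.isoSpec.inv]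
  simpa only [← Category.assoc, IsAffineOpen.isoSpec_inv_ι] using e

end Pts

end Groth.Agent.KrullSch
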