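import Groth.Agent.KrullSch.PushType
import Groth.Agent.KrullSch.UnivAlg
import Mathlib

/-! A Severi–Brauer scheme with a rational point splits. -/

set_option autoImplicit false
set_option backward.isDefEq.respectTransparency false
set_option backward.isDefEq.respectTransparency.types false
set_option linter.style.haveILetI false
set_option maxHeartbeats 1000000

universe u

open CategoryTheory CategoryTheory.Limits AlgebraicGeometry
open Groth.Agent.W7Cech

attribute [local instance] CategoryTheory.Abelian.hasFiniteBiproducts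

noncomputable section

namespace Groth.Agent.KrullSch

variable {k : Type u} [Field k] {X : Scheme.{u}} {f : X ⟶ Spec (CommRingCat.of k)} {n : ℕ}
  {K : Type u} [Field K] [Algebra k K]

/-- Inverse image along a morphism over the base field is linear. -/
theorem pullback_map_smul_of_isOver {T Y : Scheme.{u}} [T.Over (Spec (CommRingCat.of k))]
    [Y.Over (Spec (CommRingCat.of k))] (s : T ⟶ Y) [s.IsOver (Spec (CommRingCat.of k))] {F G : Y.Modules} (c : k)
    (γ : F ⟶ G) : (Scheme.Modules.pullback s).map (c • γ) = c • (Scheme.Modules.pullback s).map γ := by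
  apply ((Scheme.Modules.pullbackPushforwardAdjunction s).homEquiv _ _).injective
  refine KosExt.hom_ext_affine fun U x => ?_
  rw [Adjunction.homEquiv_unit, Adjunction.homEquiv_unit]
  show ((Scheme.Modules.pullback s).map (c • γ)).app (s ⁻¹ᵁ U.1) (OmegaSh.pullSect s F U.1 x) =
    (c • (Scheme.Modules.pullback s).map γ).app (s ⁻¹ᵁ U.1) (OmegaSh.pullSect s F U.1 x)
  rw [hom_smul_app]
  refine (QC.app_pullSect s (c • γ) U.1 x).trans ?_
  rw [QC.app_pullSect s γ U.1 x, hom_smul_app, OmegaSh.pullSect_smul]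
  congr 1
  rw [Scheme.Hom.app_eq_appLE]
  exact (appAlg s (le_refl (s ⁻¹ᵁ U.1))).commutes c

/-- A form of projective space with a rational point is projective space. -/
theorem nonempty_splitting_of_point [IsProper f] [IsAlgClosed K] [Algebra.IsAlgebraic k K]
    (e : BrSev.Splitting f K n) (s : Spec (CommRingCat.of k) ⟶ X) (hs : s ≫ f = 𝟙 (Spec (CommRingCat.of k))) :
    Nonempty (BrSev.Splitting f k n) := by
  classical
  obtain ⟨W, r, hW, hWi, hr, hWt⟩ := exists_type_of_isAlgClosed e 1
  let S := Spec (CommRingCat.of k)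
  let S' := Spec (CommRingCat.of K)
  let h : S' ⟶ S := Spec.map (CommRingCat.ofHom (algebraMap k K))
  letI : X.Over (Spec (CommRingCat.of k)) := ⟨f⟩
  haveI : IsProper (X ↘ Spec (CommRingCat.of k)) := inferInstanceAs (IsProper f)
  haveI : IsLocallyNoetherian X := LocallyOfFiniteType.isLocallyNoetherian f
  haveI : CompactSpace X := QuasiCompact.compactSpace_of_compactSpace f
  letI : (BrSev.bc f K).Over (Spec (CommRingCat.of K)) := ⟨BrSev.bcTo f K⟩
  haveI : IsProper (BrSev.bc f K ↘ Spec (CommRingCat.of K)) :=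
    inferInstanceAs (IsProper (pullback.snd f (Spec.map (CommRingCat.ofHom (algebraMap k K)))))
  have sq : IsPullback (BrSev.proj f K) (BrSev.bc f K ↘ Spec (CommRingCat.of K)) (X ↘ Spec (CommRingCat.of k))
      (Spec.map (CommRingCat.ofHom (algebraMap k K))) := IsPullback.of_hasPullback _ _
  letI : S.Over (Spec (CommRingCat.of k)) := ⟨𝟙 _⟩
  letI : S'.Over (Spec (CommRingCat.of K)) := ⟨𝟙 _⟩
  haveI : IsProper (S ↘ Spec (CommRingCat.of k)) := inferInstanceAs (IsProper (𝟙 _))
  haveI : IsProper (S' ↘ Spec (CommRingCat.of K)) := inferInstanceAs (IsProper (𝟙 _))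
  haveI : s.IsOver (Spec (CommRingCat.of k)) := ⟨hs⟩
  haveI : IsLocallyNoetherian S := inferInstance
  haveI : IsIntegral S' := inferInstance
  haveI : IsIso (S ↘ Spec (CommRingCat.of k)) := inferInstanceAs (IsIso (𝟙 _))
  haveI : IsIso (S' ↘ Spec (CommRingCat.of K)) := inferInstanceAs (IsIso (𝟙 _))
  have sqS : IsPullback h (S' ↘ Spec (CommRingCat.of K)) (S ↘ Spec (CommRingCat.of k))
      (Spec.map (CommRingCat.ofHom (algebraMap k K))) :=
    IsPullback.of_vert_isIso ⟨(Category.comp_id _).trans (Category.id_comp _).symm⟩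
  let t : S' ⟶ BrSev.bc f K := pullback.lift (h ≫ s) (𝟙 _) (by rw [Category.assoc, hs]; exact (Category.comp_id _).trans (Category.id_comp _).symm)
  have ht : t ≫ BrSev.proj f K = h ≫ s := pullback.lift_fst _ _ _
  let L := (Scheme.Modules.pullback t).obj (e.twist 1)
  have hL : PicF.IsInvertible L := PicLoc.isInvertible_pullback t (isInvertible_twist e 1)
  have hLd : ∀ ψ : L ⟶ L, ψ = 0 ∨ IsIso ψ := end_invertible_eq_zero_or_isIso (𝟙 S') hL
  haveI : ConnectedSpace ↥S' := inferInstance
  have hLi : Indec L := indec_invertible hL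
  have hL0 : 𝟙 L ≠ 0 := fun hh => hLi.1 ((IsZero.iff_id_eq_zero L).2 hh)
  have hLc : Coh.IsCoh L := K0Coh.isCoh_of_isFinLocFree (ResDesc.isFinLocFree_of_isInvertible hL)
  let E := (Scheme.Modules.pullback s).obj W
  have hE : FlatMod.IsFinLocFree E := DerPerf.isFinLocFree_pullback s hW
  have hEc := K0Coh.isCoh_of_isFinLocFree hE
  obtain ⟨a⟩ := id hWt
  let b : (Scheme.Modules.pullback h).obj E ≅ ∐ fun _ : Fin r => L :=
    (Scheme.Modules.pullbackComp h s).app W ≪≫ (Scheme.Modules.pullbackCongr ht.symm).app W ≪≫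
      ((Scheme.Modules.pullbackComp t (BrSev.proj f K)).app W).symm ≪≫ (Scheme.Modules.pullback t).mapIso a ≪≫
      pullPowIso t (e.twist 1) r
  have hWc := K0Coh.isCoh_of_isFinLocFree hW
  haveI := connectedSpace_splitting e
  haveI := BrSevSplit.isIntegral_projSpace (k := K) (n := n)
  haveI : Nonempty (BrSev.bc f K) := ⟨e.iso.inv (IsIntegral.nonempty (X := CohB1.ProjSpace n K)).some⟩
  haveI : IsIntegral (BrSev.bc f K) := isIntegral_of_isOpenImmersion e.iso.hom
  have hTd := end_invertible_eq_zero_or_isIso (BrSev.bcTo f K) (isInvertible_twist e 1)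
  have hT0 : 𝟙 (e.twist 1) ≠ 0 := fun hh => (indec_twist e 1).1 ((IsZero.iff_id_eq_zero _).2 hh)
  have hTc := K0Coh.isCoh_of_isFinLocFree (ResDesc.isFinLocFree_of_isInvertible (isInvertible_twist e 1))
  have hdW := finrank_end_of_type (k := k) (K := K) (BrSev.proj f K) sq hWc hTc hT0 hTd a
  have hdE := finrank_end_of_type (k := k) (K := K) h sqS hEc hLc hL0 hLd b
  haveI := finite_end (k := k) hWc
  haveI := finite_end (k := k) hEc
  let φ : End W →ₗ[k] End E :=
    { toFun := fun α => (Scheme.Modules.pullback s).map α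
      map_add' := fun α β => (Scheme.Modules.pullback s).map_add
      map_smul' := fun c α => pullback_map_smul_of_isOver s c α }
  have hE0 : ¬ IsZero E := fun hz => by
    haveI : Subsingleton (End E) := ⟨fun x y => hz.eq_of_src x y⟩
    rw [Module.finrank_zero_of_subsingleton] at hdE
    exact absurd hdE.symm (Nat.mul_pos hr hr).ne'
  have hid : 𝟙 E ≠ 0 := fun hh => hE0 ((IsZero.iff_id_eq_zero E).2 hh)
  have hWd : ∀ α : W ⟶ W, α = 0 ∨ IsIso α := fun α => by
    by_cases hα : α = 0
    · exact Or.inl hα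
    · exact Or.inr (isIso_of_indec (BrSev.proj f K) sq hWc hWi hTd a α hα)
  have hφi : Function.Injective φ := by
    refine (injective_iff_map_eq_zero φ).2 fun α hα => ?_
    rcases hWd α with h' | h'
    · exact h'
    · refine absurd ?_ hid
      have : 𝟙 E = (Scheme.Modules.pullback s).map (inv (show W ⟶ W from α)) ≫ φ α := by
        show 𝟙 E = _ ≫ (Scheme.Modules.pullback s).map (show W ⟶ W from α)
        rw [← Functor.map_comp, IsIso.inv_hom_id, CategoryTheory.Functor.map_id]
      rw [this, hα]
      exact comp_zero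
  have hφs : Function.Surjective φ :=
    (LinearMap.injective_iff_surjective_of_finrank_eq_finrank (hdW.trans hdE.symm)).1 hφi
  have hEd : ∀ ψ : E ⟶ E, ψ = 0 ∨ IsIso ψ := fun ψ => by
    obtain ⟨α, rfl⟩ := hφs ψ
    rcases hWd α with h' | h'
    · left
      rw [h', map_zero]
    · right
      exact Functor.map_isIso (Scheme.Modules.pullback s) (show W ⟶ W from α)
  let O := Coh.structureModule S
  have hO : PicF.IsInvertible O := TMul.isInvertible_structureModule
  have hOc : Coh.IsCoh O := K0Coh.isCoh_of_isFinLocFree (ResDesc.isFinLocFree_of_isInvertible hO)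
  haveI : Subsingleton ↥S' := inferInstance
  obtain ⟨u⟩ := W7See.nonempty_iso_unit_of_subsingleton hL
  let c : (Scheme.Modules.pullback h).obj O ≅ ∐ fun _ : Fin 1 => L :=
    PicLoc.pullbackStructureIso h ≪≫ u.symm ≪≫ (powOneIso L).symm
  obtain ⟨ω⟩ := nonempty_iso_of_same_type h sqS hEc hOc (indec_of_end hE0 hEd) (indec_invertible hO) L r 1 b c
  have hdO := finrank_end_of_type (k := k) (K := K) h sqS hOc hLc hL0 hLd c
  have hr1 : r * r = 1 * 1 := hdE.symm.trans (((endAlgEquiv k ω).toLinearEquiv.finrank_eq).trans hdO)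
  obtain rfl : r = 1 := Nat.eq_one_of_mul_eq_one_right hr1
  exact nonempty_splitting_self e (isInvertible_of_twPow_one e hW hWt) hWt

end Groth.Agent.KrullSch
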