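import Groth.Agent.KrullSch.FiniteSplit
import Groth.Agent.KrullSch.GalPush
import Groth.Agent.KrullSch.Cyclic
import Groth.Agent.W7FlatBC.Main
import Groth.Agent.PicFam.Pn
import Groth.Agent.AlgSpLib.FibreNoeth
import Groth.Agent.S0235
import Mathlib

/-! The direct image from a finite splitting level is of twisting type over the algebraic closure. -/

set_option autoImplicit false
set_option backward.isDefEq.respectTransparency false
set_option backward.isDefEq.respectTransparency.types false
set_option linter.style.haveILetI false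
set_option maxHeartbeats 1000000

universe u

open CategoryTheory CategoryTheory.Limits AlgebraicGeometry
open scoped TensorProduct
open Groth.Agent.W7Cech
open Groth.Agent.QC (res resO)

attribute [local instance] CategoryTheory.Abelian.hasFiniteBiproducts

noncomputable section

namespace Groth.Agent.KrullSch

variable {k : Type u} [Field k] {X : Scheme.{u}} {f : X ⟶ Spec (CommRingCat.of k)} {n : ℕ}

theorem levelMap_comp (L B F : Type u) [CommRing L] [CommRing B] [CommRing F] [Algebra k L] [Algebra k B] [Algebra k F]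
    [Algebra L B] [Algebra B F] [Algebra L F] [IsScalarTower k L B] [IsScalarTower k B F] [IsScalarTower k L F]
    [IsScalarTower L B F] : levelMap f B F ≫ levelMap f L B = levelMap f L F := by
  apply pullback.hom_ext
  · exact (Category.assoc _ _ _).trans
      ((congrArg (levelMap f B F ≫ ·) (levelMap_proj f L B)).trans ((levelMap_proj f B F).trans (levelMap_proj f L F).symm))
  · refine (Category.assoc _ _ _).trans ((congrArg (levelMap f B F ≫ ·) (levelMap_to f L B)).trans ?_)
    rw [reassoc_of% (levelMap_to f B F), ← Spec.map_comp, ← CommRingCat.ofHom_comp, ← IsScalarTower.algebraMap_eq]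
    exact (levelMap_to f L F).symm

/-- Invertible modules on a split family over a finite algebra which agree at the field points are isomorphic. -/
theorem nonempty_iso_of_field_points [IsProper f] {K : Type u} [Field K] [Algebra k K] (e : BrSev.Splitting f K n)
    (B : Type u) [CommRing B] [Algebra k B] [Algebra K B] [IsScalarTower k K B] [Module.Finite K B]
    {A₁ A₂ : (BrSev.bc f B).Modules} (h₁ : PicF.IsInvertible A₁) (h₂ : PicF.IsInvertible A₂)
    (h : ∀ (F : Type u) [Field F] [Algebra k F] [Algebra B F] [IsScalarTower k B F],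
      Nonempty ((Scheme.Modules.pullback (levelMap f B F)).obj A₁ ≅ (Scheme.Modules.pullback (levelMap f B F)).obj A₂)) :
    Nonempty (A₁ ≅ A₂) := by
  let π : BrSev.bc f B ⟶ Spec (CommRingCat.of B) := BrSev.bcTo f B
  haveI : Flat f := AlgSpLib.flat_of_field f
  haveI : IsProper π := MorphismProperty.pullback_snd (P := @IsProper) _ _ ‹_›
  haveI : Flat π := MorphismProperty.pullback_snd (P := @Flat) _ _ ‹_›
  haveI : LocallyOfFinitePresentation f := inferInstance
  haveI : LocallyOfFinitePresentation π :=
    MorphismProperty.pullback_snd (P := @LocallyOfFinitePresentation) _ _ ‹_›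
  have key : ∀ y : Spec (CommRingCat.of B), ∃ (ε : CohB1.ProjSpace n ((Spec (CommRingCat.of B)).residueField y) ≅ π.fiber y),
      ε.hom ≫ π.fiberToSpecResidueField y = CohB1.ProjSpace.toSpec n ((Spec (CommRingCat.of B)).residueField y) ∧
      Nonempty (CohIII.fiberMod π A₁ y ≅ CohIII.fiberMod π A₂ y) := by
    intro y
    let F : Type u := (Spec (CommRingCat.of B)).residueField y
    let φ := Spec.preimage ((Spec (CommRingCat.of B)).fromSpecResidueField y)
    have hφ : Spec.map φ = (Spec (CommRingCat.of B)).fromSpecResidueField y := Spec.map_preimage _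
    letI : Algebra B F := φ.hom.toAlgebra
    letI : Algebra K F := ((algebraMap B F).comp (algebraMap K B)).toAlgebra
    letI : Algebra k F := ((algebraMap B F).comp (algebraMap k B)).toAlgebra
    haveI : IsScalarTower k B F := IsScalarTower.of_algebraMap_eq fun _ => rfl
    haveI : IsScalarTower k K F := IsScalarTower.of_algebraMap_eq fun x =>
      congrArg (algebraMap B F) (IsScalarTower.algebraMap_apply k K B x)
    obtain ⟨eF⟩ := exists_splitting_extend e F
    have sq : IsPullback (levelMap f B F) (BrSev.bcTo f F) π ((Spec (CommRingCat.of B)).fromSpecResidueField y) := by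
      rw [← hφ]
      exact isPullback_levelMap f B F
    let ε₁ : BrSev.bc f F ≅ π.fiber y := sq.isoPullback
    have hι : ε₁.hom ≫ π.fiberι y = levelMap f B F := sq.isoPullback_hom_fst
    refine ⟨eF.iso.symm ≪≫ ε₁, ?_, ?_⟩
    · rw [Iso.trans_hom, Category.assoc, Iso.symm_hom, Iso.inv_comp_eq, eF.comm]
      exact sq.isoPullback_hom_snd
    · obtain ⟨a⟩ := h F
      exact PicFam.nonempty_iso_of_pullback ε₁
        ((Scheme.Modules.pullbackComp ε₁.hom (π.fiberι y)).app A₁ ≪≫ (Scheme.Modules.pullbackCongr hι).app A₁ ≪≫ a ≪≫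
          (Scheme.Modules.pullbackCongr hι.symm).app A₂ ≪≫ ((Scheme.Modules.pullbackComp ε₁.hom (π.fiberι y)).app A₂).symm)
  choose ε hε hfib using key
  have hy : ∀ y, Function.Bijective ((π.fiberToSpecResidueField y).appTop.hom.comp
      (Scheme.ΓSpecIso ((Spec (CommRingCat.of B)).residueField y)).inv.hom) := by
    intro y
    have hb := PicFam.bijective_toSpec n ((Spec (CommRingCat.of B)).residueField y)
    rw [← hε y, Scheme.Hom.comp_appTop] at hb
    exact ((ConcreteCategory.bijective_of_isIso (ε y).hom.appTop).of_comp_iff' _).1 hb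
  have h1 : ∀ y, Subsingleton (Coh.HH (π.fiber y) (Coh.structureModule (π.fiber y)) 1) := by
    intro y
    obtain ⟨t⟩ := GrT.nonempty_twist_zero_iso (𝒜 := CohB1.polyGrading n ((Spec (CommRingCat.of B)).residueField y))
    have h' : Subsingleton (Coh.HH _ (Coh.structureModule
        (CohB1.ProjSpace n ((Spec (CommRingCat.of B)).residueField y))) 1) :=
      CohQC.hh_subsingleton_of_iso t 1
        (ProjCech.twist_vanish (R := (Spec (CommRingCat.of B)).residueField y) n 0 1 (by omega) (by omega))
    exact CohQC.hh_subsingleton_of_iso (PicLoc.pullbackStructureIso (ε y).inv) 1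
      (TwistOverVan.subsingleton_hh_pullback_iso (ε y).inv _ (QC.isQCoh_unit _) 1 h')
  obtain ⟨E, hE, ⟨i⟩⟩ := PicFam.exists_iso_tensor_pullback π hy h1 h₁ h₂ hfib
  haveI : IsFinite (Spec.map (CommRingCat.ofHom (algebraMap K B))) :=
    (IsFinite.SpecMap_iff _).2 (RingHom.finite_algebraMap.2 inferInstance)
  obtain ⟨y₀⟩ := (inferInstance : Nonempty (Spec (CommRingCat.of K)))
  obtain ⟨V, hV, ⟨t⟩⟩ := S0235.result (Spec.map (CommRingCat.ofHom (algebraMap K B))) E hE y₀
  let W := Spec.map (CommRingCat.ofHom (algebraMap K B)) ⁻¹ᵁ V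
  have hW : W = ⊤ := top_le_iff.1 fun x _ => by
    show Spec.map (CommRingCat.ofHom (algebraMap K B)) x ∈ V
    rwa [Subsingleton.elim (Spec.map (CommRingCat.ofHom (algebraMap K B)) x) y₀]
  haveI : IsIso W.ι := by
    rw [hW]
    exact inferInstanceAs (IsIso (Scheme.topIso _).hom)
  obtain ⟨tE⟩ : Nonempty (E ≅ Coh.structureModule _) :=
    PicFam.nonempty_iso_of_pullback (asIso W.ι)
      (((Scheme.Modules.restrictFunctorIsoPullback W.ι).app E).symm ≪≫ t ≪≫ (PicLoc.pullbackStructureIso W.ι).symm)
  exact ⟨i ≪≫ PicGrp.tensorModIso (Iso.refl _) ((Scheme.Modules.pullback π).mapIso tE ≪≫ PicLoc.pullbackStructureIso π) ≪≫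
    SecTwist.unitorR _⟩

variable {K : Type u} [Field K] [Algebra k K]

/-- The direct image of an inverse image along a finite extension of the base is a power. -/
theorem nonempty_pushforward_pullback_iso {B : Type u} [CommRing B] [Algebra K B] [Module.Finite K B]
    {Y Y' : Scheme.{u}} [Y.Over (Spec (CommRingCat.of K))] [Y'.Over (Spec (CommRingCat.of B))] (g : Y' ⟶ Y)
    (sq : IsPullback g (Y' ↘ Spec (CommRingCat.of B)) (Y ↘ Spec (CommRingCat.of K))
      (Spec.map (CommRingCat.ofHom (algebraMap K B))))
    {M : Y.Modules} (hM : Coh.IsQCoh M) :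
    Nonempty ((Scheme.Modules.pushforward g).obj ((Scheme.Modules.pullback g).obj M) ≅
      ∐ fun _ : Fin (Module.finrank K B) => M) := by
  classical
  haveI := isAffineHom_bc K B g sq
  let d := Module.finrank K B
  let b := Module.finBasis K B
  let N := (Scheme.Modules.pushforward g).obj ((Scheme.Modules.pullback g).obj M)
  have hN : Coh.IsQCoh N := by
    haveI : ((Scheme.Modules.pullback g).obj M).IsQuasicoherent := QC.isQCoh_pullback g hM
    exact QC.isQCoh_pushforward g
  let η : M ⟶ N := (Scheme.Modules.pullbackPushforwardAdjunction g).unit.app M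
  let ψ : Fin d → (M ⟶ N) := fun i => η ≫ (Scheme.Modules.pushforward g).map (b i • 𝟙 _)
  have hψ : ∀ i (V : Y.Opens) (s : Γ(M, V)),
      (ψ i).app V s = secRing B (g ⁻¹ᵁ V) (b i) • OmegaSh.pullSect g M V s := by
    intro i V s
    show ((b i • 𝟙 ((Scheme.Modules.pullback g).obj M)).app (g ⁻¹ᵁ V)) (OmegaSh.pullSect g M V s) = _
    rw [hom_smul_app]
    rfl
  let Ψ : (⨁ fun _ : Fin d => M) ⟶ N := biproduct.desc ψ
  haveI : IsIso Ψ := by
    refine P1Split.isIso_of_cover (Devissage.isQCoh_biproduct _ fun _ => hM) hN Ψ (fun V : Y.affineOpens => V.1)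
      (fun V => V.2) (fun x => ?_) fun V => ?_
    · obtain ⟨U, hU, -⟩ := KosExt.exists_affine_le (O := (⊤ : Y.Opens)) (x := x) trivial
      exact ⟨U, hU⟩
    let S : (Fin d → Γ(M, V.1)) → Γ((⨁ fun _ : Fin d => M : Y.Modules), V.1) :=
      fun x => ∑ i, (biproduct.ι (fun _ : Fin d => M) i).app V.1 (x i)
    let π' : Γ((⨁ fun _ : Fin d => M : Y.Modules), V.1) → Fin d → Γ(M, V.1) :=
      fun z i => (biproduct.π (fun _ : Fin d => M) i).app V.1 z
    have hid : ∀ z, S (π' z) = z := fun z => by
      have h' := congrArg (fun φ : (⨁ fun _ : Fin d => M) ⟶ ⨁ fun _ : Fin d => M => φ.app V.1 z)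
        (biproduct.total (f := fun _ : Fin d => M))
      simp only [sum_app, Scheme.Modules.Hom.comp_app] at h'
      exact h'
    have hS : Function.Surjective S := fun z => ⟨π' z, hid z⟩
    let T : (Fin d → Γ(M, V.1)) → Γ((Scheme.Modules.pullback g).obj M, g ⁻¹ᵁ V.1) :=
      fun x => ∑ i, secRing B (g ⁻¹ᵁ V.1) (b i) • OmegaSh.pullSect g M V.1 (x i)
    have hT : (fun x => Ψ.app V.1 (S x)) = T := funext fun x => by
      show Ψ.app V.1 (∑ i, _) = ∑ i, _
      rw [map_sum]
      exact Finset.sum_congr rfl fun i _ =>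
        (congr($(biproduct.ι_desc ψ i).app V.1 (x i))).trans (hψ i V.1 (x i))
    have hTb : Function.Bijective T := by
      let P : ModuleCat.{u} B := (secA B (g ⁻¹ᵁ V.1)).obj ((Scheme.Modules.pullback g).obj M)
      letI : Module K P := Module.compHom P (algebraMap K B)
      haveI : IsScalarTower K B P := IsScalarTower.of_algebraMap_smul fun _ _ => rfl
      have h := isBaseChange_pullSec K B g sq hM V.2
      let Q : Type u := (secA K V.1).obj M
      let u : (Fin d → Q) ≃ B ⊗[K] Q :=
        Finsupp.equivFunOnFinite.symm.trans (TensorProduct.equivFinsuppOfBasisLeft b).symm.toEquiv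
      have hu : (fun x : Fin d → Q => (T x : P)) = h.equiv ∘ u := by
        funext x
        show _ = h.equiv ((TensorProduct.equivFinsuppOfBasisLeft b).symm (Finsupp.equivFunOnFinite.symm x))
        rw [TensorProduct.equivFinsuppOfBasisLeft_symm_apply, Finsupp.sum_fintype _ _ (fun i => by simp), map_sum]
        refine Finset.sum_congr rfl fun i _ => ?_
        rw [Finsupp.coe_equivFunOnFinite_symm, h.equiv_tmul]
        rfl
      show Function.Bijective (fun x : Fin d → Q => (T x : P))
      rw [hu]
      exact h.equiv.bijective.comp u.bijective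
    rw [← hT] at hTb
    exact (Function.Bijective.of_comp_iff _ ⟨fun a c hac => hTb.1 (congrArg (fun z => Ψ.app V.1 z) hac), hS⟩).1 hTb
  exact ⟨(asIso Ψ).symm ≪≫ biproduct.isoCoproduct _⟩

/-- A module on a Severi–Brauer scheme becoming a power of a given twist. -/
theorem exists_push_type [IsProper f] (e : BrSev.Splitting f K n) (L : Type u) [Field L] [Algebra k L]
    [FiniteDimensional k L] (e' : BrSev.Splitting f L n) (j : ℤ) :
    ∃ (V : X.Modules) (d : ℕ), 0 < d ∧ FlatMod.IsFinLocFree V ∧ BrSev.IsTwPow e j d V := by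
  let B : Type u := K ⊗[k] L
  letI : Algebra L B := Algebra.TensorProduct.rightAlgebra
  haveI : IsScalarTower k L B := IsScalarTower.of_algebraMap_eq fun x =>
    ((Algebra.TensorProduct.includeRight : L →ₐ[k] B).commutes x).symm
  haveI : Module.Finite K B := inferInstance
  haveI : Nontrivial B := inferInstance
  let g := BrSev.proj f L
  let q := BrSev.proj f K
  let g' : BrSev.bc f B ⟶ BrSev.bc f L := levelMap f L B
  let ρ : BrSev.bc f B ⟶ BrSev.bc f K := levelMap f K B
  haveI : IsFinite (Spec.map (CommRingCat.ofHom (algebraMap k L))) :=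
    (IsFinite.SpecMap_iff _).2 (RingHom.finite_algebraMap.2 inferInstance)
  haveI : Flat (Spec.map (CommRingCat.ofHom (algebraMap k L))) := AlgSpLib.flat_of_field _
  haveI : LocallyOfFinitePresentation (Spec.map (CommRingCat.ofHom (algebraMap k L))) := inferInstance
  haveI : IsFinite g := MorphismProperty.pullback_fst (P := @IsFinite) _ _ inferInstance
  haveI : Flat g := MorphismProperty.pullback_fst (P := @Flat) _ _ inferInstance
  haveI : LocallyOfFinitePresentation g :=
    MorphismProperty.pullback_fst (P := @LocallyOfFinitePresentation) _ _ inferInstance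
  haveI : Flat (Spec.map (CommRingCat.ofHom (algebraMap k K))) := AlgSpLib.flat_of_field _
  haveI : Flat q := MorphismProperty.pullback_fst (P := @Flat) _ _ inferInstance
  have hWL : PicF.IsInvertible (e'.twist j) := isInvertible_twist e' j
  have hM : PicF.IsInvertible (e.twist j) := isInvertible_twist e j
  obtain ⟨θ⟩ : Nonempty ((Scheme.Modules.pullback g').obj (e'.twist j) ≅ (Scheme.Modules.pullback ρ).obj (e.twist j)) := by
    refine nonempty_iso_of_field_points e B (PicLoc.isInvertible_pullback _ hWL) (PicLoc.isInvertible_pullback _ hM)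
      fun F _ _ _ _ => ?_
    letI : Algebra L F := ((algebraMap B F).comp (algebraMap L B)).toAlgebra
    letI : Algebra K F := ((algebraMap B F).comp (algebraMap K B)).toAlgebra
    haveI : IsScalarTower L B F := IsScalarTower.of_algebraMap_eq fun _ => rfl
    haveI : IsScalarTower K B F := IsScalarTower.of_algebraMap_eq fun _ => rfl
    haveI : IsScalarTower k L F := IsScalarTower.of_algebraMap_eq fun x =>
      (IsScalarTower.algebraMap_apply k B F x).trans
        (congrArg (algebraMap B F) (IsScalarTower.algebraMap_apply k L B x))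
    haveI : IsScalarTower k K F := IsScalarTower.of_algebraMap_eq fun x =>
      (IsScalarTower.algebraMap_apply k B F x).trans
        (congrArg (algebraMap B F) (IsScalarTower.algebraMap_apply k K B x))
    obtain ⟨eF⟩ := exists_splitting_extend e F
    obtain ⟨a⟩ := nonempty_levelMap_twist e' eF j
    obtain ⟨a'⟩ := nonempty_levelMap_twist e eF j
    exact ⟨(Scheme.Modules.pullbackComp (levelMap f B F) g').app _ ≪≫
      (Scheme.Modules.pullbackCongr (levelMap_comp L B F)).app _ ≪≫ a ≪≫ a'.symm ≪≫
      (Scheme.Modules.pullbackCongr (levelMap_comp K B F).symm).app _ ≪≫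
      ((Scheme.Modules.pullbackComp (levelMap f B F) ρ).app _).symm⟩
  haveI : Algebra.IsPushout k K L B := TensorProduct.isPushout
  have sqS : IsPullback (Spec.map (CommRingCat.ofHom (algebraMap K B))) (Spec.map (CommRingCat.ofHom (algebraMap L B)))
      (Spec.map (CommRingCat.ofHom (algebraMap k K))) (Spec.map (CommRingCat.ofHom (algebraMap k L))) :=
    isPullback_SpecMap_of_isPushout _ _ _ _ (CommRingCat.isPushout_of_isPushout k K L B)
  have sq : IsPullback g' ρ g q := by
    have h := (isPullback_levelMap f L B).paste_vert sqS.flip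
    rw [← levelMap_to f K B, show BrSev.bcTo f L ≫ Spec.map (CommRingCat.ofHom (algebraMap k L)) = g ≫ f from
      pullback.condition.symm] at h
    exact IsPullback.of_bot h (levelMap_proj f L B |>.trans (levelMap_proj f K B).symm)
      (IsPullback.of_hasPullback f (Spec.map (CommRingCat.ofHom (algebraMap k K))))
  haveI := W7FlatBC.isIso_baseChangeMap sq (LocFree.isQCoh_of_isFinLocFree (ResDesc.isFinLocFree_of_isInvertible hWL))
  let β : (Scheme.Modules.pullback q).obj ((Scheme.Modules.pushforward g).obj (e'.twist j)) ≅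
      (Scheme.Modules.pushforward ρ).obj ((Scheme.Modules.pullback g').obj (e'.twist j)) :=
    asIso ((Scheme.Modules.pullback q).map ((Scheme.Modules.pushforward g).map
        ((Scheme.Modules.pullbackPushforwardAdjunction g').unit.app (e'.twist j))) ≫
      (Scheme.Modules.pullback q).map ((Scheme.Modules.pushforwardComp g' g ≪≫ Scheme.Modules.pushforwardCongr sq.w ≪≫
        (Scheme.Modules.pushforwardComp ρ q).symm).hom.app ((Scheme.Modules.pullback g').obj (e'.twist j))) ≫
      (Scheme.Modules.pullbackPushforwardAdjunction q).counit.app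
        ((Scheme.Modules.pushforward ρ).obj ((Scheme.Modules.pullback g').obj (e'.twist j))))
  letI : (BrSev.bc f K).Over (Spec (CommRingCat.of K)) := ⟨BrSev.bcTo f K⟩
  letI : (BrSev.bc f B).Over (Spec (CommRingCat.of B)) := ⟨BrSev.bcTo f B⟩
  obtain ⟨γ⟩ := nonempty_pushforward_pullback_iso (K := K) (B := B) ρ (isPullback_levelMap f K B)
    (LocFree.isQCoh_of_isFinLocFree (ResDesc.isFinLocFree_of_isInvertible hM))
  exact ⟨(Scheme.Modules.pushforward g).obj (e'.twist j), Module.finrank K B, Module.finrank_pos,
    ResDesc.isFinLocFree_push g (ResDesc.isFinLocFree_of_isInvertible hWL),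
    ⟨β ≪≫ (Scheme.Modules.pushforward ρ).mapIso θ ≪≫ γ⟩⟩

/-- Every twisting type occurs. -/
theorem exists_type_of_isAlgClosed [IsProper f] [IsAlgClosed K] [Algebra.IsAlgebraic k K]
    (e : BrSev.Splitting f K n) (j : ℤ) :
    ∃ (W : X.Modules) (r : ℕ), FlatMod.IsFinLocFree W ∧ Indec W ∧ 0 < r ∧ BrSev.IsTwPow e j r W := by
  obtain ⟨L, hL, ⟨e'⟩⟩ := exists_finite_splitting e
  haveI := hL
  obtain ⟨V, d, hd, hV, ⟨a⟩⟩ := exists_push_type e L e' j
  haveI := connectedSpace_splitting e
  have hinv := isInvertible_twist e j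
  letI : X.Over (Spec (CommRingCat.of k)) := ⟨f⟩
  haveI : IsProper (X ↘ Spec (CommRingCat.of k)) := inferInstanceAs (IsProper f)
  haveI : IsLocallyNoetherian X := LocallyOfFiniteType.isLocallyNoetherian f
  letI : (BrSev.bc f K).Over (Spec (CommRingCat.of K)) := ⟨BrSev.bcTo f K⟩
  haveI : IsProper (BrSev.bc f K ↘ Spec (CommRingCat.of K)) :=
    inferInstanceAs (IsProper (pullback.snd f (Spec.map (CommRingCat.ofHom (algebraMap k K)))))
  have sq : IsPullback (BrSev.proj f K) (BrSev.bc f K ↘ Spec (CommRingCat.of K)) (X ↘ Spec (CommRingCat.of k))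
      (Spec.map (CommRingCat.ofHom (algebraMap k K))) := IsPullback.of_hasPullback _ _
  have hV0 : ¬ IsZero V := fun h => not_isZero_pow (p := f) (indec_invertible hinv) hd
    (((Scheme.Modules.pullback (BrSev.proj f K)).map_isZero h).of_iso a.symm)
  obtain ⟨G, m, hG, hGi, -, t, ⟨et⟩⟩ := exists_iso_pow_indec (k := k) (K := K) (BrSev.proj f K) sq hV hV0 (e.twist j)
    (K0Coh.isCoh_of_isFinLocFree (ResDesc.isFinLocFree_of_isInvertible hinv)) (indec_invertible hinv) d a
  refine ⟨G, t, hG, hGi, ?_, ⟨et⟩⟩
  rcases Nat.eq_zero_or_pos t with rfl | h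
  · exact absurd (isZero_of_isZero_pullback (BrSev.proj f K) sq (K0Coh.isCoh_of_isFinLocFree hG)
      ((isZero_pow_zero (p := f) (e.twist j)).of_iso et)) hGi.1
  · exact h

end Groth.Agent.KrullSch
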