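import Groth.Agent.KrullSch.IndexRows
import Groth.Agent.S0086
import Mathlib

/-! Descent of twists on Severi–Brauer schemes split by a finite Galois extension. -/

set_option autoImplicit false
set_option backward.isDefEq.respectTransparency false
set_option backward.isDefEq.respectTransparency.types false
set_option linter.style.haveILetI false

universe u

open CategoryTheory CategoryTheory.Limits AlgebraicGeometry
open Groth.Agent.Brauer

attribute [local instance] CategoryTheory.Abelian.hasFiniteBiproducts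

noncomputable section

namespace Groth.Agent.KrullSch

variable {k : Type u} [Field k] {X : Scheme.{u}} {f : X ⟶ Spec (CommRingCat.of k)} {n : ℕ}
  {L : Type u} [Field L] [Algebra k L]

/-- A split form of projective space is proper. -/
theorem isProper_of_splitting (e : BrSev.Splitting f L n) : IsProper f := by
  haveI : MorphismProperty.DescendsAlong @IsProper
      (@Surjective ⊓ @Flat ⊓ @QuasiCompact : MorphismProperty Scheme.{u}) := S0086.result
  haveI : IsProper (CohB1.ProjSpace.toSpec n L) := ProjMor.isProper_toSpec n L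
  haveI h1 : IsProper (BrSev.bcTo f L) := by
    rw [← e.comm]
    infer_instance
  haveI : Surjective (Spec.map (CommRingCat.ofHom (algebraMap k L))) :=
    ⟨fun x => ⟨Classical.arbitrary _, Subsingleton.elim _ _⟩⟩
  haveI : Flat (Spec.map (CommRingCat.ofHom (algebraMap k L))) :=
    (HasRingHomProperty.Spec_iff (P := @Flat)).2 (RingHom.flat_algebraMap_iff.2 inferInstance)
  exact MorphismProperty.of_isPullback_of_descendsAlong (P := @IsProper)
    (Q := @Surjective ⊓ @Flat ⊓ @QuasiCompact) (IsPullback.of_hasPullback f _).flip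
    ⟨⟨inferInstance, inferInstance⟩, inferInstance⟩ h1

/-- Splittings extend to larger fields. -/
theorem exists_splitting_extend (e : BrSev.Splitting f L n) (K : Type u) [Field K] [Algebra k K] [Algebra L K]
    [IsScalarTower k L K] : Nonempty (BrSev.Splitting f K n) := by
  obtain ⟨κ, hκ, -⟩ := exists_projMap L K n
  have h1 : IsPullback (levelMap f L K ≫ e.iso.hom) (W4bk4gw11416.baseChangeTo f K) (CohB1.ProjSpace.toSpec n L)
      (Spec.map (CommRingCat.ofHom (algebraMap L K))) :=
    IsPullback.of_iso (isPullback_levelMap f L K) (Iso.refl _) e.iso (Iso.refl _) (Iso.refl _)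
      (Category.id_comp _).symm (by simp) ((Category.comp_id _).trans e.comm.symm) (by simp)
  exact ⟨⟨h1.isoIsPullback _ _ hκ, h1.isoIsPullback_hom_snd _ _ hκ⟩⟩

/-- An invertible module of type `j` exists exactly if the period divides `j`. -/
theorem exists_invertible_iff [IsGalois k L] [FiniteDimensional k L] {A : Type u} [Ring A] [Algebra k A]
    [Algebra.IsCentral k A] [IsSimpleRing A] (hA : Module.finrank k A = (n + 1) * (n + 1))
    (hX : BrSev.IsSBOf k A ((n + 1) * (n + 1) - (n + 1)) f) {d : ℕ} (hd : CSAGal.IsPeriod k A d)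
    (e : BrSev.Splitting f L n) (j : ℤ) :
    (∃ M : X.Modules, PicF.IsInvertible M ∧ BrSev.IsTwPow e j 1 M) ↔ (d : ℤ) ∣ j := by
  haveI := isProper_of_splitting e
  haveI : Module.Finite k A :=
    Module.finite_of_finrank_pos (by rw [hA]; exact Nat.mul_pos (Nat.succ_pos n) (Nat.succ_pos n))
  have hC : IsCSA k A := ⟨inferInstance, inferInstance, inferInstance⟩
  obtain ⟨-, hper⟩ := period_spec hC hd
  let K := AlgebraicClosure k
  let ι : L →ₐ[k] K := IsAlgClosed.lift
  letI : Algebra L K := ι.toRingHom.toAlgebra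
  haveI : IsScalarTower k L K := IsScalarTower.of_algebraMap_eq fun x => (ι.commutes x).symm
  obtain ⟨eK⟩ := exists_splitting_extend e K
  obtain ⟨b⟩ := nonempty_levelMap_twist e eK j
  have hlift : ∀ {M : X.Modules}, BrSev.IsTwPow e j 1 M → BrSev.IsTwPow eK j 1 M := fun {M} ⟨a⟩ =>
    ⟨(Scheme.Modules.pullbackCongr (levelMap_proj f L K).symm).app _ ≪≫
      ((Scheme.Modules.pullbackComp (levelMap f L K) (W4c1astiltbs12.proj f L)).app _).symm ≪≫
      (Scheme.Modules.pullback (levelMap f L K)).mapIso a ≪≫ pullPowIso (levelMap f L K) (e.twist j) 1 ≪≫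
      Sigma.mapIso fun _ => b⟩
  constructor
  · rintro ⟨M, hM, hMt⟩
    haveI : ConnectedSpace ↥(BrSev.bc f L) := connectedSpace_splitting e
    haveI : Surjective (Spec.map (CommRingCat.ofHom (algebraMap k L))) :=
      ⟨fun x => ⟨Classical.arbitrary _, Subsingleton.elim _ _⟩⟩
    haveI : Surjective (BrSev.proj f L) := MorphismProperty.pullback_fst (P := @Surjective) _ _ ‹_›
    haveI : ConnectedSpace X :=
      (BrSev.proj f L).surjective.connectedSpace (BrSev.proj f L).continuous
    have h := (indDvd_iff_twPow eK hA hX j (ResDesc.isFinLocFree_of_isInvertible hM) (indec_invertible hM)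
      Nat.one_pos (hlift hMt) 1).2 ⟨Nat.one_pos, dvd_rfl⟩
    exact Int.natCast_dvd.2 ((hper _).1 h)
  · intro hdj
    obtain ⟨W, r, hW, hWi, hr, hWt⟩ := exists_type_of_isSBOf (d := n + 1) (Nat.succ_pos n) hA hX eK j
    obtain rfl : r = 1 := Nat.dvd_one.1
      ((indDvd_iff_twPow eK hA hX j hW hWi hr hWt 1).1 ((hper _).2 (Int.natCast_dvd.1 hdj))).2
    have hinv := isInvertible_of_twPow_one eK hW hWt
    obtain ⟨j', ⟨c⟩⟩ := exists_iso_twist e (PicLoc.isInvertible_pullback (BrSev.proj f L) hinv)
    let one : ∀ {Y : Scheme.{u}} (N : Y.Modules), N ≅ BrSev.pow N 1 := fun N =>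
      { hom := Sigma.ι (fun _ : Fin 1 => N) 0
        inv := Sigma.desc fun _ => 𝟙 _
        hom_inv_id := Sigma.ι_desc _ _
        inv_hom_id := Sigma.hom_ext _ _ fun i => by
          rw [Sigma.ι_desc_assoc, Category.id_comp, Category.comp_id, Subsingleton.elim i 0] }
    obtain ⟨b'⟩ := nonempty_levelMap_twist e eK j'
    obtain ⟨a⟩ := hWt
    have φ : eK.twist j' ≅ eK.twist j := b'.symm ≪≫
      (Scheme.Modules.pullback (levelMap f L K)).mapIso c.symm ≪≫
      (Scheme.Modules.pullbackComp (levelMap f L K) (W4c1astiltbs12.proj f L)).app _ ≪≫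
      (Scheme.Modules.pullbackCongr (levelMap_proj f L K)).app _ ≪≫ a ≪≫ (one _).symm
    refine ⟨W, hinv, ⟨c ≪≫ Classical.choice ?_ ≪≫ one _⟩⟩
    rcases Nat.eq_zero_or_pos n with rfl | hn
    · refine ⟨(Scheme.Modules.pullback e.iso.hom).mapIso (Classical.choice ?_)⟩
      have h : ∀ i : ℤ, Nonempty (Twist.twistProjSpace 0 L i ≅ Coh.structureModule _) := fun i => by
        obtain ⟨g, hg⟩ := PicPn.exists_gen_ch (CIPicGlobal.isInvertible_twist (n := 0) (k := L) i) (0 : Fin 1)
        have htop : (⊤ : (CohB1.ProjSpace 0 L).Opens) ≤ PicPn.ch 0 := fun y _ => by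
          obtain ⟨l, hl⟩ := PicPn.exists_mem_ch y
          rwa [show l = 0 from Fin.ext (by omega)] at hl
        haveI := PicPn.isIso_homOf (hg.res htop)
        exact ⟨(asIso (TMul.homOf (QC.res _ htop g))).symm⟩
      exact ⟨(h j').some ≪≫ (h j).some.symm⟩
    · have hinv' : ∀ i : ℤ, PicF.IsInvertible (Twist.twistProjSpace n K i) := fun i =>
        CIPicGlobal.isInvertible_twist (k := K) i
      let ψ : Twist.twistProjSpace n K j' ≅ Twist.twistProjSpace n K j :=
        ((Scheme.Modules.pullbackId _).app _).symm ≪≫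
          (Scheme.Modules.pullbackCongr eK.iso.inv_hom_id.symm).app _ ≪≫
          ((Scheme.Modules.pullbackComp eK.iso.inv eK.iso.hom).app _).symm ≪≫
          (Scheme.Modules.pullback eK.iso.inv).mapIso φ ≪≫
          (Scheme.Modules.pullbackComp eK.iso.inv eK.iso.hom).app _ ≪≫
          (Scheme.Modules.pullbackCongr eK.iso.inv_hom_id).app _ ≪≫ (Scheme.Modules.pullbackId _).app _
      obtain rfl : j' = j :=
        (PicPn.existsUnique_iso hn _ (hinv' j')).unique ⟨Iso.refl _⟩ ⟨ψ⟩
      exact ⟨Iso.refl _⟩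

end Groth.Agent.KrullSch
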