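import Groth.Agent.RefStalk.RankOne
import Groth.Agent.RefStalk.Codim
import Groth.Agent.RegLocus.Smooth
import Groth.Agent.UFDLib.Regular
import Groth.Agent.S0558
import Groth.Agent.S6873
import Groth.Agent.S6874
import Mathlib

/-! A saturated lattice under the action of a split algebra over a regular ring is projective. -/

set_option autoImplicit false
set_option backward.isDefEq.respectTransparency false
set_option backward.isDefEq.respectTransparency.types false
set_option linter.style.haveILetI false
set_option maxHeartbeats 1000000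

universe u

open TensorProduct
open scoped nonZeroDivisors

noncomputable section

namespace Groth.Agent.KrullSch

section MatrixUnits

variable {S : Type u} [CommRing S] {T : Type u} [AddCommGroup T] [Module S T] {r : ℕ}
  (E : Fin r → Fin r → (T →ₗ[S] T))

/-- Matrix units decompose a module into copies of the image of one of them. -/
def unitsEquiv (i₀ : Fin r) (h1 : ∀ i j l, E i j ∘ₗ E j l = E i l)
    (h0 : ∀ i j j' l, j ≠ j' → E i j ∘ₗ E j' l = 0) (hsum : ∑ i, E i i = LinearMap.id) :
    T ≃ₗ[S] (Fin r → LinearMap.range (E i₀ i₀)) where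
  toFun x i := ⟨E i₀ i x, E i₀ i x, LinearMap.congr_fun (h1 i₀ i₀ i) x⟩
  map_add' x y := funext fun i => Subtype.ext (map_add (E i₀ i) x y)
  map_smul' c x := funext fun i => Subtype.ext (map_smul (E i₀ i) c x)
  invFun y := ∑ i, E i i₀ (y i).1
  left_inv x := by
    show ∑ i, E i i₀ (E i₀ i x) = x
    have h : ∀ i, E i i₀ (E i₀ i x) = E i i x := fun i => LinearMap.congr_fun (h1 i i₀ i) x
    simp only [h]
    rw [← LinearMap.sum_apply, hsum]
    rfl
  right_inv y := funext fun j => Subtype.ext (by
    show E i₀ j (∑ i, E i i₀ (y i).1) = (y j).1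
    rw [map_sum, Finset.sum_eq_single j (fun i _ hi => by exact LinearMap.congr_fun (h0 i₀ j i i₀ (Ne.symm hi)) (y i).1)
      (fun h => absurd (Finset.mem_univ j) h)]
    obtain ⟨z, hz⟩ := (y j).2
    refine (LinearMap.congr_fun (h1 i₀ j i₀) (y j).1).trans ?_
    rw [← hz]
    exact LinearMap.congr_fun (h1 i₀ i₀ i₀) z)

end MatrixUnits

variable {k : Type u} [Field k] {R : Type u} [CommRing R] [Algebra k R] {F : Type u} [Field F] [Algebra R F]
  [Algebra k F] [IsScalarTower k R F] {N : ℕ}

/-- The vectors over the ring lying in a subspace over the fraction field. -/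
def sat (R : Type u) [CommRing R] [Algebra R F] (J : Submodule F (Fin N → F)) : Submodule R (Fin N → R) :=
  (J.restrictScalars R).comap ((Algebra.linearMap R F).compLeft (Fin N))

theorem mem_sat {J : Submodule F (Fin N → F)} {v : Fin N → R} :
    v ∈ sat R J ↔ (fun i => algebraMap R F (v i)) ∈ J := Iff.rfl

variable (J : Submodule F (Fin N → F)) {B : Type u} [Ring B] [Algebra k B]
  (ρ : B →ₐ[k] Matrix (Fin N) (Fin N) k)
  (hJ : ∀ b, ∀ v ∈ J, ((ρ b).map (algebraMap k F)).mulVec v ∈ J)

include hJ in
theorem mulVec_mem_sat (b : B) {v : Fin N → R} (hv : v ∈ sat R J) :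
    ((ρ b).map (algebraMap k R)).mulVec v ∈ sat R J := by
  rw [mem_sat] at hv ⊢
  convert hJ b _ hv using 1
  funext i
  rw [RingHom.map_mulVec]
  congr 1
  ext a c
  exact (IsScalarTower.algebraMap_apply k R F _).symm

/-- The action on the lattice. -/
def satAct : B →ₐ[k] Module.End R (sat R J) where
  toFun b := (Matrix.mulVecLin ((ρ b).map (algebraMap k R))).restrict fun _ hv => mulVec_mem_sat J ρ hJ b hv
  map_one' := LinearMap.ext fun v => Subtype.ext (by
    show ((ρ 1).map (algebraMap k R)).mulVec v.1 = v.1
    rw [map_one, Matrix.map_one _ (map_zero _) (map_one _), Matrix.one_mulVec])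
  map_mul' a b := LinearMap.ext fun v => Subtype.ext (by
    show ((ρ (a * b)).map (algebraMap k R)).mulVec v.1 =
      ((ρ a).map (algebraMap k R)).mulVec (((ρ b).map (algebraMap k R)).mulVec v.1)
    rw [map_mul, Matrix.map_mul, Matrix.mulVec_mulVec])
  map_zero' := LinearMap.ext fun v => Subtype.ext (by
    show ((ρ 0).map (algebraMap k R)).mulVec v.1 = 0
    rw [map_zero, Matrix.map_zero _ (map_zero _), Matrix.zero_mulVec])
  map_add' a b := LinearMap.ext fun v => Subtype.ext (by
    show ((ρ (a + b)).map (algebraMap k R)).mulVec v.1 =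
      ((ρ a).map (algebraMap k R)).mulVec v.1 + ((ρ b).map (algebraMap k R)).mulVec v.1
    rw [map_add, Matrix.map_add _ (map_add _), Matrix.add_mulVec])
  commutes' c := LinearMap.ext fun v => Subtype.ext (by
    show ((ρ (algebraMap k B c)).map (algebraMap k R)).mulVec v.1 = c • v.1
    rw [AlgHom.commutes, Matrix.algebraMap_eq_diagonal, Matrix.diagonal_map (map_zero _)]
    funext i
    rw [Matrix.mulVec_diagonal]
    exact (Algebra.smul_def c (v.1 i)).symm)

variable [IsFractionRing R F]

/-- The lattice is a full one. -/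
theorem exists_sat_iso [IsDomain R] : ∃ ι : sat R J →ₗ[R] J, IsLocalizedModule R⁰ ι := by
  refine ⟨{ toFun := fun v => ⟨fun i => algebraMap R F (v.1 i), v.2⟩
            map_add' := fun v w => Subtype.ext (funext fun i => map_add _ _ _)
            map_smul' := fun c v => Subtype.ext (funext fun i => by
              show algebraMap R F (c * v.1 i) = c • algebraMap R F (v.1 i)
              rw [map_mul, Algebra.smul_def]) }, ?_, ?_, ?_⟩
  · intro s
    have hs : algebraMap R F s.1 ≠ 0 :=
      fun h => nonZeroDivisors.ne_zero s.2 ((map_eq_zero_iff _ (IsFractionRing.injective R F)).1 h)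
    rw [Module.End.isUnit_iff]
    refine ⟨fun x y h => ?_, fun y => ⟨(algebraMap R F s.1)⁻¹ • y, ?_⟩⟩
    · change (s : R) • x = (s : R) • y at h
      rw [← algebraMap_smul F (s : R) x, ← algebraMap_smul F (s : R) y] at h
      exact (smul_right_injective J hs h)
    · show (s : R) • ((algebraMap R F s.1)⁻¹ • y) = y
      rw [← algebraMap_smul F (s : R), smul_smul, mul_inv_cancel₀ hs, one_smul]
  · intro y
    obtain ⟨d, hd⟩ := IsLocalization.exist_integer_multiples_of_finite R⁰ y.1
    choose v hv using hd
    have hv' : (fun i => algebraMap R F (v i)) = (d : R) • y.1 := funext fun i => hv i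
    exact ⟨(⟨v, mem_sat.2 (by rw [hv']; exact (J.restrictScalars R).smul_mem _ y.2)⟩, d),
      Subtype.ext hv'.symm⟩
  · intro x₁ x₂ h
    refine ⟨1, ?_⟩
    rw [one_smul, one_smul]
    exact Subtype.ext (funext fun i => IsFractionRing.injective R F (congrFun (congrArg Subtype.val h) i))

include hJ in
/-- The lattice is projective. -/
theorem projective_sat [IsDomain R] [IsRegularRing R] (L : Type u) [Field L] [Algebra k L] [Module.Finite k L]
    [Algebra.IsSeparable k L] {r : ℕ} (e : L ⊗[k] B ≃ₐ[L] Matrix (Fin r) (Fin r) L) (hr : 0 < r)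
    (hdim : Module.finrank F J = r) : Module.Projective R (sat R J) := by
  classical
  let M := sat R J
  haveI : Module.FinitePresentation R M := Module.finitePresentation_of_finite R M
  haveI : Module.IsReflexive R M := by
    refine (S6873.result R M).2 ⟨N, M.subtype, Subtype.val_injective, ?_⟩
    rw [Submodule.range_subtype, Module.isTorsionFree_iff_smul_eq_zero]
    intro c q hcq
    obtain ⟨w, rfl⟩ := Submodule.Quotient.mk_surjective _ q
    rw [← Submodule.Quotient.mk_smul, Submodule.Quotient.mk_eq_zero] at hcq
    by_contra! hne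
    obtain ⟨hc, hw⟩ := hne
    refine hw ((Submodule.Quotient.mk_eq_zero _).2 ?_)
    have hc' : algebraMap R F c ≠ 0 := fun h => hc ((map_eq_zero_iff _ (IsFractionRing.injective R F)).1 h)
    have h1 : algebraMap R F c • (fun i => algebraMap R F (w i)) ∈ J := by
      convert (mem_sat.1 hcq) using 1
      funext i
      exact (map_mul (algebraMap R F) c (w i)).symm
    have h2 := J.smul_mem (algebraMap R F c)⁻¹ h1
    rw [smul_smul, inv_mul_cancel₀ hc', one_smul] at h2
    exact h2
  suffices h : Module.Flat R M from Module.Flat.projective_of_finitePresentation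
  let R' := R ⊗[k] L
  letI : Algebra L R' := Algebra.TensorProduct.rightAlgebra
  haveI : IsScalarTower k L R' := IsScalarTower.of_algebraMap_eq fun x =>
    ((Algebra.TensorProduct.includeRight : L →ₐ[k] R').commutes x).symm
  haveI : Algebra.Etale k L :=
    ⟨Algebra.FormallyEtale.of_isSeparable k L, Algebra.FinitePresentation.of_finiteType.1 inferInstance⟩
  haveI : IsRegularRing R' := RegLocus.isRegularRing_of_etale R R'
  haveI : Module.FaithfullyFlat R R' := inferInstance
  refine (Module.Flat.iff_flat_tensorProduct R M R').1 (Module.flat_of_localized_maximal _ fun q hq => ?_)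
  haveI := hq
  let S := Localization.AtPrime q
  haveI : IsRegularLocalRing S := IsRegularRing.isRegularLocalRing_localization q
  haveI : IsDomain S := S0558.result S
  haveI : UniqueFactorizationMonoid S := UFDLib.ufd_of_isRegularLocalRing S
  haveI : IsNoetherianRing S := inferInstance
  haveI : Module.Flat R S := Module.Flat.trans R R' S
  let T := S ⊗[R] M
  suffices hT : Module.Free S T by
    haveI : Module.Flat S T := inferInstance
    let θ : LocalizedModule q.primeCompl (R' ⊗[R] M) ≃ₗ[S] T :=
      ((IsLocalizedModule.isBaseChange q.primeCompl S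
        (LocalizedModule.mkLinearMap q.primeCompl (R' ⊗[R] M))).equiv.symm).trans
        (AlgebraTensorModule.cancelBaseChange R R' S S M)
    haveI : Module.Flat S (LocalizedModule q.primeCompl (R' ⊗[R] M)) := Module.Flat.of_linearEquiv θ
    exact Module.Flat.trans R' S _
  haveI : Module.IsReflexive S T := S6874.result R S M
  haveI : IsScalarTower k L S := IsScalarTower.of_algebraMap_eq fun x =>
    (IsScalarTower.algebraMap_apply k R' S x).trans
      ((congrArg (algebraMap R' S) (IsScalarTower.algebraMap_apply k L R' x)).trans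
        (IsScalarTower.algebraMap_apply L R' S _).symm)
  let act₀ : B →ₐ[k] Module.End S T :=
    ((Module.End.baseChangeHom R S M).restrictScalars k).comp (satAct J ρ hJ)
  let act : L ⊗[k] B →ₐ[L] Module.End S T :=
    Algebra.TensorProduct.lift (Algebra.ofId L _) act₀ fun l b => Algebra.commutes l (act₀ b)
  let E : Fin r → Fin r → (T →ₗ[S] T) := fun i j => act (e.symm (Matrix.single i j 1))
  have hE1 : ∀ i j l, E i j ∘ₗ E j l = E i l := fun i j l => by
    show act (e.symm (Matrix.single i j 1)) * act (e.symm (Matrix.single j l 1)) = _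
    rw [← map_mul, ← map_mul, Matrix.single_mul_single_same, one_mul]
  have hE0 : ∀ i j j' l, j ≠ j' → E i j ∘ₗ E j' l = 0 := fun i j j' l h => by
    show act (e.symm (Matrix.single i j 1)) * act (e.symm (Matrix.single j' l 1)) = _
    rw [← map_mul, ← map_mul, Matrix.single_mul_single_of_ne _ _ _ _ h, map_zero, map_zero]
  have hEs : ∑ i, E i i = LinearMap.id := by
    show ∑ i, act (e.symm (Matrix.single i i 1)) = _
    rw [← map_sum, ← map_sum, Matrix.sum_single_eq_diagonal, Matrix.diagonal_one, map_one, map_one]
    rfl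
  let i₀ : Fin r := ⟨0, hr⟩
  let P : Submodule S T := LinearMap.range (E i₀ i₀)
  letI : AddCommGroup P := Module.addCommMonoidToAddCommGroup S
  let θP : T ≃ₗ[S] (Fin r → P) := unitsEquiv (S := S) (T := T) E i₀ hE1 hE0 hEs
  haveI : Module.IsReflexive S P := by
    refine Module.IsReflexive.of_split P.subtype (E i₀ i₀).rangeRestrict (LinearMap.ext fun x => Subtype.ext ?_)
    obtain ⟨z, hz⟩ := x.2
    show E i₀ i₀ x.1 = x.1
    rw [← hz]
    exact LinearMap.congr_fun (hE1 i₀ i₀ i₀) z
  haveI : Module.IsTorsionFree S P := RefStalk.isTorsionFree_of_isReflexive P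
  let G := FractionRing S
  have hinj : Function.Injective (algebraMap R G) := by
    rw [IsScalarTower.algebraMap_eq R S G, RingHom.coe_comp]
    refine (IsFractionRing.injective S G).comp ((injective_iff_map_eq_zero (algebraMap R S)).2 fun c hc => ?_)
    by_contra hc0
    refine one_ne_zero (α := S) (smul_right_injective S hc0 ?_)
    show c • (1 : S) = c • (0 : S)
    rw [smul_zero, Algebra.smul_def, hc, zero_mul]
  letI : Algebra F G := (IsFractionRing.lift (A := R) (K := F) hinj).toAlgebra
  haveI : IsScalarTower R F G := IsScalarTower.of_algebraMap_eq fun x =>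
    (IsFractionRing.lift_algebraMap hinj x).symm
  obtain ⟨ι, hι⟩ := exists_sat_iso (R := R) J
  haveI := hι
  let ebc : F ⊗[R] M ≃ₗ[F] J := (IsLocalizedModule.isBaseChange R⁰ F ι).equiv
  haveI : Module.Finite G (G ⊗[S] P) := inferInstance
  have h1 : Module.finrank G (G ⊗[S] P) = 1 := by
    let c : (Fin r → G ⊗[S] P) ≃ₗ[G] G ⊗[F] J :=
      (TensorProduct.piRight S G G (fun _ : Fin r => P)).symm ≪≫ₗ
        AlgebraTensorModule.congr (LinearEquiv.refl G G) θP.symm ≪≫ₗ
        AlgebraTensorModule.cancelBaseChange R S G G M ≪≫ₗ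
        (AlgebraTensorModule.cancelBaseChange R F G G M).symm ≪≫ₗ
        AlgebraTensorModule.congr (LinearEquiv.refl G G) ebc
    have h := c.finrank_eq
    have h2 : Module.finrank G (G ⊗[F] J) = r := (Module.finrank_baseChange (R := G)).trans hdim
    rw [Module.finrank_pi_fintype, Finset.sum_const, Finset.card_univ, Fintype.card_fin, smul_eq_mul,
      h2] at h
    exact Nat.eq_of_mul_eq_mul_left hr (h.trans (mul_one r).symm)
  haveI : Nontrivial P := by
    by_contra hn
    rw [not_nontrivial_iff_subsingleton] at hn
    haveI := hn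
    rw [Module.finrank_zero_of_subsingleton] at h1
    exact zero_ne_one h1
  let mk : P →ₗ[S] G ⊗[S] P := TensorProduct.mk S G P 1
  haveI : IsLocalizedModule S⁰ mk := inferInstance
  have hmk : Function.Injective mk := (injective_iff_map_eq_zero mk).2 fun x hx => by
    obtain ⟨c, hc⟩ := (IsLocalizedModule.eq_zero_iff S⁰ mk).1 hx
    exact smul_right_injective P (nonZeroDivisors.ne_zero c.2)
      (show (c : S) • x = (c : S) • (0 : P) by rw [smul_zero]; exact hc)
  have hdep : ∀ m m' : P, m ≠ 0 → ∃ a b : S, b ≠ 0 ∧ b • m' = a • m := by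
    intro m m' hm
    obtain ⟨g, hg⟩ := (finrank_eq_one_iff_of_nonzero' (mk m) (fun h => hm (hmk (h.trans (map_zero mk).symm)))).1 h1 (mk m')
    obtain ⟨⟨a, b⟩, hab⟩ := IsLocalization.surj S⁰ g
    refine ⟨a, b.1, nonZeroDivisors.ne_zero b.2, hmk ?_⟩
    rw [map_smul, map_smul, ← hg, ← algebraMap_smul G (b : S), ← algebraMap_smul G a, smul_smul, mul_comm,
      show g * algebraMap S G (b : S) = algebraMap S G a from hab]
  obtain ⟨eP⟩ := RefStalk.exists_equiv_of_isReflexive hdep
  haveI : Module.Free S P := Module.Free.of_equiv eP.symm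
  exact Module.Free.of_equiv θP.symm

end Groth.Agent.KrullSch
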