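import Groth.Agent.KrullSch.IndexRows
import Groth.Agent.P1Split.Main
import Mathlib

/-! Absolutely split modules on Severi–Brauer schemes of index two. -/

set_option autoImplicit false
set_option backward.isDefEq.respectTransparency false
set_option backward.isDefEq.respectTransparency.types false
set_option linter.style.haveILetI false

universe u v w

open CategoryTheory CategoryTheory.Limits AlgebraicGeometry
open Groth.Agent.Brauer

attribute [local instance] CategoryTheory.Abelian.hasFiniteBiproducts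

noncomputable section

namespace Groth.Agent.KrullSch

/-- A finite sum split along a partition of the indices. -/
theorem nonempty_sigma_partition {C : Type v} [Category.{w} C] [Abelian C] {t : ℕ} (M : Fin t → C)
    (P : Fin t → Prop) : ∃ (a b : ℕ) (u : Fin a → Fin t) (w : Fin b → Fin t),
      (∀ i, P (u i)) ∧ (∀ i, ¬ P (w i)) ∧ Nonempty ((∐ M) ≅ (∐ fun i => M (u i)) ⊞ ∐ fun i => M (w i)) := by
  classical
  let α := {i : Fin t // P i}
  let β := {i : Fin t // ¬ P i}
  let ea := Fintype.equivFin α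
  let eb := Fintype.equivFin β
  let u : Fin (Fintype.card α) → Fin t := fun i => (ea.symm i).1
  let w : Fin (Fintype.card β) → Fin t := fun i => (eb.symm i).1
  refine ⟨_, _, u, w, fun i => (ea.symm i).2, fun i => (eb.symm i).2, ⟨?_⟩⟩
  let hom' : ∀ i, M i ⟶ (∐ fun i => M (u i)) ⊞ ∐ fun i => M (w i) := fun i =>
    if h : P i then eqToHom (congrArg M (by simp [u] : i = u (ea ⟨i, h⟩))) ≫ Sigma.ι (fun i => M (u i)) _ ≫ biprod.inl
    else eqToHom (congrArg M (by simp [w] : i = w (eb ⟨i, h⟩))) ≫ Sigma.ι (fun i => M (w i)) _ ≫ biprod.inr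
  refine
    { hom := Sigma.desc hom'
      inv := biprod.desc (Sigma.desc fun i => Sigma.ι M (u i)) (Sigma.desc fun i => Sigma.ι M (w i))
      hom_inv_id := Sigma.hom_ext _ _ fun i => ?_
      inv_hom_id := biprod.hom_ext' _ _ (Sigma.hom_ext _ _ fun i => ?_) (Sigma.hom_ext _ _ fun i => ?_) }
  · rw [Sigma.ι_desc_assoc, Category.comp_id]
    by_cases h : P i
    · simp only [hom', dif_pos h, Category.assoc, biprod.inl_desc, Sigma.ι_desc]
      exact Sigma.eqToHom_comp_ι M (by simp [u])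
    · simp only [hom', dif_neg h, Category.assoc, biprod.inr_desc, Sigma.ι_desc]
      exact Sigma.eqToHom_comp_ι M (by simp [w])
  · rw [biprod.inl_desc_assoc, Category.comp_id, Sigma.ι_desc_assoc, Sigma.ι_desc]
    simp only [hom', dif_pos (show P (u i) from (ea.symm i).2)]
    rw [← Category.assoc]
    exact congrArg (· ≫ biprod.inl) (Sigma.eqToHom_comp_ι (fun i => M (u i)) (by simp [u]))
  · rw [biprod.inr_desc_assoc, Category.comp_id, Sigma.ι_desc_assoc, Sigma.ι_desc]
    simp only [hom', dif_neg (show ¬ P (w i) from (eb.symm i).2)]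
    rw [← Category.assoc]
    exact congrArg (· ≫ biprod.inr) (Sigma.eqToHom_comp_ι (fun i => M (w i)) (by simp [w]))

variable {k : Type u} [Field k] {X : Scheme.{u}} {f : X ⟶ Spec (CommRingCat.of k)} [IsProper f] {n : ℕ}
  {K : Type u} [Field K] [Algebra k K] [IsAlgClosure k K] (e : BrSev.Splitting f K n)

/-- The decomposition of split modules for algebras of index two. -/
theorem exists_split_index_two {A : Type u} [Ring A] [Algebra k A] [Algebra.IsCentral k A] [IsSimpleRing A]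
    (hA : Module.finrank k A = (n + 1) * (n + 1)) (hX : BrSev.IsSBOf k A ((n + 1) * (n + 1) - (n + 1)) f)
    (hi : CSAGal.IsIndex k A 2) (E : X.Modules) (hE : FlatMod.IsFinLocFree E)
    {s₀ : ℕ} (Ns : Fin s₀ → (BrSev.bc f K).Modules) (hNs : ∀ i, PicF.IsInvertible (Ns i))
    (hsplit : Nonempty (BrSev.bcMod f K E ≅ ∐ Ns)) :
    ∃ (s t : ℕ) (Ls : Fin s → X.Modules) (Ms : Fin t → X.Modules) (a : Fin s → ℤ) (b : Fin t → ℤ),
      (∀ i, PicF.IsInvertible (Ls i) ∧ BrSev.IsTwPow e (2 * a i) 1 (Ls i)) ∧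
      (∀ i, FlatMod.IsFinLocFree (Ms i) ∧
        (¬ IsZero (Ms i) ∧ ∀ M₁ M₂ : X.Modules, Nonempty ((Ms i) ≅ M₁ ⊞ M₂) → IsZero M₁ ∨ IsZero M₂) ∧
        BrSev.IsTwPow e (2 * b i + 1) 2 (Ms i)) ∧
      Nonempty (E ≅ (∐ Ls) ⊞ (∐ Ms)) := by
  classical
  haveI : Algebra.IsAlgebraic k K := IsAlgClosure.isAlgebraic
  haveI : Module.Finite k A :=
    Module.finite_of_finrank_pos (by rw [hA]; exact Nat.mul_pos (Nat.succ_pos n) (Nat.succ_pos n))
  have hC : IsCSA k A := ⟨inferInstance, inferInstance, inferInstance⟩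
  obtain ⟨-, hiff⟩ := indDvd_iff_of_isIndex hC hi
  have h2 : IndDvd k A 2 := (hiff 2).2 ⟨Nat.two_pos, dvd_rfl⟩
  have hs2 : IndDvd k (pw k A 2) 1 := split_of_indDvd hC h2
  haveI := connectedSpace_splitting e
  obtain ⟨a₀⟩ := hsplit
  obtain ⟨t, Ms, ⟨c⟩, hMs⟩ := exists_split_summands Ns (fun i => indec_invertible (hNs i)) hE a₀
  have htype : ∀ i, ∃ (j : ℤ) (r : ℕ), 0 < r ∧ BrSev.IsTwPow e j r (Ms i) := fun i => by
    obtain ⟨hf, hMi, m, v, ⟨d⟩⟩ := hMs i
    exact exists_isTwPow e (exists_type_of_isSBOf (d := n + 1) (Nat.succ_pos n) hA hX e) (Ms i) hf hMi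
      (fun l => Ns (v l)) (fun l => hNs (v l)) d
  choose j r hr hjr using htype
  have key := fun i => indDvd_iff_twPow e hA hX (j i) (hMs i).1 (hMs i).2.1 (hr i) (hjr i)
  have heven : ∀ i, Even (j i) → r i = 1 := fun i ⟨z, hz⟩ => Nat.dvd_one.1 ((key i 1).1 (by
    rw [show (j i).natAbs = 2 * z.natAbs by omega]
    exact indDvd_pw_split_mul hs2 _)).2
  have hodd : ∀ i, ¬ Even (j i) → r i = 2 := fun i hi' => by
    have h := ((key i 2).1 (h2.pwSame hC _)).2
    refine ((Nat.dvd_prime Nat.prime_two).1 h).resolve_left fun h1 => ?_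
    have h3 := (key i 1).2 ⟨Nat.one_pos, by rw [h1]⟩
    have h4 : (j i).natAbs ≡ 1 [MOD 2] := by
      rw [Int.even_iff] at hi'
      show (j i).natAbs % 2 = 1 % 2
      omega
    rw [Sim.indDvd_iff (hC.pw _) (hC.pw 1) (sim_pw_modEq hC hs2 h4), indDvd_pw_one, hiff] at h3
    exact absurd (Nat.le_of_dvd Nat.one_pos h3.2) (by norm_num)
  obtain ⟨p, q, u, w, hu, hw, ⟨φ⟩⟩ := nonempty_sigma_partition Ms fun i => Even (j i)
  refine ⟨p, q, fun i => Ms (u i), fun i => Ms (w i), fun i => j (u i) / 2, fun i => j (w i) / 2,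
    fun i => ?_, fun i => ?_, ⟨c ≪≫ φ⟩⟩
  · have h := hjr (u i)
    rw [heven _ (hu i), show j (u i) = 2 * (j (u i) / 2) by have := hu i; rw [Int.even_iff] at this; omega] at h
    exact ⟨isInvertible_of_twPow_one e (hMs (u i)).1 h, h⟩
  · have h := hjr (w i)
    rw [hodd _ (hw i), show j (w i) = 2 * (j (w i) / 2) + 1 by have := hw i; rw [Int.even_iff] at this; omega] at h
    exact ⟨(hMs (w i)).1, (hMs (w i)).2.1, h⟩

omit [IsProper f] [IsAlgClosure k K] in
/-- Over a split conic every locally free module is a sum of twists. -/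
theorem exists_split_conic (e : BrSev.Splitting f K 1) {E : X.Modules} (hE : FlatMod.IsFinLocFree E) :
    ∃ (s : ℕ) (Ns : Fin s → (BrSev.bc f K).Modules), (∀ i, PicF.IsInvertible (Ns i)) ∧
      Nonempty (BrSev.bcMod f K E ≅ ∐ Ns) := by
  haveI : AlgebraicGeometry.IsNoetherian (CohB1.ProjSpace 1 K) := CohFinite.isNoetherian_projSpace 1 K
  let E' := (Scheme.Modules.pullback e.iso.inv).obj (BrSev.bcMod f K E)
  have hE' : FlatMod.IsFinLocFree E' := DerPerf.isFinLocFree_pullback _ (DerPerf.isFinLocFree_pullback _ hE)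
  obtain ⟨d, -, ⟨a⟩⟩ := P1Split.exists_split (k := K) _ E' (K0Coh.isCoh_of_isFinLocFree hE')
    (P1Split.tf_of_locFree hE') rfl
  haveI := (Scheme.Modules.pullbackPushforwardAdjunction e.iso.hom).leftAdjoint_preservesColimits
  exact ⟨_, fun i => e.twist (d i), fun i => isInvertible_twist e (d i),
    ⟨((Scheme.Modules.pullbackId _).app _).symm ≪≫
      (Scheme.Modules.pullbackCongr e.iso.hom_inv_id.symm).app _ ≪≫
      ((Scheme.Modules.pullbackComp e.iso.hom e.iso.inv).app _).symm ≪≫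
      (Scheme.Modules.pullback e.iso.hom).mapIso a ≪≫ PreservesCoproduct.iso _ _⟩⟩

end Groth.Agent.KrullSch
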