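import Groth.Agent.KrullSch.PeriodEmbed
import Groth.Agent.KrullSch.EndBrauer
import Groth.Agent.KrullSch.UnivTwist
import Mathlib

/-! Severi–Brauer schemes with a form of `O(1)` are projective spaces. -/

set_option autoImplicit false
set_option backward.isDefEq.respectTransparency false
set_option backward.isDefEq.respectTransparency.types false
set_option linter.style.haveILetI false
set_option maxHeartbeats 1000000

universe u

open CategoryTheory CategoryTheory.Limits AlgebraicGeometry

attribute [local instance] CategoryTheory.Abelian.hasFiniteBiproducts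

noncomputable section

namespace Groth.Agent.KrullSch

/-- With commutative endomorphisms the multiplicity is one. -/
theorem multiplicity_eq_one_of_comm {k : Type u} [Field k] {K : Type u} [Field K] [Algebra k K] {X X' : Scheme.{u}}
    [X.Over (Spec (CommRingCat.of k))] [X'.Over (Spec (CommRingCat.of K))] [CompactSpace X] [IsLocallyNoetherian X]
    (g : X' ⟶ X)
    (sq : IsPullback g (X' ↘ Spec (CommRingCat.of K)) (X ↘ Spec (CommRingCat.of k))
      (Spec.map (CommRingCat.ofHom (algebraMap k K))))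
    {E : X.Modules} (hE : Coh.IsCoh E) (hc : ∀ a b : E ⟶ E, a ≫ b = b ≫ a) {L : X'.Modules} (h0 : 𝟙 L ≠ 0) {r : ℕ}
    (hr : 0 < r) (e : (Scheme.Modules.pullback g).obj E ≅ ∐ fun _ : Fin r => L) : r = 1 := by
  classical
  have hcomm : ∀ φ ψ : (Scheme.Modules.pullback g).obj E ⟶ (Scheme.Modules.pullback g).obj E, φ ≫ ψ = ψ ≫ φ := by
    intro φ ψ
    obtain ⟨T, γ, rfl⟩ := exists_expansion g sq hE hE.1 φ
    obtain ⟨T', γ', rfl⟩ := exists_expansion g sq hE hE.1 ψ
    simp only [Preadditive.sum_comp, Preadditive.comp_sum, Linear.smul_comp, Linear.comp_smul, Finset.smul_sum]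
    rw [Finset.sum_comm]
    refine Finset.sum_congr rfl fun b' _ => Finset.sum_congr rfl fun b _ => ?_
    rw [← Functor.map_comp, ← Functor.map_comp, hc, smul_comm]
  by_contra hne
  let a := e ≪≫ (biproduct.isoCoproduct _).symm
  let i₀ : Fin r := ⟨0, hr⟩
  let i₁ : Fin r := ⟨1, by omega⟩
  have h01 : i₁ ≠ i₀ := fun h => absurd (congrArg Fin.val h) (by simp [i₀, i₁])
  let P := fun i => a.hom ≫ biproduct.π (fun _ : Fin r => L) i
  let Q := fun i => biproduct.ι (fun _ : Fin r => L) i ≫ a.inv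
  have hQP : ∀ i, Q i ≫ P i = 𝟙 L := fun i => by simp [P, Q]
  have hQP' : ∀ i j, i ≠ j → Q i ≫ P j = 0 := fun i j h => by simp [P, Q, biproduct.ι_π_ne _ h]
  have h := congrArg (fun z => Q i₀ ≫ z ≫ P i₀) (hcomm (P i₁ ≫ Q i₀) (P i₀ ≫ Q i₁))
  simp only [Category.assoc, reassoc_of% hQP i₀] at h
  rw [reassoc_of% hQP' i₀ i₁ (Ne.symm h01), reassoc_of% hQP i₁, zero_comp, hQP i₀] at h
  exact h0 h.symm

variable {k : Type u} [Field k] {X : Scheme.{u}} {f : X ⟶ Spec (CommRingCat.of k)} [IsProper f] {n : ℕ}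
  {K : Type u} [Field K] [Algebra k K] [IsAlgClosed K]

/-- A form of `O(1)` splits. -/
theorem nonempty_splitting_self (e : BrSev.Splitting f K n) {M : X.Modules} (hM : PicF.IsInvertible M)
    (hMt : BrSev.IsTwPow e 1 1 M) : Nonempty (BrSev.Splitting f k n) := by
  obtain ⟨N, ρ, hN, hρc, hρ, -⟩ := exists_closedImmersion_of_type e Nat.one_pos hM (d := 1) (by simpa using hMt)
  obtain rfl : N = n := by rw [Nat.choose_one_right] at hN; omega
  obtain ⟨κ, hκ, -⟩ := exists_projMap k K N
  let ρK : BrSev.bc f K ⟶ CohB1.ProjSpace N K := hκ.lift (BrSev.proj f K ≫ ρ) (BrSev.bcTo f K)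
    (by rw [Category.assoc, hρ]; exact pullback.condition)
  have h1 : ρK ≫ CohB1.ProjSpace.toSpec N K = BrSev.bcTo f K := hκ.lift_snd _ _ _
  have h2 : ρK ≫ κ = BrSev.proj f K ≫ ρ := hκ.lift_fst _ _ _
  have sq0 : IsPullback (BrSev.proj f K) (BrSev.bcTo f K) f (Spec.map (CommRingCat.ofHom (algebraMap k K))) :=
    IsPullback.of_hasPullback _ _
  have sq1 : IsPullback (BrSev.proj f K) ρK ρ κ := by
    refine IsPullback.of_bot ?_ h2.symm hκ
    rwa [h1, hρ]
  haveI := hρc
  haveI : IsClosedImmersion ρK := MorphismProperty.of_isPullback (P := @IsClosedImmersion) sq1 hρc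
  haveI := isIso_of_mono e ρK h1
  haveI : Surjective (Spec.map (CommRingCat.ofHom (algebraMap k K))) :=
    ⟨fun x => ⟨Classical.arbitrary _, Subsingleton.elim _ _⟩⟩
  haveI : Flat (Spec.map (CommRingCat.ofHom (algebraMap k K))) :=
    (HasRingHomProperty.Spec_iff (P := @Flat)).2 (RingHom.flat_algebraMap_iff.2 inferInstance)
  haveI : Surjective κ := MorphismProperty.of_isPullback (P := @Surjective) hκ.flip inferInstance
  haveI : Flat κ := MorphismProperty.of_isPullback (P := @Flat) hκ.flip inferInstance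
  haveI : QuasiCompact κ := MorphismProperty.of_isPullback (P := @QuasiCompact) hκ.flip inferInstance
  haveI : IsIso ρ := MorphismProperty.of_isPullback_of_descendsAlong (P := MorphismProperty.isomorphisms Scheme.{u})
    (Q := @Surjective ⊓ @Flat ⊓ @QuasiCompact) sq1.flip ⟨⟨inferInstance, inferInstance⟩, inferInstance⟩
    (inferInstanceAs (IsIso ρK))
  haveI : IsIso (Spec.map (CommRingCat.ofHom (algebraMap k k))) := by
    rw [Algebra.algebraMap_self, CommRingCat.ofHom_id, Spec.map_id]
    infer_instance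
  haveI : IsIso (BrSev.proj f k) := (IsPullback.of_hasPullback f _).isIso_fst_of_isIso
  refine ⟨⟨asIso (BrSev.proj f k) ≪≫ asIso ρ, ?_⟩⟩
  simp only [Iso.trans_hom, asIso_hom, Category.assoc, hρ]
  refine (pullback.condition).trans ((congrArg (fun ψ => BrSev.bcTo f k ≫ ψ) ?_).trans (Category.comp_id _))
  rw [Algebra.algebraMap_self, CommRingCat.ofHom_id, Spec.map_id]

omit [IsProper f] [IsAlgClosed K] in
/-- Severi–Brauer schemes over finite fields split. -/
theorem nonempty_splitting_of_finite [Finite k] [Module.Finite k K] (e' : BrSev.Splitting f K n) :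
    Nonempty (BrSev.Splitting f k n) := by
  haveI := isProper_of_splitting e'
  haveI : Finite K := Module.finite_of_finite k
  haveI : IsGalois k K := GaloisField.instIsGaloisOfFinite
  let Ω := AlgebraicClosure K
  obtain ⟨e⟩ := exists_splitting_extend e' Ω
  haveI : Algebra.IsAlgebraic k Ω := Algebra.IsAlgebraic.trans k K Ω
  obtain ⟨W, r, hW, hWi, hr, hWt⟩ := exists_type e' e 1
  letI : X.Over (Spec (CommRingCat.of k)) := ⟨f⟩
  haveI : IsProper (X ↘ Spec (CommRingCat.of k)) := inferInstanceAs (IsProper f)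
  haveI : IsLocallyNoetherian X := LocallyOfFiniteType.isLocallyNoetherian f
  haveI : CompactSpace X := QuasiCompact.compactSpace_of_compactSpace f
  letI : (BrSev.bc f Ω).Over (Spec (CommRingCat.of Ω)) := ⟨BrSev.bcTo f Ω⟩
  haveI : IsProper (BrSev.bc f Ω ↘ Spec (CommRingCat.of Ω)) :=
    inferInstanceAs (IsProper (pullback.snd f (Spec.map (CommRingCat.ofHom (algebraMap k Ω)))))
  have sq : IsPullback (BrSev.proj f Ω) (BrSev.bc f Ω ↘ Spec (CommRingCat.of Ω)) (X ↘ Spec (CommRingCat.of k))
      (Spec.map (CommRingCat.ofHom (algebraMap k Ω))) := IsPullback.of_hasPullback _ _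
  haveI := BrSevSplit.isIntegral_projSpace (k := Ω) (n := n)
  haveI : Nonempty (BrSev.bc f Ω) := ⟨e.iso.inv (IsIntegral.nonempty (X := CohB1.ProjSpace n Ω)).some⟩
  haveI : IsIntegral (BrSev.bc f Ω) := isIntegral_of_isOpenImmersion e.iso.hom
  have hWc := K0Coh.isCoh_of_isFinLocFree hW
  have hL := end_invertible_eq_zero_or_isIso (pullback.snd f _) (isInvertible_twist e 1)
  obtain ⟨a⟩ := id hWt
  haveI : Nontrivial (End W) := ⟨⟨1, 0, fun h => hWi.1 ((IsZero.iff_id_eq_zero W).2 h)⟩⟩
  letI iD : DivisionRing (End W) := DivisionRing.ofIsUnitOrEqZero fun φ => by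
    by_cases hφ : φ = 0
    · exact Or.inr hφ
    · exact Or.inl ((isUnit_iff_isIso _).2 (isIso_of_indec (BrSev.proj f Ω) sq hWc hWi hL a φ hφ))
  haveI := finite_end (k := k) hWc
  haveI : Finite (End W) := Module.finite_of_finite k
  have hc : ∀ φ ψ : W ⟶ W, φ ≫ ψ = ψ ≫ φ := fun φ ψ =>
    letI := littleWedderburn (End W)
    mul_comm (End.of ψ) (End.of φ)
  obtain rfl := multiplicity_eq_one_of_comm (BrSev.proj f Ω) sq hWc hc
    (fun h => (indec_twist e 1).1 ((IsZero.iff_id_eq_zero _).2 h)) hr a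
  exact nonempty_splitting_self e (isInvertible_of_twPow_one e hW hWt) hWt

end Groth.Agent.KrullSch
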