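import Groth.Agent.KrullSch.UnivQuot
import Groth.Agent.GrassQ.Hom
import Groth.Agent.LinkedGrass.DirectSum
import Groth.Agent.W7Strat.Frame
import Mathlib

/-! Inverse images of the universal quotient determine points. -/

set_option autoImplicit false
set_option backward.isDefEq.respectTransparency false
set_option backward.isDefEq.respectTransparency.types false
set_option linter.style.haveILetI false
set_option maxHeartbeats 1000000

universe u

open CategoryTheory CategoryTheory.Limits AlgebraicGeometry TopologicalSpace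
open scoped TensorProduct
open Module
open Groth.Agent.QC (res resO res_res resO_resO res_self res_smul app_res)

noncomputable section

namespace Groth.Agent.KrullSch

namespace Univ

variable {k : Type u} [Field k] {A : Type u} [Ring A] [Algebra k A] {c : ℕ} {X : Scheme.{u}}
  [X.Over (Spec (CommRingCat.of k))] (b : BrSev.SBStr k A c (X ↘ Spec (CommRingCat.of k)))
  {m : ℕ} (β : Basis (Fin m) k A)

theorem toQuot_single (V : X.affineOpens) (i : Fin m) :
    toQuot b β V (Pi.single i 1) = res (quot b β) le_top (gens b β i) := by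
  show (proj b β).app V.1 ((crd V.1).symm (Pi.single i 1)) = _
  rw [← crd_bv V.1 i, LinearEquiv.symm_apply_apply, ← app_res]
  rfl

theorem toQuot_eq (V : X.affineOpens) (η : Fin m → Γ(X, V.1)) :
    toQuot b β V η = ∑ i, η i • res (quot b β) le_top (gens b β i) := by
  classical
  conv_lhs => rw [pi_eq_sum_univ' η]
  rw [map_sum]
  exact Finset.sum_congr rfl fun i _ => by rw [map_smul, toQuot_single]

/-- The rank of the universal quotient. -/
theorem isFinLocFreeOfRank_quot {n : ℕ} (hn : n + c = m) : FlatMod.IsFinLocFreeOfRank n (quot b β) := by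
  refine W7Strat.isFinLocFreeOfRank_of_frames fun x => ?_
  obtain ⟨U, k', e, hx, he⟩ := TMul.exists_isFrame (isFinLocFree_quot b β) x
  obtain ⟨V, hxV, hle⟩ := KosExt.exists_affine_le hx
  haveI : Nonempty V.1 := ⟨⟨x, hxV⟩⟩
  haveI : Nontrivial Γ(X, V.1) := inferInstance
  obtain ⟨p⟩ : Nonempty (PrimeSpectrum Γ(X, V.1)) := inferInstance
  have h1 := perp_rank β (idl b (𝟙 X) V).1 p
  rw [Module.rankAtStalk_eq_of_equiv ((sectEquiv b β V).trans (he.equiv hle).symm),
    Module.rankAtStalk_eq_finrank_of_free, Module.finrank_pi, Fintype.card_fin] at h1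
  simp only [Pi.natCast_apply, Nat.cast_id] at h1
  obtain rfl : k' = n := by omega
  exact ⟨U, e, hx, he⟩

variable {T : Scheme.{u}} [T.Over (Spec (CommRingCat.of k))] (z : T ⟶ X) [z.IsOver (Spec (CommRingCat.of k))]

/-- The inverse images of the generators. -/
def pgen (i : Fin m) : Γ((Scheme.Modules.pullback z).obj (quot b β), ⊤) := ProjUP.pullSec z (quot b β) (gens b β i)

/-- Combinations of the inverse images of the generators. -/
def comb (W : T.Opens) : (Fin m → Γ(T, W)) →ₗ[Γ(T, W)] Γ((Scheme.Modules.pullback z).obj (quot b β), W) :=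
  Fintype.linearCombination Γ(T, W) fun i => res _ le_top (pgen b β z i)

theorem comb_apply (W : T.Opens) (η : Fin m → Γ(T, W)) :
    comb b β z W η = ∑ i, η i • res _ le_top (pgen b β z i) :=
  Fintype.linearCombination_apply _ _ _

theorem resθ_toQuot {V : X.affineOpens} {W : T.Opens} (h : W ≤ z ⁻¹ᵁ V.1) (η : Fin m → Γ(X, V.1)) :
    RelTilde.resθ z ((Scheme.Modules.pullbackPushforwardAdjunction z).unit.app (quot b β)) h (toQuot b β V η) =
      comb b β z W fun i => (z.appLE V.1 W h).hom (η i) := by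
  rw [toQuot_eq, comb_apply, map_sum]
  refine Finset.sum_congr rfl fun i _ => ?_
  rw [map_smulₛₗ]
  refine congrArg (_ • ·) ?_
  show res _ h (OmegaSh.pullSect z (quot b β) V.1 (res (quot b β) le_top (gens b β i))) = _
  rw [PBundle.pullSect_res, res_res]
  rfl

theorem comb_perp {V : X.affineOpens} {W : T.Opens} (h : W ≤ z ⁻¹ᵁ V.1) {η : Fin m → Γ(X, V.1)}
    (hη : η ∈ ann b β V) : comb b β z W (fun i => (z.appLE V.1 W h).hom (η i)) = 0 := by
  rw [← ker_toQuot b β V, LinearMap.mem_ker] at hη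
  rw [← resθ_toQuot, hη, map_zero]

theorem comb_surjective {V : X.affineOpens} {W : T.affineOpens} (h : W.1 ≤ z ⁻¹ᵁ V.1) :
    Function.Surjective (comb b β z W.1) := by
  rw [← LinearMap.range_eq_top, ← top_le_iff, ← GrassQ.span_resθ_eq_top (isQCoh_quot b β) V.2 W.2 h,
    Submodule.span_le]
  rintro _ ⟨q, rfl⟩
  obtain ⟨η, rfl⟩ := toQuot_surjective b β V q
  exact ⟨_, (resθ_toQuot b β z h η).symm⟩

theorem pairB_eq_zero_of_comb {V : X.affineOpens} {W : T.affineOpens} (h : W.1 ≤ z ⁻¹ᵁ V.1)
    {η' : Fin m → Γ(T, W.1)} (hη : comb b β z W.1 η' = 0) {x : Γ(T, W.1) ⊗[k] A}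
    (hx : x ∈ (idl b z W).1.toSubmodule) : pairB β η' x = 0 := by
  classical
  choose pre hpre using toQuot_surjective b β V
  let φ := appAlg (k := k) z h
  have hwd : ∀ η η₀, toQuot b β V η = toQuot b β V η₀ →
      pairB β (fun i => φ (η i)) x = pairB β (fun i => φ (η₀ i)) x := fun η η₀ he => by
    have h1 : η - η₀ ∈ ann b β V := by
      rw [← ker_toQuot b β V, LinearMap.mem_ker, map_sub, he, sub_self]
    have h2 := map_mem_perp β (idl b (𝟙 X) V).1 φ h1 x (by
      rw [← idl_appLE b (𝟙 X) z z (Category.comp_id z) V W h]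
      exact hx)
    rw [show (fun i => φ ((η - η₀) i)) = (fun i => φ (η i)) - fun i => φ (η₀ i) from
      funext fun i => map_sub φ _ _, map_sub, LinearMap.sub_apply, sub_eq_zero] at h2
    exact h2
  let w : Γ(quot b β, V.1) →ₛₗ[(z.appLE V.1 W.1 h).hom] Γ(T, W.1) :=
    { toFun := fun q => pairB β (fun i => φ (pre q i)) x
      map_add' := fun q q' => by
        rw [hwd (pre (q + q')) (pre q + pre q') (by rw [map_add, hpre, hpre, hpre]),
          show (fun i => φ ((pre q + pre q') i)) = (fun i => φ (pre q i)) + fun i => φ (pre q' i) from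
            funext fun i => map_add φ _ _, map_add, LinearMap.add_apply]
      map_smul' := fun r q => by
        rw [hwd (pre (r • q)) (r • pre q) (by rw [map_smul, hpre, hpre]),
          show (fun i => φ ((r • pre q) i)) = φ r • fun i => φ (pre q i) from
            funext fun i => map_mul φ _ _, map_smul, LinearMap.smul_apply]
        rfl }
  obtain ⟨F, hF, -⟩ := RelTilde.isBC_unit z (isQCoh_quot b β) V.2 W.2 h _ w
  have hgen : ∀ i, F (res _ le_top (pgen b β z i)) = pairB β (Pi.single i 1) x := fun i => by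
    have h1 := hF (toQuot b β V (Pi.single i 1))
    rw [resθ_toQuot, comb_apply, Finset.sum_eq_single i (fun j _ hj => by
      rw [Pi.single_eq_of_ne hj, map_zero, zero_smul]) (fun hi => absurd (Finset.mem_univ i) hi),
      Pi.single_eq_same, map_one, one_smul] at h1
    refine h1.trans ((hwd _ _ (hpre _)).trans ?_)
    congr 1
    congr 1
    funext j
    rcases eq_or_ne j i with rfl | hj
    · rw [Pi.single_eq_same, Pi.single_eq_same, map_one]
    · rw [Pi.single_eq_of_ne hj, Pi.single_eq_of_ne hj, map_zero]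
  have h2 := congrArg F hη
  rw [comb_apply, map_sum, map_zero] at h2
  simp only [map_smul, hgen] at h2
  rw [← h2]
  conv_lhs => rw [pi_eq_sum_univ' η', map_sum, LinearMap.sum_apply]
  simp only [map_smul, LinearMap.smul_apply]

/-- Points with comparable relations between the generators are equal. -/
theorem eq_of_comb (z₁ z₂ : T ⟶ X) [z₁.IsOver (Spec (CommRingCat.of k))] [z₂.IsOver (Spec (CommRingCat.of k))]
    (h : ∀ (W : T.affineOpens) (η : Fin m → Γ(T, W.1)), comb b β z₁ W.1 η = 0 → comb b β z₂ W.1 η = 0) :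
    z₁ = z₂ := by
  let I := {p : T.affineOpens × X.affineOpens × X.affineOpens //
    p.1.1 ≤ z₁ ⁻¹ᵁ p.2.1.1 ∧ p.1.1 ≤ z₂ ⁻¹ᵁ p.2.2.1}
  refine eq_of_idl_eq b z₁ z₂ (fun p : I => p.1.1) (fun t => ?_) fun p => ?_
  · obtain ⟨V₁, h1, -⟩ := KosExt.exists_affine_le (X := X) (O := ⊤) (x := z₁ t) trivial
    obtain ⟨V₂, h2, -⟩ := KosExt.exists_affine_le (X := X) (O := ⊤) (x := z₂ t) trivial
    obtain ⟨W, htW, hW⟩ := KosExt.exists_affine_le (X := T) (O := z₁ ⁻¹ᵁ V₁.1 ⊓ z₂ ⁻¹ᵁ V₂.1) (x := t) ⟨h1, h2⟩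
    exact ⟨⟨(W, V₁, V₂), hW.trans inf_le_left, hW.trans inf_le_right⟩, htW⟩
  obtain ⟨⟨W, V₁, V₂⟩, h₁, h₂⟩ := p
  refine (congrArg Module.Grassmannian.toSubmodule (LinkedGrass.eq_of_le (N := (idl b z₂ W).1)
    (N' := (idl b z₁ W).1) fun x hx => ?_)).symm
  rw [idl_appLE b (𝟙 X) z₁ z₁ (Category.comp_id z₁) V₁ W h₁]
  refine mem_map_of_forall β _ _ fun η hη => ?_
  exact pairB_eq_zero_of_comb b β z₂ h₂ (h W _ (comb_perp b β z₁ h₁ hη)) hx

end Univ

end Groth.Agent.KrullSch
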