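import Groth.Agent.KrullSch.UnivPull
import Groth.Agent.KrullSch.Twist
import Groth.Agent.KrullSch.EndBrauer
import Groth.Agent.S3572
import Groth.Agent.S10829
import Groth.Agent.BrSevSplit.GrassOne
import Groth.Agent.PBundle.Free
import Groth.Agent.Brauer.Period
import Groth.Agent.ModDesc.LocFreeDesc
import Groth.Agent.LocFree.Rank
import Groth.Agent.ZeroSch.Basic
import Groth.Agent.SGA6Ext.Model
import Mathlib

/-! The universal quotient of a Severi–Brauer scheme becomes a power of an invertible module. -/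

set_option autoImplicit false
set_option backward.isDefEq.respectTransparency false
set_option backward.isDefEq.respectTransparency.types false
set_option linter.style.haveILetI false
set_option maxHeartbeats 1000000

universe u

open CategoryTheory CategoryTheory.Limits AlgebraicGeometry TopologicalSpace
open scoped TensorProduct
open Module
open Groth.Agent.QC (res resO res_res resO_resO res_self res_smul app_res)

attribute [local instance] CategoryTheory.Abelian.hasFiniteBiproducts

noncomputable section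

namespace Groth.Agent.KrullSch

namespace Univ

open W7Cech (secRing resO_secRing secRing_comm)

variable {k : Type u} [Field k] {A : Type u} [Ring A] [Algebra k A] {c : ℕ} {X : Scheme.{u}}
  [X.Over (Spec (CommRingCat.of k))] (b : BrSev.SBStr k A c (X ↘ Spec (CommRingCat.of k)))
  {m : ℕ} (β : Basis (Fin m) k A)

/-- The action on the generators. -/
theorem act_gens (a : A) (i : Fin m) :
    (act b β a).app ⊤ (gens b β i) = ∑ j, secRing (X := X) k (⊤ : X.Opens) (β.repr (a * β j) i) • gens b β j := by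
  refine QC.section_eq_of_locally fun x _ => ?_
  obtain ⟨V, hxV, -⟩ := KosExt.exists_affine_le (X := X) (O := ⊤) (x := x) trivial
  refine ⟨V.1, le_top, hxV, ?_⟩
  have h1 : res (quot b β) (le_top : V.1 ≤ ⊤) ((act b β a).app ⊤ (gens b β i)) =
      toQuot b β V (tr β a (Pi.single i 1)) := by
    rw [app_res]
    have h2 : res (quot b β) (le_top : V.1 ≤ ⊤) (gens b β i) =
        (proj b β).app V.1 (res _ le_top (PBundle.bv X i)) := app_res (proj b β) _ _
    rw [h2]
    refine (congrArg (fun φ : FlatMod.freeMod X m ⟶ quot b β => φ.app V.1 (res _ le_top (PBundle.bv X i)))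
      (proj_act b β a)).trans ?_
    show (proj b β).app V.1 ((trHom β a).app V.1 (res _ le_top (PBundle.bv X i))) =
      (proj b β).app V.1 ((crd V.1).symm (tr β a (Pi.single i 1)))
    rw [← crd_bv V.1 i, ← trHom_spec, LinearEquiv.symm_apply_apply]
  rw [h1, toQuot_eq, map_sum]
  refine Finset.sum_congr rfl fun j _ => ?_
  rw [res_smul, resO_secRing]
  refine congrArg (fun r : Γ(X, V.1) => r • res (quot b β) le_top (gens b β j)) ?_
  show pairB β (Pi.single i 1) ((1 : Γ(X, V.1)) ⊗ₜ[k] (a * β j)) = _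
  rw [pairB_apply, Finset.sum_eq_single i (fun l _ hl => by rw [Pi.single_eq_of_ne hl, zero_mul])
    (fun hi => absurd (Finset.mem_univ i) hi), Pi.single_eq_same, one_mul, Basis.baseChange_repr_tmul,
    Algebra.smul_def, mul_one, algebraMap_sec]

variable {K : Type u} [Field K] [Algebra k K] {T : Scheme.{u}} [T.Over (Spec (CommRingCat.of K))] (g : T ⟶ X)
  (sq : IsPullback g (T ↘ Spec (CommRingCat.of K)) (X ↘ Spec (CommRingCat.of k))
    (Spec.map (CommRingCat.ofHom (algebraMap k K))))

/-- The generators on the extension. -/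
def pg (i : Fin m) : Γ((Scheme.Modules.pullback g).obj (quot b β), ⊤) := ProjUP.pullSec g (quot b β) (gens b β i)

/-- Combinations with constant coefficients. -/
def G (v : Fin m → K) : Γ((Scheme.Modules.pullback g).obj (quot b β), ⊤) :=
  ∑ i, secRing K (⊤ : T.Opens) (v i) • pg b β g i

theorem G_add (v w : Fin m → K) : G b β g (v + w) = G b β g v + G b β g w := by
  simp only [G, Pi.add_apply, map_add, add_smul, Finset.sum_add_distrib]

theorem G_smul (r : K) (v : Fin m → K) : G b β g (r • v) = secRing K (⊤ : T.Opens) r • G b β g v := by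
  simp only [G, Pi.smul_apply, smul_eq_mul, map_mul, mul_smul, Finset.smul_sum]

theorem G_zero : G b β g (0 : Fin m → K) = 0 := by simp [G]

theorem G_single (i : Fin m) : G b β g (Pi.single i (1 : K)) = pg b β g i := by
  rw [G, Finset.sum_eq_single i (fun l _ hl => by rw [Pi.single_eq_of_ne hl, map_zero, zero_smul])
    (fun hi => absurd (Finset.mem_univ i) hi), Pi.single_eq_same, map_one, one_smul]

include sq in
theorem act_G (a : A) (v : Fin m → K) :
    ((Scheme.Modules.pullback g).map (act b β a)).app ⊤ (G b β g v) = G b β g (tr β a v) := by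
  have h1 : ∀ i, ((Scheme.Modules.pullback g).map (act b β a)).app ⊤ (pg b β g i) =
      ∑ j, secRing K (⊤ : T.Opens) (algebraMap k K (β.repr (a * β j) i)) • pg b β g j := fun i => by
    refine (QC.app_pullSect g (act b β a) ⊤ (gens b β i)).trans ?_
    rw [act_gens, map_sum]
    refine Finset.sum_congr rfl fun j _ => ?_
    rw [OmegaSh.pullSect_smul, secRing_comm k K g sq]
    rfl
  rw [G, map_sum]
  simp only [Scheme.Modules.Hom.app_smul, h1, Finset.smul_sum]
  rw [Finset.sum_comm, G]
  refine Finset.sum_congr rfl fun j _ => ?_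
  simp only [← mul_smul, ← map_mul, ← Finset.sum_smul, ← map_sum]
  refine congrArg (fun r : K => secRing K (⊤ : T.Opens) r • pg b β g j) ?_
  show _ = pairB β v ((1 : K) ⊗ₜ[k] (a * β j))
  simp only [pairB_apply, Basis.baseChange_repr_tmul, Algebra.smul_def, mul_one]

variable [IsAlgClosed K] [ConnectedSpace T]

include sq in
/-- The decomposition of the inverse image of the universal quotient. -/
theorem exists_decomp [Algebra.IsCentral k A] [IsSimpleRing A] [Module.Finite k A] {n : ℕ} (hn : 0 < n)
    (hm : m = n * n) (hc : n + c = m) :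
    ∃ (L : T.Modules) (π : Fin n → ((Scheme.Modules.pullback g).obj (quot b β) ⟶ L))
      (ι : Fin n → (L ⟶ (Scheme.Modules.pullback g).obj (quot b β))) (s : Fin n → Γ(L, ⊤))
      (C : Fin n → Fin m → Fin n → K),
      PicF.IsInvertible L ∧ Nonempty ((Scheme.Modules.pullback g).obj (quot b β) ≅ ∐ fun _ : Fin n => L) ∧
      (∑ j, π j ≫ ι j) = 𝟙 _ ∧ ProjUP.GeneratedBy L s ∧
      ∀ j i, (π j).app ⊤ (pg b β g i) = ∑ l, secRing K (⊤ : T.Opens) (C j i l) • s l := by
  classical
  have hA : Brauer.IsCSA k A := ⟨inferInstance, inferInstance, inferInstance⟩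
  have hB := hA.op.baseChange K
  haveI := hB.simple; haveI := hB.finite; haveI := hB.central
  obtain ⟨n', -, ⟨e₀⟩⟩ := IsSimpleRing.exists_algEquiv_matrix_of_isAlgClosed K (K ⊗[k] Aᵐᵒᵖ)
  obtain rfl : n' = n := by
    have h1 := e₀.toLinearEquiv.finrank_eq
    rw [Module.finrank_baseChange, ← (MulOpposite.opLinearEquiv k).finrank_eq, Module.finrank_eq_card_basis β,
      Fintype.card_fin, Module.finrank_matrix, Module.finrank_self, Fintype.card_fin, mul_one, hm] at h1
    exact (Nat.mul_self_inj.1 h1).symm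
  let i0 : Fin n' := ⟨0, hn⟩
  let q := (Scheme.Modules.pullback g).obj (quot b β)
  letI : Algebra k (End q) := ((algebraMap K (End q)).comp (algebraMap k K)).toAlgebra'
    fun r x => Algebra.commutes (algebraMap k K r) x
  haveI : IsScalarTower k K (End q) := IsScalarTower.of_algebraMap_eq fun r => rfl
  let Ψ₀ : Aᵐᵒᵖ →ₐ[k] End q :=
    { toFun := fun a => (Scheme.Modules.pullback g).map (actHom b β a)
      map_one' := by rw [map_one]; exact (Scheme.Modules.pullback g).map_id _
      map_mul' := fun a a' => by rw [map_mul]; exact (Scheme.Modules.pullback g).map_comp _ _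
      map_zero' := by rw [map_zero]; exact Functor.map_zero _ _ _
      map_add' := fun a a' => by rw [map_add]; exact Functor.map_add _
      commutes' := fun r => by
        rw [AlgHom.commutes]
        show (Scheme.Modules.pullback g).map (r • 𝟙 (quot b β)) = algebraMap k K r • 𝟙 q
        rw [pullback_map_smul g sq, CategoryTheory.Functor.map_id] }
  let Ψ : K ⊗[k] Aᵐᵒᵖ →ₐ[K] End q :=
    Algebra.TensorProduct.lift (Algebra.ofId K _) Ψ₀ fun r a => Algebra.commutes r _
  let ρ₀ : Aᵐᵒᵖ →ₐ[k] Module.End K (Fin m → K) :=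
    { toFun := fun a => tr β a.unop
      map_one' := LinearMap.ext fun v => funext fun j => by
        show pairB β v ((1 : K) ⊗ₜ[k] (1 * β j)) = v j
        rw [one_mul, pairB_basis]
      map_mul' := fun a a' => LinearMap.ext fun v => by
        show tr β (a'.unop * a.unop) v = tr β a.unop (tr β a'.unop v)
        rw [tr_mul]
      map_zero' := LinearMap.ext fun v => funext fun j => by
        show pairB β v ((1 : K) ⊗ₜ[k] ((0 : A) * β j)) = 0
        rw [zero_mul, TensorProduct.tmul_zero, map_zero]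
      map_add' := fun a a' => LinearMap.ext fun v => funext fun j => by
        show pairB β v ((1 : K) ⊗ₜ[k] ((a.unop + a'.unop) * β j)) = _
        rw [add_mul, TensorProduct.tmul_add, map_add]
        rfl
      commutes' := fun r => LinearMap.ext fun v => funext fun j => by
        show pairB β v ((1 : K) ⊗ₜ[k] (algebraMap k A r * β j)) = (r • v) j
        rw [← Algebra.smul_def, TensorProduct.tmul_smul, ← algebraMap_smul K r, map_smul, pairB_basis,
          algebraMap_smul]
        rfl }
  let ρ : K ⊗[k] Aᵐᵒᵖ →ₐ[K] Module.End K (Fin m → K) :=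
    Algebra.TensorProduct.lift (Algebra.ofId K _) ρ₀ fun r a => Algebra.commutes r _
  have hG : ∀ x v, (Ψ x : q ⟶ q).app ⊤ (G b β g v) = G b β g (ρ x v) := by
    intro x v
    induction x using TensorProduct.induction_on with
    | zero =>
      rw [map_zero, map_zero, LinearMap.zero_apply, G_zero]
      rfl
    | tmul r a =>
      have eΨ : Ψ (r ⊗ₜ[k] a) = r • Ψ₀ a := by
        rw [Algebra.TensorProduct.lift_tmul, Algebra.smul_def]; rfl
      have eρ : ρ (r ⊗ₜ[k] a) v = r • ρ₀ a v := by
        rw [Algebra.TensorProduct.lift_tmul]; rfl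
      rw [eΨ, eρ, G_smul]
      show (r • (Scheme.Modules.pullback g).map (actHom b β a)).app ⊤ _ = _
      rw [hom_smul_app]
      exact congrArg (_ • ·) (act_G b β g sq a.unop v)
    | add x y hx hy =>
      rw [map_add, map_add, LinearMap.add_apply, G_add, ← hx, ← hy]
      rfl
  let E : Fin n' → Fin n' → K ⊗[k] Aᵐᵒᵖ := fun i j => e₀.symm (Matrix.single i j 1)
  have hEm : ∀ i j l, E i j * E j l = E i l := fun i j l => by
    rw [← map_mul, Matrix.single_mul_single_same, mul_one]
  have hEne : ∀ i j j' l, j ≠ j' → E i j * E j' l = 0 := fun i j j' l h => by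
    rw [← map_mul, Matrix.single_mul_single_of_ne _ _ _ _ h, map_zero]
  have hE1 : ∑ j, E j j = 1 := by
    rw [← map_sum, show (∑ j, Matrix.single j j (1 : K)) = (1 : Matrix (Fin n') (Fin n') K) by
      ext a b
      rw [Matrix.sum_apply, Finset.sum_eq_single a (fun x _ hx => Matrix.single_apply_of_ne _ _ _ _ _ (by simp [hx]))
        (fun h' => absurd (Finset.mem_univ a) h')]
      simp [Matrix.single_apply, Matrix.one_apply], map_one]
  have hcomp : ∀ x y, (Ψ y : q ⟶ q) ≫ Ψ x = Ψ (x * y) := fun x y => (map_mul Ψ x y).symm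
  obtain ⟨L, i', p, hip, hpi⟩ := IsIdempotentComplete.idempotents_split q (Ψ (E i0 i0) : q ⟶ q)
    (by rw [hcomp, hEm])
  have hp0 : (Ψ (E i0 i0) : q ⟶ q) ≫ p = p := by
    rw [← hpi, Category.assoc, hip, Category.comp_id]
  have hi0 : i' ≫ (Ψ (E i0 i0) : q ⟶ q) = i' := by rw [← hpi, reassoc_of% hip]
  let π : Fin n' → (q ⟶ L) := fun j => (Ψ (E i0 j) : q ⟶ q) ≫ p
  let ι : Fin n' → (L ⟶ q) := fun j => i' ≫ (Ψ (E j i0) : q ⟶ q)
  have hsum : (∑ j, π j ≫ ι j) = 𝟙 q := by
    have : ∀ j, π j ≫ ι j = (Ψ (E j j) : q ⟶ q) := fun j => by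
      simp only [π, ι, Category.assoc, reassoc_of% hpi]
      rw [← Category.assoc (Ψ (E i0 j) : q ⟶ q), hcomp, hcomp, hEm, hEm]
    simp only [this]
    exact (map_sum Ψ _ _).symm.trans ((congrArg Ψ hE1).trans (map_one Ψ))
  have hιπ : ∀ j l, ι j ≫ π l = if j = l then 𝟙 L else 0 := fun j l => by
    simp only [π, ι, Category.assoc]
    rw [← Category.assoc (Ψ (E j i0) : q ⟶ q), hcomp]
    split_ifs with h
    · subst h
      rw [hEm, ← Category.assoc, hi0, hip]
    · rw [hEne _ _ _ _ (Ne.symm h), map_zero]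
      exact (congrArg (i' ≫ ·) zero_comp).trans comp_zero
  let iso : q ≅ ⨁ fun _ : Fin n' => L :=
    { hom := biproduct.lift π
      inv := biproduct.desc ι
      hom_inv_id := by rw [biproduct.lift_desc, hsum]
      inv_hom_id := biproduct.hom_ext' _ _ fun j => biproduct.hom_ext _ _ fun l => by
        simp only [Category.assoc, Category.comp_id]
        rw [biproduct.ι_desc_assoc, biproduct.lift_π, hιπ]
        split_ifs with h
        · subst h; rw [biproduct.ι_π_self]
        · rw [biproduct.ι_π_ne _ h] }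
  have hQr : FlatMod.IsFinLocFreeOfRank n' q := fun x => by
    obtain ⟨U, hU, ⟨w⟩⟩ := isFinLocFreeOfRank_quot b β hc (g x)
    exact ⟨g ⁻¹ᵁ U, hU, ModDesc.exists_free_pullback g w⟩
  have hQ : FlatMod.IsFinLocFree q := fun x => by
    obtain ⟨U, hU, w⟩ := hQr x
    exact ⟨U, n', hU, w⟩
  have hLf : FlatMod.IsFinLocFree L := isFinLocFree_retract hQ i' p hip
  have hL1 : FlatMod.IsFinLocFreeOfRank 1 L := by
    refine W7Strat.isFinLocFreeOfRank_of_frames fun x => ?_
    obtain ⟨U, k₁, e, hx, he⟩ := TMul.exists_isFrame hLf x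
    obtain ⟨U', k₂, e', hx', he'⟩ := TMul.exists_isFrame hQ x
    obtain ⟨W, hxW, hle⟩ := KosExt.exists_affine_le (O := U ⊓ U') (x := x) ⟨hx, hx'⟩
    have hk : k₂ = n' := (SGA6Ext.rk_of_frame he' hx').symm.trans (SGA6Ext.rk_of_rank hQr x)
    haveI : Nonempty W.1 := ⟨⟨x, hxW⟩⟩
    let Φ : Γ(q, W.1) ≃ₗ[Γ(T, W.1)] (Fin n' → Γ(L, W.1)) :=
      { toFun := fun s j => (π j).app W.1 s
        map_add' := fun s t => funext fun j => map_add _ s t
        map_smul' := fun r s => funext fun j => Scheme.Modules.Hom.app_smul (π j) r s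
        invFun := fun t => ∑ j, (ι j).app W.1 (t j)
        left_inv := fun s => by
          refine Eq.trans ?_ (congrArg (fun φ : q ⟶ q => φ.app W.1 s) hsum)
          let ev : (q ⟶ q) →+ Γ(q, W.1) := AddMonoidHom.mk' (fun ψ => ψ.app W.1 s) fun _ _ => rfl
          show (∑ j, (ι j).app W.1 ((π j).app W.1 s)) = ev (∑ j, π j ≫ ι j)
          exact (map_sum ev (fun j => π j ≫ ι j) Finset.univ).symm
        right_inv := fun t => funext fun l => by
          show (π l).app W.1 (∑ j, (ι j).app W.1 (t j)) = t l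
          have hjl : ∀ j, (π l).app W.1 ((ι j).app W.1 (t j)) = if j = l then t j else 0 := fun j => by
            refine (congrArg (fun φ : L ⟶ L => φ.app W.1 (t j)) (hιπ j l)).trans ?_
            split_ifs <;> rfl
          rw [map_sum, Finset.sum_congr rfl fun j _ => hjl j, Finset.sum_ite_eq' Finset.univ l t]
          simp }
    have h1 := (((he'.equiv (hle.trans inf_le_right)).trans Φ).trans
      (LinearEquiv.piCongrRight fun _ : Fin n' => (he.equiv (hle.trans inf_le_left)).symm)).finrank_eq
    haveI : Nontrivial Γ(T, W.1) := inferInstance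
    rw [Module.finrank_pi, Fintype.card_fin, Module.finrank_pi_fintype] at h1
    simp only [Module.finrank_pi, Fintype.card_fin, Finset.sum_const, Finset.card_univ, smul_eq_mul] at h1
    obtain rfl : k₁ = 1 := Nat.eq_of_mul_eq_mul_left hn (by rw [mul_one, ← h1, hk])
    exact ⟨U, e, hx, he⟩
  let P := LinearMap.range (ρ (E i0 i0))
  have hfix : ∀ v ∈ P, ρ (E i0 i0) v = v := by
    rintro _ ⟨w, rfl⟩
    rw [← Module.End.mul_apply, ← map_mul, hEm]
  have hin : ∀ j v, ρ (E i0 j) v ∈ P := fun j v => ⟨ρ (E i0 j) v, by rw [← Module.End.mul_apply, ← map_mul, hEm]⟩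
  let Φ : (Fin m → K) ≃ₗ[K] (Fin n' → P) :=
    { toFun := fun v j => ⟨ρ (E i0 j) v, hin j v⟩
      map_add' := fun v w => funext fun j => Subtype.ext (map_add _ v w)
      map_smul' := fun r v => funext fun j => Subtype.ext (map_smul _ r v)
      invFun := fun w => ∑ j, ρ (E j i0) (w j)
      left_inv := fun v => by
        show (∑ j, ρ (E j i0) (ρ (E i0 j) v)) = v
        simp only [← Module.End.mul_apply, ← map_mul, hEm]
        rw [← LinearMap.sum_apply, ← map_sum, hE1, map_one, Module.End.one_apply]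
      right_inv := fun w => funext fun l => Subtype.ext (by
        show ρ (E i0 l) (∑ j, ρ (E j i0) (w j : Fin m → K)) = w l
        rw [map_sum, Finset.sum_eq_single l]
        · rw [← Module.End.mul_apply, ← map_mul, hEm, hfix _ (w l).2]
        · intro j _ hj
          rw [← Module.End.mul_apply, ← map_mul, hEne _ _ _ _ (Ne.symm hj), map_zero, LinearMap.zero_apply]
        · exact fun h => absurd (Finset.mem_univ l) h) }
  have hP : Module.finrank K P = n' := by
    have h1 := Φ.finrank_eq
    rw [Module.finrank_pi, Fintype.card_fin, Module.finrank_pi_fintype, Finset.sum_const, Finset.card_univ,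
      Fintype.card_fin, smul_eq_mul] at h1
    exact (Nat.eq_of_mul_eq_mul_left hn (hm.symm.trans h1)).symm
  let B := Module.finBasisOfFinrankEq K P hP
  let s : Fin n' → Γ(L, ⊤) := fun l => p.app ⊤ (G b β g (B l : Fin m → K))
  have hps : ∀ v ∈ P, ∃ d : Fin n' → K, p.app ⊤ (G b β g v) = ∑ l, secRing K (⊤ : T.Opens) (d l) • s l :=
    fun v hv => by
      refine ⟨B.repr ⟨v, hv⟩, ?_⟩
      have h1 : v = ∑ l, B.repr ⟨v, hv⟩ l • (B l : Fin m → K) := by
        have h2 := congrArg (Submodule.subtype P) (B.sum_repr ⟨v, hv⟩)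
        rw [map_sum] at h2
        exact h2.symm
      let γ : (Fin m → K) →+ Γ(L, ⊤) := AddMonoidHom.mk' (fun v => p.app ⊤ (G b β g v)) fun v w => by
        rw [G_add, map_add]
      refine (congrArg γ h1).trans ((map_sum γ _ _).trans (Finset.sum_congr rfl fun l _ => ?_))
      show p.app ⊤ (G b β g _) = _
      rw [G_smul, Scheme.Modules.Hom.app_smul]
  have hC : ∀ j i, ∃ d : Fin n' → K, (π j).app ⊤ (pg b β g i) = ∑ l, secRing K (⊤ : T.Opens) (d l) • s l :=
    fun j i => by
      obtain ⟨d, hd⟩ := hps _ (hin j (Pi.single i 1))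
      refine ⟨d, Eq.trans ?_ hd⟩
      show p.app ⊤ ((Ψ (E i0 j) : q ⟶ q).app ⊤ (pg b β g i)) = _
      rw [← G_single (k := k) (K := K) b β g i]
      exact congrArg (fun z => p.app ⊤ z) (hG _ _)
  choose C hC using hC
  refine ⟨L, π, ι, s, C, ZeroSch.isInvertible_of_rankOne hL1, ⟨iso ≪≫ biproduct.isoCoproduct _⟩, hsum, ?_, hC⟩
  intro x
  obtain ⟨V, hxV, -⟩ := KosExt.exists_affine_le (X := X) (O := ⊤) (x := g x) trivial
  obtain ⟨W, hxW, hW⟩ := KosExt.exists_affine_le (X := T) (O := g ⁻¹ᵁ V.1) (x := x) hxV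
  have hπ0 : π i0 = p := hp0
  have hspan : Submodule.span Γ(T, W.1) (Set.range fun l => res L (le_top : W.1 ≤ ⊤) (s l)) = ⊤ := by
    rw [eq_top_iff]
    intro t _
    have ht : p.app W.1 (i'.app W.1 t) = t := congrArg (fun φ : L ⟶ L => φ.app W.1 t) hip
    rw [← ht]
    let N : Submodule Γ(T, W.1) Γ(q, W.1) :=
      (Submodule.span Γ(T, W.1) (Set.range fun l => res L (le_top : W.1 ≤ ⊤) (s l))).comap
        ({ toFun := fun z => p.app W.1 z
           map_add' := map_add _
           map_smul' := Scheme.Modules.Hom.app_smul p } : Γ(q, W.1) →ₗ[Γ(T, W.1)] Γ(L, W.1))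
    suffices hN : N = ⊤ from (show i'.app W.1 t ∈ N from hN ▸ trivial)
    rw [eq_top_iff, ← GrassQ.span_resθ_eq_top (isQCoh_quot b β) V.2 W.2 hW, Submodule.span_le]
    rintro _ ⟨z, rfl⟩
    obtain ⟨η, rfl⟩ := toQuot_surjective b β V z
    rw [toQuot_eq, map_sum]
    refine Submodule.sum_mem _ fun i _ => ?_
    rw [map_smulₛₗ]
    refine Submodule.smul_mem _ _ ?_
    show p.app W.1 (res q hW (OmegaSh.pullSect g (quot b β) V.1 (res (quot b β) le_top (gens b β i)))) ∈
      Submodule.span Γ(T, W.1) (Set.range fun l => res L (le_top : W.1 ≤ ⊤) (s l))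
    rw [PBundle.pullSect_res, res_res]
    suffices h : res L (le_top : W.1 ≤ ⊤) (p.app ⊤ (pg b β g i)) ∈
        Submodule.span Γ(T, W.1) (Set.range fun l => res L (le_top : W.1 ≤ ⊤) (s l)) by
      rw [app_res p] at h
      exact h
    have h3 : p.app ⊤ (pg b β g i) = ∑ l, secRing K (⊤ : T.Opens) (C i0 i l) • s l := hπ0 ▸ hC i0 i
    refine (congrArg (res L (le_top : W.1 ≤ ⊤)) h3).symm ▸ ?_
    rw [map_sum]
    refine Submodule.sum_mem _ fun l _ => ?_
    rw [res_smul]
    exact Submodule.smul_mem _ _ (Submodule.subset_span ⟨l, rfl⟩)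
  have h4 := LocFree.span_germ W.2 (LocFree.isQCoh_of_isFinLocFree hLf) hxW _ hspan
  rw [← h4]
  congr 1
  congr 1
  funext l
  exact (WeakAssLib.mgerm_res L (le_top : W.1 ≤ ⊤) hxW (s l)).symm

end Univ

end Groth.Agent.KrullSch
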